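import Mathlib
import Cfsg.Agent.Lib.ClassSize
import Cfsg.Agent.Invol.BaerSuzuki
import Cfsg.Agent.S0205

/-!
# Real elements and class sizes split by a set of primes

The shared basis for groups whose real class sizes are `π`-numbers or `π'`-numbers.
-/

set_option autoImplicit false
set_option linter.unusedSectionVars false

namespace Cfsg.Agent.RealGraph

open Subgroup

universe u

variable {G : Type u} [Group G] [Finite G]

/-- The class size of an element. -/
noncomputable def cls (x : G) : ℕ := (centralizer ({x} : Set G)).index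

/-- A `π`-number. -/
def PiNum (π : Set ℕ) (n : ℕ) : Prop := ∀ p : ℕ, p.Prime → p ∣ n → p ∈ π

/-- Every real class size is a `π`-number or a `π'`-number, and `2 ∈ π`. -/
structure Hyp (π : Set ℕ) (G : Type u) [Group G] : Prop where
  two : 2 ∈ π
  dich : ∀ x : G, IsConj x x⁻¹ → PiNum π (cls x) ∨ PiNum πᶜ (cls x)

/-- A non-trivial real element of odd prime power order. -/
def Nice (x : G) : Prop :=
  IsConj x x⁻¹ ∧ x ≠ 1 ∧ ∃ p k : ℕ, p.Prime ∧ p ≠ 2 ∧ orderOf x = p ^ k

variable {π : Set ℕ}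

theorem PiNum.coprime {m n : ℕ} (hm : PiNum π m) (hn : PiNum πᶜ n) : m.Coprime n :=
  Nat.coprime_of_dvd fun p hp h1 h2 => hn p hp h2 (hm p hp h1)

theorem PiNum.of_dvd {m n : ℕ} (hm : PiNum π m) (h : n ∣ m) : PiNum π n :=
  fun p hp h1 => hm p hp (h1.trans h)

theorem not_two_dvd_of_piNum_compl (h2 : 2 ∈ π) {n : ℕ} (hn : PiNum πᶜ n) : ¬ 2 ∣ n :=
  fun h => hn 2 Nat.prime_two h h2

theorem cls_pos (x : G) : 0 < cls x := Nat.pos_of_ne_zero Subgroup.index_ne_zero_of_finite

theorem cls_conj (g x : G) : cls (g * x * g⁻¹) = cls x := ClassSize.index_centralizer_conj g x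

theorem ncard_conj (x : G) : (conjugatesOf x).ncard = cls x := ClassSize.ncard_conjugatesOf x

theorem cls_eq_one_iff (x : G) : cls x = 1 ↔ x ∈ center G :=
  ClassSize.index_centralizer_eq_one_iff x

theorem cls_dvd_of_commute_imp {x y : G} (h : ∀ g, Commute g x → Commute g y) : cls y ∣ cls x :=
  Subgroup.index_dvd_of_le fun g hg =>
    mem_centralizer_singleton_iff.2 (h g (mem_centralizer_singleton_iff.1 hg)).eq

/-- An involutive map without fixed point lives on a set of even size. -/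
theorem even_card_of_involution {α : Type*} [Finite α] (f : α → α) (h : ∀ a, f (f a) = a)
    (hne : ∀ a, f a ≠ a) : 2 ∣ Nat.card α := by
  classical
  have := Fintype.ofFinite α
  have h1 : (∑ _a : α, (1 : ZMod 2)) = 0 :=
    Finset.sum_involution (fun a _ => f a) (fun a _ => by decide) (fun a _ _ => hne a)
      (fun a _ => Finset.mem_univ _) (fun a _ => h a)
  rw [Finset.sum_const, Finset.card_univ, nsmul_one, ZMod.natCast_eq_zero_iff_even] at h1
  rw [Nat.card_eq_fintype_card]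
  exact h1.two_dvd

theorem mem_conjugatesOf' {H : Type*} [Group H] {a b : H} : b ∈ conjugatesOf a ↔ IsConj a b :=
  Iff.rfl

theorem two_dvd_cls {x : G} (hx : IsConj x x⁻¹) (h2 : x * x ≠ 1) : 2 ∣ cls x := by
  rw [← ncard_conj, ← Nat.card_coe_set_eq]
  have hm : ∀ y ∈ conjugatesOf x, y⁻¹ ∈ conjugatesOf x := fun y hy => by
    rw [mem_conjugatesOf'] at hy ⊢
    obtain ⟨c, rfl⟩ := isConj_iff.1 hy
    refine hx.trans (isConj_iff.2 ⟨c, ?_⟩)
    group
  refine even_card_of_involution (fun y => ⟨(y : G)⁻¹, hm _ y.2⟩)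
    (fun y => Subtype.ext (inv_inv (y : G))) (fun y hy => h2 ?_)
  have e : (y : G)⁻¹ = y := congrArg Subtype.val hy
  obtain ⟨c, hc⟩ := isConj_iff.1 (mem_conjugatesOf'.1 y.2)
  replace e : (c * x * c⁻¹)⁻¹ = c * x * c⁻¹ := hc ▸ e
  have e' : c * x⁻¹ * c⁻¹ = c * x * c⁻¹ := by rw [← e]; group
  have e'' : x⁻¹ = x := mul_left_cancel (mul_right_cancel e')
  exact mul_eq_one_iff_eq_inv.2 e''.symm

theorem Hyp.piNum_of_sq (hyp : Hyp π G) {x : G} (hx : IsConj x x⁻¹) (h2 : x * x ≠ 1) :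
    PiNum π (cls x) :=
  (hyp.dich x hx).resolve_right fun h => not_two_dvd_of_piNum_compl hyp.two h (two_dvd_cls hx h2)

theorem sq_ne_one_of_odd {x : G} (ho : Odd (orderOf x)) (h1 : x ≠ 1) : x * x ≠ 1 := fun h => by
  have hd : orderOf x ∣ 2 := orderOf_dvd_of_pow_eq_one (by rw [pow_two, h])
  rcases (Nat.dvd_prime Nat.prime_two).1 hd with e | e
  · exact h1 (orderOf_eq_one_iff.1 e)
  · rw [e] at ho; exact absurd ho (by decide)

theorem Nice.odd {x : G} (h : Nice x) : Odd (orderOf x) := by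
  obtain ⟨-, -, p, k, hp, hp2, he⟩ := h
  rw [he]
  exact (hp.odd_of_ne_two hp2).pow

theorem Nice.sq_ne_one {x : G} (h : Nice x) : x * x ≠ 1 := sq_ne_one_of_odd h.odd h.2.1

theorem Nice.piNum (hyp : Hyp π G) {x : G} (h : Nice x) : PiNum π (cls x) :=
  hyp.piNum_of_sq h.1 h.sq_ne_one

theorem isConj_inv_of_conj {w x : G} (h : w * x * w⁻¹ = x⁻¹) : IsConj x x⁻¹ := isConj_iff.2 ⟨w, h⟩

theorem conj_pow_inv {w x : G} (h : w * x * w⁻¹ = x⁻¹) (n : ℕ) :
    w * x ^ n * w⁻¹ = (x ^ n)⁻¹ := by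
  rw [← conj_pow, h, inv_pow]

theorem conj_odd_pow_inv {w x : G} (h : w * x * w⁻¹ = x⁻¹) {m : ℕ} (hm : Odd m) :
    w ^ m * x * (w ^ m)⁻¹ = x⁻¹ := by
  obtain ⟨j, rfl⟩ := hm
  have hi : w * x⁻¹ * w⁻¹ = x := by
    rw [show w * x⁻¹ * w⁻¹ = (w * x * w⁻¹)⁻¹ by group, h, inv_inv]
  induction j with
  | zero => simpa using h
  | succ j ih =>
    rw [show 2 * (j + 1) + 1 = ((2 * j + 1) + 1) + 1 by ring, pow_succ', pow_succ']
    calc w * (w * w ^ (2 * j + 1)) * x * (w * (w * w ^ (2 * j + 1)))⁻¹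
        = w * (w * (w ^ (2 * j + 1) * x * (w ^ (2 * j + 1))⁻¹) * w⁻¹) * w⁻¹ := by group
      _ = x⁻¹ := by rw [ih, hi, h]

theorem exists_odd_two_pow (w : G) : ∃ m : ℕ, Odd m ∧ ∃ k : ℕ, orderOf (w ^ m) = 2 ^ k := by
  obtain ⟨k, m, hm, he⟩ := Nat.exists_eq_two_pow_mul_odd (orderOf_pos w).ne'
  refine ⟨m, hm, k, ?_⟩
  rw [orderOf_pow_of_dvd hm.pos.ne' ⟨2 ^ k, by rw [he, mul_comm]⟩, he,
    Nat.mul_div_cancel _ hm.pos]

/-- Some odd power of an inverting element is an inverting element of two-power order. -/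
theorem exists_two_inverter {w x : G} (h : w * x * w⁻¹ = x⁻¹) :
    ∃ m : ℕ, Odd m ∧ (∃ k : ℕ, orderOf (w ^ m) = 2 ^ k) ∧ w ^ m * x * (w ^ m)⁻¹ = x⁻¹ := by
  obtain ⟨m, hm, hk⟩ := exists_odd_two_pow w
  exact ⟨m, hm, hk, conj_odd_pow_inv h hm⟩

theorem exists_inverter {x : G} (hx : IsConj x x⁻¹) :
    ∃ w : G, (∃ k : ℕ, orderOf w = 2 ^ k) ∧ w * x * w⁻¹ = x⁻¹ := by
  obtain ⟨w, hw⟩ := isConj_iff.1 hx
  obtain ⟨m, -, h1, h2⟩ := exists_two_inverter hw
  exact ⟨w ^ m, h1, h2⟩

/-- A non-trivial real element of odd order has a nice power. -/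
theorem exists_nice_pow {x : G} (hx : IsConj x x⁻¹) (ho : Odd (orderOf x)) (h1 : x ≠ 1) :
    ∃ n : ℕ, Nice (x ^ n) := by
  obtain ⟨w, hw⟩ := isConj_iff.1 hx
  obtain ⟨p, hp, hd⟩ := Nat.exists_prime_and_dvd (fun e => h1 (orderOf_eq_one_iff.1 e))
  refine ⟨orderOf x / p, isConj_inv_of_conj (conj_pow_inv hw _), ?_, p, 1, hp, ?_, ?_⟩
  · intro e
    have := orderOf_pow_orderOf_div (orderOf_pos x).ne' hd
    rw [e, orderOf_one] at this
    exact hp.one_lt.ne this
  · rintro rfl
    exact Nat.not_even_iff_odd.2 ho (even_iff_two_dvd.2 hd)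
  · rw [orderOf_pow_orderOf_div (orderOf_pos x).ne' hd, pow_one]

theorem exists_sylow_le {H : Subgroup G} (h : ¬ 2 ∣ H.index) :
    ∃ P : Sylow 2 G, (P : Subgroup G) ≤ H := by
  have : Fact (Nat.Prime 2) := ⟨Nat.prime_two⟩
  obtain ⟨Q⟩ : Nonempty (Sylow 2 H) := inferInstance
  obtain ⟨P, hP⟩ := IsPGroup.exists_le_sylow (Q.isPGroup'.map H.subtype)
  refine ⟨P, ?_⟩
  have e : (Q : Subgroup H).map H.subtype = (P : Subgroup G) :=
    Subgroup.eq_of_le_of_card_ge hP (le_of_eq (by
      rw [Subgroup.card_subtype, Q.card_eq_multiplicity, P.card_eq_multiplicity,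
        ← H.card_mul_index, Nat.factorization_mul Nat.card_pos.ne'
          Subgroup.index_ne_zero_of_finite, Finsupp.add_apply,
        Nat.factorization_eq_zero_of_not_dvd h, add_zero]))
  rw [← e]
  exact Subgroup.map_subtype_le _

/-- A two-element commutes with a conjugate of an element of odd class size. -/
theorem exists_conj_commute {u t : G} (hu : ∃ k : ℕ, orderOf u = 2 ^ k) (ht : ¬ 2 ∣ cls t) :
    ∃ g : G, Commute u (g * t * g⁻¹) := by
  have : Fact (Nat.Prime 2) := ⟨Nat.prime_two⟩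
  obtain ⟨P, hP⟩ := exists_sylow_le ht
  obtain ⟨k, hk⟩ := hu
  obtain ⟨Q, hQ⟩ := IsPGroup.exists_le_sylow (p := 2) (P := zpowers u)
    (IsPGroup.of_card (n := k) (by rw [Nat.card_zpowers, hk]))
  obtain ⟨g, rfl⟩ := MulAction.exists_smul_eq G P Q
  obtain ⟨q, hq, hqu⟩ := hQ (mem_zpowers u)
  refine ⟨g, ?_⟩
  have hc : Commute q t := mem_centralizer_singleton_iff.1 (hP hq)
  have := hc.map (MulAut.conj g).toMonoidHom
  rw [← hqu]
  exact this

theorem relIndex_eq_of_coprime (H K : Subgroup G) (h : H.index.Coprime K.index) :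
    H.relIndex K = H.index := by
  refine le_antisymm ?_ ?_
  · rw [← H.relIndex_top_right]
    exact Subgroup.relIndex_le_of_le_right le_top
      (by rw [H.relIndex_top_right]; exact Subgroup.index_ne_zero_of_finite)
  have hd : H.index ∣ H.relIndex K * K.index := by
    rw [← inf_relIndex_right, relIndex_mul_index inf_le_right]
    exact index_dvd_of_le inf_le_left
  exact Nat.le_of_dvd (Nat.pos_of_ne_zero (Subgroup.index_ne_zero_of_finite (H := H.subgroupOf K)))
    (h.dvd_of_dvd_mul_right hd)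

theorem index_inf_eq_of_coprime (H K : Subgroup G) (h : H.index.Coprime K.index) :
    (H ⊓ K).index = H.index * K.index := by
  rw [← relIndex_mul_index (inf_le_right : H ⊓ K ≤ K), inf_relIndex_right,
    relIndex_eq_of_coprime H K h]

/-- Subgroups of coprime index multiply to the whole group. -/
theorem exists_mul_of_coprime (H K : Subgroup G) (h : H.index.Coprime K.index) (g : G) :
    ∃ a ∈ K, ∃ b ∈ H, g = a * b := by
  have hr : Nat.card (K ⧸ H.subgroupOf K) = Nat.card (G ⧸ H) := relIndex_eq_of_coprime H K h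
  let f : K ⧸ H.subgroupOf K → G ⧸ H :=
    Quotient.map' Subtype.val fun a b hab => by
      rw [QuotientGroup.leftRel_apply] at hab ⊢
      exact hab
  have hinj : Function.Injective f := by
    rintro ⟨a⟩ ⟨b⟩ hab
    exact Quotient.sound' (QuotientGroup.leftRel_apply.2
      (show ((a : G)⁻¹ * b) ∈ H from QuotientGroup.eq.1 hab))
  obtain ⟨⟨a⟩, ha⟩ := ((Function.Injective.bijective_of_nat_card_le hinj hr.ge)).2
    (QuotientGroup.mk g)
  exact ⟨a, a.2, _, QuotientGroup.eq.1 ha, (mul_inv_cancel_left _ _).symm⟩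

/-- If the class sizes of `v` and `x` are coprime, the centralizer of `x` is transitive on the
class of `v`. -/
theorem conj_trans {v x : G} (h : (cls v).Coprime (cls x)) (g : G) :
    ∃ c : G, Commute c x ∧ g * v * g⁻¹ = c * v * c⁻¹ := by
  obtain ⟨a, ha, b, hb, rfl⟩ := exists_mul_of_coprime _ _ h g
  refine ⟨a, mem_centralizer_singleton_iff.1 ha, ?_⟩
  have hc : b * v = v * b := mem_centralizer_singleton_iff.1 hb
  calc a * b * v * (a * b)⁻¹ = a * (b * v) * b⁻¹ * a⁻¹ := by group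
    _ = a * v * a⁻¹ := by rw [hc]; group

theorem Hyp.coprime_cls (hyp : Hyp π G) {v x : G} (hv : PiNum πᶜ (cls v))
    (hx : IsConj x x⁻¹) (h2 : x * x ≠ 1) : (cls v).Coprime (cls x) :=
  ((hyp.piNum_of_sq hx h2).coprime hv).symm

/-- If `x` commutes with one conjugate then it commutes with all. -/
theorem commute_conj_of_commute {v x : G} (h : (cls v).Coprime (cls x)) (hc : Commute x v)
    (g : G) : Commute x (g * v * g⁻¹) := by
  obtain ⟨c, hcx, e⟩ := conj_trans h g
  rw [e]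
  exact (hcx.symm.mul_right hc).mul_right hcx.symm.inv_right

/-- No non-trivial real element of odd order commutes with a non-central involution whose class
size is a `π'`-number. -/
theorem Hyp.key (hyp : Hyp π G) {v : G} (hv2 : v * v = 1) (hv : PiNum πᶜ (cls v))
    (hv1 : cls v ≠ 1) {x : G} (hx : IsConj x x⁻¹) (ho : Odd (orderOf x)) (hc : Commute x v) :
    x = 1 := by
  by_contra h1
  have h2 := sq_ne_one_of_odd ho h1
  have hcop := hyp.coprime_cls hv hx h2
  obtain ⟨w, hw2, hw⟩ := exists_inverter hx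
  obtain ⟨g, hg⟩ := exists_conj_commute hw2 (not_two_dvd_of_piNum_compl hyp.two hv)
  set v' := g * v * g⁻¹ with hv'
  have hxv : Commute x v' := commute_conj_of_commute hcop hc g
  have hv'2 : v' * v' = 1 := by
    rw [hv', show g * v * g⁻¹ * (g * v * g⁻¹) = g * (v * v) * g⁻¹ by group, hv2]; group
  have hv'i : v'⁻¹ = v' := inv_eq_of_mul_eq_one_right hv'2
  set y := x * v' with hy
  have hyy : y * y = x * x := by
    rw [hy, show x * v' * (x * v') = x * (v' * x) * v' by group, ← hxv.eq,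
      show x * (x * v') * v' = x * x * (v' * v') by group, hv'2, mul_one]
  have hyr : IsConj y y⁻¹ := isConj_inv_of_conj (w := w) (by
    rw [hy, show w * (x * v') * w⁻¹ = (w * x * w⁻¹) * (w * v' * w⁻¹) by group, hw, hg.eq,
      mul_inv_cancel_right, mul_inv_rev, hv'i]
    exact hxv.inv_left.eq)
  have hpow : v' = y ^ orderOf x := by
    obtain ⟨j, hj⟩ := ho
    rw [hy, hxv.mul_pow, pow_orderOf_eq_one, one_mul, hj, pow_succ, pow_mul,
      pow_two, hv'2, one_pow, one_mul]
  have hd : cls v' ∣ cls y := cls_dvd_of_commute_imp fun a ha => hpow ▸ ha.pow_right _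
  have hpy : PiNum π (cls y) := hyp.piNum_of_sq hyr (hyy ▸ h2)
  rw [hv', cls_conj] at hd
  exact hv1 (Nat.eq_one_of_dvd_coprimes ((hpy.of_dvd hd).coprime hv) dvd_rfl dvd_rfl)

theorem Hyp.not_nice_commute (hyp : Hyp π G) {v : G} (hv2 : v * v = 1) (hv : PiNum πᶜ (cls v))
    (hv1 : cls v ≠ 1) {x : G} (hx : Nice x) : ¬ Commute x v := fun hc =>
  hx.2.1 (hyp.key hv2 hv hv1 hx.1 hx.odd hc)

/-- A fixed point of a map of two-power period on a set of odd size. -/
theorem exists_fixed_of_pow {α : Type*} [Finite α] (σ : Equiv.Perm α) {k : ℕ}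
    (hσ : σ ^ 2 ^ k = 1) (hodd : ¬ 2 ∣ Nat.card α) : ∃ a, σ a = a := by
  have : Fact (Nat.Prime 2) := ⟨Nat.prime_two⟩
  obtain ⟨j, -, hj⟩ := (Nat.dvd_prime_pow Nat.prime_two).1 (orderOf_dvd_of_pow_eq_one hσ)
  have hP : IsPGroup 2 (zpowers σ) := IsPGroup.of_card (n := j) (by rw [Nat.card_zpowers, hj])
  obtain ⟨a, ha⟩ := hP.nonempty_fixed_point_of_prime_not_dvd_card α hodd
  exact ⟨a, ha ⟨σ, mem_zpowers σ⟩⟩

/-- An element of two-power order fixes a point of an invariant set of odd size under the map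
`g ↦ (w g w⁻¹)⁻¹`. -/
theorem exists_inverted_of_odd {w : G} (hw : ∃ k : ℕ, orderOf w = 2 ^ k) (s : Set G)
    (hs : ∀ g ∈ s, (w * g * w⁻¹)⁻¹ ∈ s) (hodd : ¬ 2 ∣ s.ncard) :
    ∃ g ∈ s, w * g * w⁻¹ = g⁻¹ := by
  classical
  obtain ⟨k, hk⟩ := hw
  let f : s → s := fun g => ⟨(w * (g : G) * w⁻¹)⁻¹, hs _ g.2⟩
  have hf : Function.Bijective f := Finite.injective_iff_bijective.1 fun a b hab =>
    Subtype.ext (mul_left_cancel (mul_right_cancel (inv_injective (congrArg Subtype.val hab))))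
  let σ : Equiv.Perm s := Equiv.ofBijective f hf
  have h2 : ∀ (i : ℕ) (g : s), (((σ ^ 2) ^ i) g : G) = w ^ (2 * i) * g * (w ^ (2 * i))⁻¹ := by
    intro i
    induction i with
    | zero => intro g; simp
    | succ i ih =>
      intro g
      rw [pow_succ', Equiv.Perm.mul_apply, pow_two, Equiv.Perm.mul_apply]
      show (w * (w * ((σ ^ 2) ^ i) g * w⁻¹)⁻¹ * w⁻¹)⁻¹ = _
      rw [ih, show 2 * (i + 1) = (2 * i + 1) + 1 by ring, pow_succ', pow_succ']
      group
  have hσ : σ ^ 2 ^ (k + 1) = 1 := by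
    rw [pow_succ', pow_mul]
    refine Equiv.ext fun g => Subtype.ext ?_
    rw [h2, mul_comm 2 (2 ^ k), pow_mul, ← hk, pow_orderOf_eq_one]
    simp
  obtain ⟨g, hg⟩ := exists_fixed_of_pow σ hσ (by rwa [Nat.card_coe_set_eq])
  exact ⟨g, g.2, inv_eq_iff_eq_inv.1 (congrArg Subtype.val hg)⟩

theorem two_elt_map {H : Type*} [Group H] [Finite H] (f : G →* H) {w : G}
    (hw : ∃ k : ℕ, orderOf w = 2 ^ k) : ∃ k : ℕ, orderOf (f w) = 2 ^ k := by
  obtain ⟨k, hk⟩ := hw
  obtain ⟨j, -, hj⟩ := (Nat.dvd_prime_pow Nat.prime_two).1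
    (hk ▸ orderOf_map_dvd f w)
  exact ⟨j, hj⟩

/-- Real elements lift through an odd kernel. -/
theorem exists_real_lift_odd {H : Type*} [Group H] (f : G →* H) (hf : Function.Surjective f)
    (hodd : Odd (Nat.card f.ker)) {y : H} (hy : IsConj y y⁻¹) :
    ∃ x : G, f x = y ∧ IsConj x x⁻¹ := by
  have : Finite H := Finite.of_surjective _ hf
  obtain ⟨w', hw'⟩ := isConj_iff.1 hy
  obtain ⟨w₀, rfl⟩ := hf w'
  obtain ⟨m, hm, hw2⟩ := exists_odd_two_pow w₀
  have hwy : f (w₀ ^ m) * y * (f (w₀ ^ m))⁻¹ = y⁻¹ := by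
    rw [map_pow]
    exact conj_odd_pow_inv hw' hm
  obtain ⟨g, hg, hgi⟩ := exists_inverted_of_odd hw2 {g : G | f g = y} (fun g (hg : f g = y) => by
      show f _ = y
      rw [map_inv, map_mul, map_mul, map_inv, hg, hwy, inv_inv]) (by
      obtain ⟨x₀, rfl⟩ := hf y
      have e : {g : G | f g = f x₀} = (fun k : G => x₀ * k) '' (f.ker : Set G) := by
        ext g
        refine ⟨fun h => ⟨x₀⁻¹ * g, ?_, mul_inv_cancel_left _ _⟩, ?_⟩
        · show x₀⁻¹ * g ∈ f.ker
          rw [MonoidHom.mem_ker, map_mul, map_inv, show f g = f x₀ from h, inv_mul_cancel]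
        · rintro ⟨k, hk, rfl⟩
          show f (x₀ * k) = f x₀
          rw [map_mul, show f k = 1 from hk, mul_one]
      rw [e, Set.ncard_image_of_injective _ (mul_right_injective x₀), ← Nat.card_coe_set_eq]
      exact fun h => Nat.not_even_iff_odd.2 hodd (even_iff_two_dvd.2 h))
  exact ⟨g, hg, isConj_inv_of_conj hgi⟩

/-- Nice elements lift to nice elements along any surjection. -/
theorem exists_nice_lift {H : Type*} [Group H] (f : G →* H) (hf : Function.Surjective f)
    {y : H} (hy : Nice y) : ∃ x : G, f x = y ∧ Nice x := by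
  classical
  have : Finite H := Finite.of_surjective _ hf
  obtain ⟨hyr, hy1, p, k, hp, hp2, hpk⟩ := hy
  have := Fact.mk hp
  let L : Subgroup G := (zpowers y).comap f
  obtain ⟨w', hw'⟩ := isConj_iff.1 hyr
  obtain ⟨w₀, rfl⟩ := hf w'
  have hLn : ∀ g ∈ L, w₀ * g * w₀⁻¹ ∈ L := by
    intro g hg
    obtain ⟨i, hi⟩ := mem_zpowers_iff.1 (show f g ∈ zpowers y from hg)
    refine mem_zpowers_iff.2 ⟨-i, ?_⟩
    rw [map_mul, map_mul, map_inv, ← hi, ← conj_zpow, hw', zpow_neg, inv_zpow]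
  obtain ⟨Q⟩ : Nonempty (Sylow p L) := inferInstance
  set Q' := (Q : Subgroup L).map L.subtype with hQ'
  set Q'' := Q'.map (MulAut.conj w₀).toMonoidHom with hQ''
  have hle : Q'' ≤ L := by
    rintro _ ⟨g, ⟨g', -, rfl⟩, rfl⟩
    exact hLn _ g'.2
  have hQP : IsPGroup p Q'' := (Q.isPGroup'.map L.subtype).map _
  obtain ⟨Q₂, hQ₂⟩ := IsPGroup.exists_le_sylow
    (hQP.comap_of_injective L.subtype L.subtype_injective)
  have hcard : Nat.card Q'' = Nat.card (Q : Subgroup L) := by
    rw [hQ'', Subgroup.card_map_of_injective (MulAut.conj w₀).injective, hQ', Subgroup.card_subtype]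
  have hQ₂eq : (Q₂ : Subgroup L) = Q''.comap L.subtype :=
    (Subgroup.eq_of_le_of_card_ge hQ₂ (by
      rw [show Q''.comap L.subtype = Q''.subgroupOf L from rfl,
        Nat.card_congr (Subgroup.subgroupOfEquivOfLe hle).toEquiv, hcard,
        Q.card_eq_multiplicity, Q₂.card_eq_multiplicity])).symm
  obtain ⟨c, hc⟩ := MulAction.exists_smul_eq L Q₂ Q
  have hn : ∀ g ∈ Q', (c : G) * (w₀ * g * w₀⁻¹) * (c : G)⁻¹ ∈ Q' := by
    intro g hg
    have h1 : w₀ * g * w₀⁻¹ ∈ Q'' := ⟨g, hg, rfl⟩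
    have h2 : (⟨_, hle h1⟩ : L) ∈ (Q₂ : Subgroup L) := by rw [hQ₂eq]; exact h1
    refine ⟨c * ⟨_, hle h1⟩ * c⁻¹, ?_, rfl⟩
    rw [SetLike.mem_coe, ← hc]
    exact ⟨_, h2, rfl⟩
  have hcy : ∀ a ∈ L, f a * y * (f a)⁻¹ = y := by
    intro a ha
    obtain ⟨i, hi⟩ := mem_zpowers_iff.1 (show f a ∈ zpowers y from ha)
    rw [← hi, ((Commute.refl y).zpow_left i).eq, mul_inv_cancel_right]
  have hinv : f ((c : G) * w₀) * y * (f ((c : G) * w₀))⁻¹ = y⁻¹ := by
    rw [map_mul, show f c * f w₀ * y * (f c * f w₀)⁻¹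
      = f c * (f w₀ * y * (f w₀)⁻¹) * (f c)⁻¹ by group, hw',
      show f c * y⁻¹ * (f c)⁻¹ = (f c * y * (f c)⁻¹)⁻¹ by group, hcy _ c.2]
  set n := (c : G) * w₀ with hndef
  have hnQ : ∀ g ∈ Q', n * g * n⁻¹ ∈ Q' := fun g hg => by
    rw [hndef, show (c : G) * w₀ * g * ((c : G) * w₀)⁻¹
      = (c : G) * (w₀ * g * w₀⁻¹) * (c : G)⁻¹ by group]
    exact hn g hg
  obtain ⟨m, hm, hm2⟩ := exists_odd_two_pow n
  have hmi : f (n ^ m) * y * (f (n ^ m))⁻¹ = y⁻¹ := by
    rw [map_pow]
    exact conj_odd_pow_inv hinv hm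
  have hnQm : ∀ (i : ℕ), ∀ g ∈ Q', n ^ i * g * (n ^ i)⁻¹ ∈ Q' := by
    intro i
    induction i with
    | zero => intro g hg; simpa using hg
    | succ i ih =>
      intro g hg
      rw [pow_succ', show n * n ^ i * g * (n * n ^ i)⁻¹ = n * (n ^ i * g * (n ^ i)⁻¹) * n⁻¹ by
        group]
      exact hnQ _ (ih g hg)
  have hmap : Q'.map f = zpowers y := by
    let φ : L →* H := f.comp L.subtype
    refine le_antisymm ?_ ?_
    · rintro _ ⟨_, ⟨g', -, rfl⟩, rfl⟩
      exact g'.2
    · obtain ⟨x₀, hx₀⟩ := hf y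
      have hxL : x₀ ∈ L := by show f x₀ ∈ zpowers y; rw [hx₀]; exact mem_zpowers y
      have hd : (Q'.map f).subgroupOf (zpowers y) = ⊤ := by
        refine Subgroup.eq_top_of_card_eq _ ?_
        refine Nat.dvd_antisymm (Subgroup.card_subgroup_dvd_card _) ?_
        let ψ : L →* zpowers y := φ.codRestrict _ fun a => a.2
        have hψ : Function.Surjective ψ := by
          rintro ⟨z, i, rfl⟩
          exact ⟨⟨x₀, hxL⟩ ^ i, Subtype.ext (by
            show f ((⟨x₀, hxL⟩ : L) ^ i : L) = y ^ i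
            rw [Subgroup.coe_zpow, map_zpow, hx₀])⟩
        have e : (Q : Subgroup L).map ψ = (Q'.map f).subgroupOf (zpowers y) := by
          ext z
          rw [Subgroup.mem_subgroupOf]
          constructor
          · rintro ⟨a, ha, rfl⟩; exact ⟨a, ⟨a, ha, rfl⟩, rfl⟩
          · rintro ⟨_, ⟨a, ha, rfl⟩, hz⟩; exact ⟨a, ha, Subtype.ext hz⟩
        rw [← e, ← Sylow.coe_mapSurjective hψ, Sylow.card_eq_multiplicity]
        rw [Nat.card_zpowers, hpk, hp.factorization_pow, Finsupp.single_eq_same]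
      rw [← subgroupOf_eq_top]
      exact hd
  obtain ⟨g, ⟨hgQ, hgy⟩, hgi⟩ := exists_inverted_of_odd hm2
    {g : G | g ∈ Q' ∧ f g = y} (by
      rintro g ⟨hg, hgy⟩
      refine ⟨inv_mem (hnQm m g hg), ?_⟩
      rw [map_inv, map_mul, map_mul, map_inv, hgy, hmi, inv_inv]) (by
      obtain ⟨x₀, hx₀Q, hx₀⟩ : y ∈ Q'.map f := hmap ▸ mem_zpowers y
      have e : {g : G | g ∈ Q' ∧ f g = y}
          = (fun a : G => x₀ * a) '' ((Q' ⊓ f.ker : Subgroup G) : Set G) := by
        ext g
        constructor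
        · rintro ⟨hg, hgy⟩
          refine ⟨x₀⁻¹ * g, Subgroup.mem_inf.2 ⟨Q'.mul_mem (Q'.inv_mem hx₀Q) hg, ?_⟩,
            mul_inv_cancel_left _ _⟩
          rw [MonoidHom.mem_ker, map_mul, map_inv, hx₀, hgy, inv_mul_cancel]
        · rintro ⟨a, ⟨ha, hak⟩, rfl⟩
          refine ⟨mul_mem hx₀Q ha, ?_⟩
          rw [map_mul, hx₀, show f a = 1 from hak, mul_one]
      rw [e, Set.ncard_image_of_injective _ (mul_right_injective x₀), ← Nat.card_coe_set_eq]
      intro h2
      obtain ⟨j, hj⟩ := IsPGroup.iff_card.1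
        ((Q.isPGroup'.map L.subtype).to_le (inf_le_left : Q' ⊓ f.ker ≤ Q'))
      have : 2 ∣ p ^ j := hj ▸ h2
      exact hp2 ((Nat.prime_dvd_prime_iff_eq Nat.prime_two hp).1
        (Nat.prime_two.dvd_of_dvd_pow this)).symm)
  refine ⟨g, hgy, isConj_inv_of_conj hgi, ?_, p, ?_⟩
  · rintro rfl; exact hy1 (by rw [← hgy, map_one])
  · obtain ⟨j, hj⟩ := IsPGroup.iff_orderOf.1 (Q.isPGroup'.map L.subtype) ⟨g, hgQ⟩
    exact ⟨j, hp, hp2, by rw [← Subgroup.orderOf_coe] at hj; exact hj⟩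

/-- Without nice elements there is a normal Sylow 2-subgroup and the group is solvable. -/
theorem structure_of_no_nice_aux (n : ℕ) : ∀ (X : Type u) [Group X] [Finite X], Nat.card X = n →
    (∀ x : X, ¬ Nice x) → (∀ P : Sylow 2 X, (P : Subgroup X).Normal) ∧ Group.IsSolvable X := by
  induction n using Nat.strong_induction_on with
  | _ n ih =>
    intro X _ _ hn h
    have : Fact (Nat.Prime 2) := ⟨Nat.prime_two⟩
    by_cases hodd : Odd (Nat.card X)
    · refine ⟨fun P => ?_, S0205.result hodd⟩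
      have : (P : Subgroup X) = ⊥ := by
        rw [← Subgroup.card_eq_one, P.card_eq_multiplicity, Nat.factorization_eq_zero_of_not_dvd
          (fun h2 => Nat.not_even_iff_odd.2 hodd (even_iff_two_dvd.2 h2)), pow_zero]
      rw [this]
      infer_instance
    have heven : 2 ∣ Nat.card X := even_iff_two_dvd.1 (Nat.not_odd_iff_even.1 hodd)
    obtain ⟨s, hs⟩ := exists_prime_orderOf_dvd_card' 2 heven
    have hs2 : s * s = 1 := by rw [← pow_two, ← hs, pow_orderOf_eq_one]
    have hsi : s⁻¹ = s := inv_eq_of_mul_eq_one_right hs2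
    obtain ⟨N, hN, hN2, hsN⟩ := Invol.baer_suzuki (p := 2) (zpowers s)
      (IsPGroup.of_card (n := 1) (by rw [Nat.card_zpowers, hs, pow_one])) (fun g => by
        set s' := g * s * g⁻¹ with hs'
        have hs'2 : s' * s' = 1 := by
          rw [hs', show g * s * g⁻¹ * (g * s * g⁻¹) = g * (s * s) * g⁻¹ by group, hs2]; group
        have hs'i : s'⁻¹ = s' := inv_eq_of_mul_eq_one_right hs'2
        set x := s * s' with hxdef
        have hxi : s * x * s⁻¹ = x⁻¹ := by
          rw [hxdef, mul_inv_rev, hsi, hs'i, ← mul_assoc, hs2, one_mul]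
        have hx2 : IsPGroup 2 (zpowers x) := by
          obtain ⟨k, m, hm, he⟩ := Nat.exists_eq_two_pow_mul_odd (orderOf_pos x).ne'
          rcases Nat.eq_or_lt_of_le hm.pos with hm1 | hm1
          · exact IsPGroup.of_card (n := k) (by
              rw [Nat.card_zpowers, he, ← hm1]; simp)
          · exfalso
            have ho : orderOf (x ^ 2 ^ k) = m := by
              rw [orderOf_pow_of_dvd (by positivity) ⟨m, he⟩, he,
                Nat.mul_div_cancel_left _ (by positivity)]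
            obtain ⟨i, hi⟩ := exists_nice_pow (isConj_inv_of_conj (conj_pow_inv hxi (2 ^ k)))
              (ho ▸ hm) (fun e => by rw [e, orderOf_one] at ho; omega)
            exact h _ hi
        have hle : zpowers s ≤ normalizer (zpowers x : Set X) := by
          rw [zpowers_le]
          refine Subgroup.mem_normalizer_iff.2 fun z => ?_
          have hfwd : ∀ z ∈ zpowers x, s * z * s⁻¹ ∈ zpowers x := by
            rintro _ ⟨i, rfl⟩
            show s * x ^ i * s⁻¹ ∈ _
            rw [← conj_zpow, hxi]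
            exact zpow_mem (inv_mem (mem_zpowers x)) _
          refine ⟨hfwd z, fun hz => ?_⟩
          have := hfwd _ hz
          rwa [hsi, show s * (s * z * s) * s = (s * s) * z * (s * s) by group, hs2, one_mul,
            mul_one] at this
        have hsup := IsPGroup.to_sup_of_normal_right'
          (IsPGroup.of_card (p := 2) (n := 1) (G := zpowers s)
            (by rw [Nat.card_zpowers, hs, pow_one])) hx2 hle
        refine hsup.to_le (sup_le le_sup_left ?_)
        rintro _ ⟨z, ⟨i, rfl⟩, rfl⟩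
        show g * s ^ i * g⁻¹ ∈ _
        rw [← conj_zpow, ← hs', show s' = s * x by rw [hxdef, ← mul_assoc, hs2, one_mul]]
        exact zpow_mem (mul_mem (mem_sup_left (mem_zpowers s)) (mem_sup_right (mem_zpowers x))) _)
    have hlt : Nat.card (X ⧸ N) < n := by
      have h1 := N.card_mul_index
      rw [Subgroup.index_eq_card] at h1
      have h2 : 1 < Nat.card N := (Subgroup.one_lt_card_iff_ne_bot N).2 fun e => by
        have : s ∈ (⊥ : Subgroup X) := e ▸ hsN (mem_zpowers s)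
        rw [Subgroup.mem_bot] at this
        rw [this, orderOf_one] at hs
        exact absurd hs (by decide)
      rw [← hn, ← h1]
      exact lt_mul_left Nat.card_pos h2
    obtain ⟨hP, hsol⟩ := ih _ hlt (X ⧸ N) rfl fun y hy => by
      obtain ⟨x, -, hx⟩ := exists_nice_lift (QuotientGroup.mk' N) (QuotientGroup.mk'_surjective N) hy
      exact h x hx
    refine ⟨fun P => ?_, ?_⟩
    · have hNP : N ≤ (P : Subgroup X) := by
        obtain ⟨Q, hQ⟩ := IsPGroup.exists_le_sylow hN2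
        obtain ⟨g, rfl⟩ := MulAction.exists_smul_eq X Q P
        intro a ha
        exact ⟨g⁻¹ * a * g, hQ (by simpa using hN.conj_mem a ha g⁻¹),
          by show g * (g⁻¹ * a * g) * g⁻¹ = a; group⟩
      have e : (P : Subgroup X) = ((P : Subgroup X).map (QuotientGroup.mk' N)).comap
          (QuotientGroup.mk' N) := by
        rw [Subgroup.comap_map_eq_self]; rwa [QuotientGroup.ker_mk']
      rw [e]
      have := hP (P.mapSurjective (QuotientGroup.mk'_surjective N))
      rw [Sylow.coe_mapSurjective] at this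
      exact this.comap _
    · have : Group.IsNilpotent N := hN2.isNilpotent
      exact solvable_of_ker_le_range N.subtype (QuotientGroup.mk' N) (by simp)

/-- A subgroup without nice elements of the whole group is 2-closed and solvable. -/
theorem structure_of_no_nice (H : Subgroup G) (h : ∀ x ∈ H, ¬ Nice x) :
    (∀ P : Sylow 2 H, (P : Subgroup H).Normal) ∧ Group.IsSolvable H :=
  structure_of_no_nice_aux (Nat.card H) H rfl fun x hx => h x x.2
    ⟨by simpa using H.subtype.map_isConj hx.1, fun e => hx.2.1 (Subtype.ext e),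
      by simpa [Subgroup.orderOf_coe] using hx.2.2⟩

theorem exists_nice_of_not_solvable (H : Subgroup G) (h : ¬ Group.IsSolvable H) :
    ∃ x ∈ H, Nice x := by
  by_contra hc
  push Not at hc
  exact h (structure_of_no_nice H hc).2

end Cfsg.Agent.RealGraph
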