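import Mathlib

/-!
# Two-transitive groups with an involution count: the counting core for S4187

`two_trans_false`: a 2-transitive group of degree `v = (2^(2m)-1)/(2^a-1)` in which every
involution fixes `(2^m-1)/(2^a-1)` points and in which the point stabilisers have a normal
2-subgroup containing all their involutions does not exist for `a < m`.
`one_involution`: for `a = m` each point stabiliser contains at most one involution.
-/

set_option autoImplicit false

namespace Cfsg.Agent.RealGraph

open MulAction Finset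
open scoped Classical

variable {X Ω : Type*} [Group X] [Fintype X] [MulAction X Ω] [Fintype Ω]

/-- Double counting for a conjugation-invariant set of involutions with constant fixity. -/
theorem double_count (h2 : MulAction.IsMultiplyPretransitive X Ω 2) (K : Finset X)
    (hK : ∀ k ∈ K, ∀ g : X, g * k * g⁻¹ ∈ K) (f : ℕ)
    (hf : ∀ k ∈ K, (univ.filter fun w : Ω => k • w = w).card = f) (o : Ω) :
    K.card * f = Fintype.card Ω * (K.filter fun k => k • o = o).card ∧
      ∀ p : Ω, p ≠ o → K.card * (Fintype.card Ω - f) =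
        Fintype.card Ω * (Fintype.card Ω - 1) * (K.filter fun k => k • o = p).card := by
  have h1 : MulAction.IsPretransitive X Ω := by
    haveI := h2
    exact isPretransitive_of_is_two_pretransitive
  have htr : ∀ a b c d : Ω, a ≠ b → c ≠ d → ∃ g : X, g • a = c ∧ g • b = d :=
    fun a b c d => is_two_pretransitive_iff.mp h2
  have move : ∀ (g : X) (x y : Ω), (K.filter fun k => k • x = y).card =
      (K.filter fun k => k • (g • x) = g • y).card := by
    intro g x y
    refine Finset.card_bij' (fun k _ => g * k * g⁻¹) (fun k _ => g⁻¹ * k * g) ?_ ?_ ?_ ?_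
    · intro k hk
      simp only [mem_filter] at hk ⊢
      exact ⟨hK k hk.1 g, by rw [mul_smul, mul_smul, inv_smul_smul, hk.2]⟩
    · intro k hk
      simp only [mem_filter] at hk ⊢
      refine ⟨?_, by rw [mul_smul, mul_smul, hk.2, inv_smul_smul]⟩
      have := hK k hk.1 g⁻¹
      rwa [inv_inv] at this
    · intro k _; group
    · intro k _; group
  constructor
  · have hκ : ∀ x : Ω, (K.filter fun k => k • x = x).card = (K.filter fun k => k • o = o).card := by
      intro x
      obtain ⟨g, hg⟩ := h1.exists_smul_eq o x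
      rw [← hg]
      exact (move g o o).symm
    calc K.card * f = ∑ k ∈ K, (univ.filter fun w : Ω => k • w = w).card := by
          rw [Finset.sum_congr rfl hf, Finset.sum_const, smul_eq_mul]
      _ = ∑ w : Ω, (K.filter fun k => k • w = w).card := by
          simp only [Finset.card_filter]
          exact Finset.sum_comm
      _ = _ := by
          rw [Finset.sum_congr rfl (fun x _ => hκ x), Finset.sum_const, smul_eq_mul, Finset.card_univ]
  · intro p hp
    have hσ : ∀ x y : Ω, x ≠ y →
        (K.filter fun k => k • x = y).card = (K.filter fun k => k • o = p).card := by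
      intro x y hxy
      obtain ⟨g, hgo, hgp⟩ := htr o p x y hp.symm hxy
      rw [move g o p, hgo, hgp]
    have hmv : ∀ k ∈ K, (univ.filter fun w : Ω => ¬ k • w = w).card = Fintype.card Ω - f := by
      intro k hk
      have := Finset.card_filter_add_card_filter_not
        (s := (univ : Finset Ω)) (fun w : Ω => k • w = w)
      rw [hf k hk, Finset.card_univ] at this
      omega
    calc K.card * (Fintype.card Ω - f)
        = ∑ k ∈ K, (univ.filter fun w : Ω => ¬ k • w = w).card := by
          rw [Finset.sum_congr rfl hmv, Finset.sum_const, smul_eq_mul]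
      _ = ∑ x : Ω, (K.filter fun k => ¬ k • x = x).card := by
          simp only [Finset.card_filter]
          exact Finset.sum_comm
      _ = ∑ x : Ω, ∑ y ∈ univ.erase x, (K.filter fun k => k • x = y).card := by
          refine Finset.sum_congr rfl fun x _ => ?_
          rw [Finset.card_eq_sum_card_fiberwise (t := univ.erase x) (f := fun k : X => k • x)]
          · refine Finset.sum_congr rfl fun y hy => ?_
            congr 1
            ext k
            simp only [mem_filter]
            constructor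
            · exact fun h => ⟨h.1.1, h.2⟩
            · intro h
              exact ⟨⟨h.1, by rw [h.2]; exact Finset.ne_of_mem_erase hy⟩, h.2⟩
          · intro k hk
            simp only [Finset.mem_coe, mem_filter] at hk
            simp [hk.2]
      _ = _ := by
          have hin : ∀ x : Ω, (∑ y ∈ univ.erase x, (K.filter fun k => k • x = y).card)
              = (Fintype.card Ω - 1) * (K.filter fun k => k • o = p).card := by
            intro x
            rw [Finset.sum_congr rfl (fun y hy => hσ x y (Finset.ne_of_mem_erase hy).symm),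
              Finset.sum_const, smul_eq_mul, Finset.card_erase_of_mem (mem_univ x),
              Finset.card_univ]
          rw [Finset.sum_congr rfl (fun x _ => hin x), Finset.sum_const, smul_eq_mul,
            Finset.card_univ, mul_assoc]

omit [Fintype Ω] [Fintype X] in
theorem involution_pow {g : X} [Finite X] (hev : Even (orderOf g)) :
    orderOf (g ^ (orderOf g / 2)) = 2 := by
  obtain ⟨c, hc⟩ := hev
  have hpos : 0 < orderOf g := orderOf_pos g
  have h2 : orderOf g / 2 = c := by omega
  rw [h2, orderOf_pow, hc]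
  have hc0 : 0 < c := by omega
  rw [Nat.gcd_eq_right ⟨2, by ring⟩]
  rw [← two_mul, Nat.mul_div_cancel _ hc0]

omit [Fintype X] [Fintype Ω] in
theorem smul_pow_fix {g : X} {w : Ω} (h : g • w = w) (n : ℕ) : (g ^ n) • w = w := by
  induction n with
  | zero => simp
  | succ n ih => rw [pow_succ, mul_smul, h, ih]

theorem two_trans_false {X Ω : Type*} [Group X] [Finite X] [MulAction X Ω] [Finite Ω]
    (h2 : MulAction.IsMultiplyPretransitive X Ω 2) (o : Ω) (S : Subgroup X)
    (hS : IsPGroup 2 S) (hSN : ∀ g : X, g • o = o → ∀ s ∈ S, g * s * g⁻¹ ∈ S)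
    (hinv : ∀ t : X, orderOf t = 2 → t • o = o → t ∈ S)
    (hex : ∃ t ∈ S, orderOf t = 2) (hSo : ∀ s ∈ S, s • o = o)
    (m a : ℕ) (ha : 1 ≤ a) (ham : a < m) (hv : Nat.card Ω * (2 ^ a - 1) = 2 ^ (2 * m) - 1)
    (hf : ∀ t : X, orderOf t = 2 → Nat.card {w : Ω // t • w = w} * (2 ^ a - 1) = 2 ^ m - 1) :
    False := by
  haveI := Fintype.ofFinite X
  haveI := Fintype.ofFinite Ω
  obtain ⟨t, htS, ht2⟩ := hex
  set v := Fintype.card Ω with hvdef
  set f := (univ.filter fun w : Ω => t • w = w).card with hfdef
  rw [Nat.card_eq_fintype_card, ← hvdef] at hv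
  have h2a : 2 ≤ 2 ^ a := by
    calc 2 = 2 ^ 1 := (pow_one 2).symm
      _ ≤ 2 ^ a := Nat.pow_le_pow_right (by norm_num) ha
  have h2m : 2 ^ a < 2 ^ m := Nat.pow_lt_pow_right (by norm_num) ham
  have hfix : ∀ k : X, orderOf k = 2 → (univ.filter fun w : Ω => k • w = w).card = f := by
    intro k hk
    have e1 := hf k hk
    have e2 := hf t ht2
    rw [Nat.card_eq_fintype_card, Fintype.card_subtype] at e1 e2
    exact Nat.eq_of_mul_eq_mul_right (by omega) (e1.trans e2.symm)
  have hf' : f * (2 ^ a - 1) = 2 ^ m - 1 := by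
    have e2 := hf t ht2
    rwa [Nat.card_eq_fintype_card, Fintype.card_subtype] at e2
  have hvf : v = f * (2 ^ m + 1) := by
    apply Nat.eq_of_mul_eq_mul_right (show 0 < 2 ^ a - 1 by omega)
    rw [hv, mul_right_comm, hf', pow_mul', mul_comm, ← Nat.sq_sub_sq, one_pow]
  have hf1 : 1 ≤ f := by
    rcases Nat.eq_zero_or_pos f with h | h
    · rw [h, zero_mul] at hf'; omega
    · exact h
  have hfv : f < v := by rw [hvf]; nlinarith
  -- `v - 1 = 2 ^ a * w`, `w` odd
  obtain ⟨w, hw, hwodd⟩ : ∃ w, v - 1 = 2 ^ a * w ∧ Odd w ∧ True := by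
    have hd : 2 ^ a ∣ (v - 1) * (2 ^ a - 1) := by
      rw [Nat.sub_mul, one_mul, hv]
      have : 2 ^ (2 * m) - 1 - (2 ^ a - 1) = 2 ^ (2 * m) - 2 ^ a := by omega
      rw [this]
      exact Nat.dvd_sub (pow_dvd_pow 2 (by omega)) dvd_rfl
    have hodd : Odd (2 ^ a - 1) := Nat.Even.sub_odd (by omega)
      (Nat.even_pow.2 ⟨by norm_num, by omega⟩) odd_one
    have hcop : Nat.Coprime (2 ^ a) (2 ^ a - 1) :=
      Nat.Coprime.pow_left _ (Nat.coprime_two_left.2 hodd)
    obtain ⟨w, hw⟩ := hcop.dvd_of_dvd_mul_right hd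
    refine ⟨w, hw, ?_, trivial⟩
    have hprod : (2 ^ a * w) * (2 ^ a - 1) + (2 ^ a - 1) = 2 ^ (2 * m) - 1 := by
      rw [← hw, ← hv, Nat.sub_mul, one_mul]
      have : 2 ^ a - 1 ≤ v * (2 ^ a - 1) := Nat.le_mul_of_pos_left _ (by omega)
      omega
    have hwa : w * (2 ^ a - 1) + 1 = 2 ^ (2 * m - a) := by
      apply Nat.eq_of_mul_eq_mul_left (show 0 < 2 ^ a by omega)
      rw [← pow_add, show a + (2 * m - a) = 2 * m by omega, mul_add, mul_one, ← mul_assoc]
      have : 1 ≤ 2 ^ (2 * m) := Nat.one_le_two_pow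
      omega
    have hev : Even (w * (2 ^ a - 1) + 1) := by
      rw [hwa]; exact Nat.even_pow.2 ⟨by norm_num, by omega⟩
    rw [Nat.even_add_one, Nat.not_even_iff_odd] at hev
    exact (Nat.odd_mul.1 hev).1
  replace hwodd : Odd w := hwodd.1
  -- the orbits of `S`
  have htr : ∀ a b c d : Ω, a ≠ b → c ≠ d → ∃ g : X, g • a = c ∧ g • b = d :=
    fun a b c d => is_two_pretransitive_iff.mp h2
  obtain ⟨p, hp⟩ : ∃ p : Ω, p ≠ o := Fintype.exists_ne_of_one_lt_card (by omega) o
  have hL : ∀ q : Ω, q ≠ o → Nat.card (orbit S q) = Nat.card (orbit S p) := by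
    intro q hq
    obtain ⟨g, hgo, hgp⟩ := htr o p o q hp.symm hq.symm
    have himg : orbit S q = (fun x => g • x) '' orbit S p := by
      ext x
      simp only [Set.mem_image, MulAction.mem_orbit_iff, Subtype.exists, Subgroup.mk_smul,
        exists_prop]
      constructor
      · rintro ⟨s, hs, rfl⟩
        have hg' : g⁻¹ • o = o := by rw [inv_smul_eq_iff, hgo]
        have := hSN g⁻¹ hg' s hs
        rw [inv_inv] at this
        refine ⟨(g⁻¹ * s * g) • p, ⟨g⁻¹ * s * g, this, rfl⟩, ?_⟩
        rw [mul_smul, mul_smul, smul_inv_smul, hgp]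
      · rintro ⟨y, ⟨s, hs, rfl⟩, rfl⟩
        refine ⟨g * s * g⁻¹, hSN g hgo s hs, ?_⟩
        rw [mul_smul, mul_smul, ← hgp, inv_smul_smul]
    rw [himg]
    exact Nat.card_image_of_injective (MulAction.injective g) _
  set L := Nat.card (orbit S p) with hLdef
  set c := Fintype.card (orbitRel.Quotient S Ω) with hcdef
  have ho : Nat.card (orbit S o) = 1 := by
    have : orbit S o = {o} := by
      ext x
      simp only [MulAction.mem_orbit_iff, Subtype.exists, Subgroup.mk_smul, exists_prop,
        Set.mem_singleton_iff]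
      exact ⟨fun ⟨s, hs, h⟩ => h.symm.trans (hSo s hs), fun h => ⟨1, S.one_mem, by simp [h]⟩⟩
    rw [this]; simp
  have hsum : v = 1 + (c - 1) * L := by
    set q₀ : orbitRel.Quotient S Ω := Quotient.mk'' o with hq₀
    have h := Fintype.card_congr (MulAction.selfEquivSigmaOrbits S Ω)
    rw [Fintype.card_sigma] at h
    have horb : ∀ q : orbitRel.Quotient S Ω, Fintype.card (orbit S q.out) =
        if q = q₀ then 1 else L := by
      intro q
      rw [← Nat.card_eq_fintype_card]
      split
      · next hq =>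
        have : q.out ∈ orbit S o := by
          rw [← MulAction.orbitRel_apply]
          exact Quotient.exact' (by rw [Quotient.out_eq', hq])
        rw [orbit_eq_iff.2 this, ho]
      · next hq =>
        refine hL _ fun he => hq ?_
        rw [hq₀, ← he, Quotient.out_eq']
    rw [Finset.sum_congr rfl (fun q _ => horb q), ← Finset.add_sum_erase _ _ (mem_univ q₀)] at h
    rw [hvdef, h, if_pos rfl, Finset.sum_congr rfl (fun q hq => if_neg (Finset.ne_of_mem_erase hq)),
      Finset.sum_const, smul_eq_mul, Finset.card_erase_of_mem (mem_univ q₀), Finset.card_univ]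
  have hc0 : 1 ≤ c := Fintype.card_pos_iff.2 ⟨Quotient.mk'' o⟩
  have hcw : w ≤ c - 1 := by
    obtain ⟨j, hj⟩ : ∃ j, L = 2 ^ j := by
      haveI : Fact (Nat.Prime 2) := ⟨Nat.prime_two⟩
      exact hS.card_orbit p
    have hdvd : 2 ^ j ∣ 2 ^ a * w := ⟨c - 1, by rw [← hw, hsum, hj]; simp [mul_comm]⟩
    have hj' : 2 ^ j ∣ 2 ^ a :=
      (Nat.Coprime.pow_left _ (Nat.coprime_two_left.2 hwodd)).dvd_of_dvd_mul_right hdvd
    have hle : L ≤ 2 ^ a := hj ▸ Nat.le_of_dvd (by omega) hj'
    by_contra hlt
    have : (c - 1) * L < 2 ^ a * w := by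
      calc (c - 1) * L ≤ (c - 1) * 2 ^ a := Nat.mul_le_mul_left _ hle
        _ < w * 2 ^ a := Nat.mul_lt_mul_of_pos_right (by omega) (by omega)
        _ = 2 ^ a * w := mul_comm _ _
    omega
  -- Burnside
  have hburn : c * Fintype.card S ≤ v + (Fintype.card S - 1) * f := by
    have hB := MulAction.sum_card_fixedBy_eq_card_orbits_mul_card_group S Ω
    rw [← hB, ← Finset.add_sum_erase _ _ (mem_univ (1 : S))]
    refine Nat.add_le_add ?_ ?_
    · exact Fintype.card_subtype_le _
    · have hb : ∀ s ∈ (univ : Finset S).erase 1, Fintype.card (fixedBy Ω s) ≤ f := by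
        intro s hs
        have hs1 : (s : X) ≠ 1 := fun h => Finset.ne_of_mem_erase hs (Subtype.ext h)
        have hev : Even (orderOf (s : X)) := by
          obtain ⟨k, hk⟩ := IsPGroup.iff_orderOf.1 hS s
          rw [Subgroup.orderOf_coe, hk]
          refine Nat.even_pow.2 ⟨by norm_num, fun hk0 => hs1 ?_⟩
          rw [hk0, pow_zero, orderOf_eq_one_iff] at hk
          rw [hk]; rfl
        rw [← hfix _ (involution_pow hev), ← Fintype.card_subtype]
        exact Fintype.card_le_of_injective
          (fun x => ⟨x.1, smul_pow_fix (g := (s : X)) x.2 _⟩)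
          (fun x y h => by
            have := congrArg (fun z => z.1) h
            exact Subtype.ext this)
      calc _ ≤ ∑ _s ∈ (univ : Finset S).erase 1, f := Finset.sum_le_sum hb
        _ = _ := by
          rw [Finset.sum_const, smul_eq_mul, Finset.card_erase_of_mem (mem_univ _), Finset.card_univ]
  -- the class of `t`
  set K := (univ : Finset X).filter (fun k => IsConj t k) with hKdef
  have hKconj : ∀ k ∈ K, ∀ g : X, g * k * g⁻¹ ∈ K := by
    intro k hk g
    simp only [hKdef, mem_filter, mem_univ, true_and] at hk ⊢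
    exact hk.trans (isConj_iff.2 ⟨g, rfl⟩)
  have hK2 : ∀ k ∈ K, orderOf k = 2 := by
    intro k hk
    simp only [hKdef, mem_filter, mem_univ, true_and] at hk
    obtain ⟨g, rfl⟩ := isConj_iff.1 hk
    rw [← ht2, ← MulAut.conj_apply, MulEquiv.orderOf_eq]
  obtain ⟨e1, e2⟩ := double_count h2 K hKconj f (fun k hk => hfix k (hK2 k hk)) o
  replace e2 := e2 p hp
  set κ := (K.filter fun k => k • o = o).card with hκdef
  set σ := (K.filter fun k => k • o = p).card
  have hκ1 : 1 ≤ κ := Finset.card_pos.2 ⟨t, mem_filter.2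
    ⟨mem_filter.2 ⟨mem_univ _, IsConj.refl t⟩, hSo t htS⟩⟩
  have hκS : κ ≤ Fintype.card S - 1 := by
    rw [hκdef, ← Finset.card_univ (α := S), ← Finset.card_erase_of_mem (mem_univ (1 : S))]
    refine Finset.card_le_card_of_injOn
      (fun k => if h : k ∈ S then (⟨k, h⟩ : S) else 1) ?_ ?_
    · intro k hk
      simp only [Finset.mem_coe, mem_filter] at hk
      have hkS := hinv k (hK2 k hk.1) hk.2
      simp only [dif_pos hkS, Finset.mem_coe, mem_erase, ne_eq, mem_univ, and_true]
      intro h
      have h' := hK2 k hk.1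
      rw [show k = 1 from congrArg Subtype.val h, orderOf_one] at h'
      exact absurd h' (by norm_num)
    · intro k hk k' hk' h
      simp only [Finset.mem_coe, mem_filter] at hk hk'
      simp only [dif_pos (hinv k (hK2 k hk.1) hk.2), dif_pos (hinv k' (hK2 k' hk'.1) hk'.2)] at h
      exact congrArg Subtype.val h
  have hwκ : w ≤ κ := by
    have hvmf : v - f = f * 2 ^ m := by rw [hvf, mul_add, mul_one, Nat.add_sub_cancel]
    have key : κ * 2 ^ m = (v - 1) * σ := by
      apply Nat.eq_of_mul_eq_mul_left (show 0 < v * f by exact Nat.mul_pos (by omega) hf1)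
      calc v * f * (κ * 2 ^ m) = (v * κ) * (f * 2 ^ m) := by ring
        _ = (K.card * f) * (v - f) := by rw [e1, hvmf]
        _ = (K.card * (v - f)) * f := by ring
        _ = v * (v - 1) * σ * f := by rw [e2]
        _ = v * f * ((v - 1) * σ) := by ring
    have hd : w ∣ κ * 2 ^ m := ⟨2 ^ a * σ, by rw [key, hw]; ring⟩
    exact Nat.le_of_dvd hκ1 ((Nat.Coprime.pow_right _ (Nat.coprime_two_right.2 hwodd)).dvd_of_dvd_mul_right hd)
  -- the final inequality
  have hwf : f + 2 ^ m ≤ w := by
    have hsplit : 2 ^ (m - a) * (2 ^ a - 1) + (2 ^ (m - a) - 1) = 2 ^ m - 1 := by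
      have h3 : 2 ^ m = 2 ^ (m - a) * 2 ^ a := by rw [← pow_add]; congr 1; omega
      have h4 : 1 ≤ 2 ^ (m - a) := Nat.one_le_two_pow
      have h5 : 2 ^ (m - a) ≤ 2 ^ (m - a) * 2 ^ a := Nat.le_mul_of_pos_right _ (by omega)
      rw [Nat.mul_sub, mul_one, ← h3]
      rw [← h3] at h5
      omega
    have hd : 2 ^ a - 1 ∣ 2 ^ (m - a) - 1 := by
      have h6 : 2 ^ a - 1 ∣ 2 ^ (m - a) * (2 ^ a - 1) + (2 ^ (m - a) - 1) := by
        rw [hsplit]; exact ⟨f, by rw [← hf', mul_comm]⟩
      exact (Nat.dvd_add_right ⟨2 ^ (m - a), mul_comm _ _⟩).1 h6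
    have hge : 2 ^ a - 1 ≤ 2 ^ (m - a) - 1 := by
      refine Nat.le_of_dvd ?_ hd
      have : 2 ≤ 2 ^ (m - a) := by
        calc 2 = 2 ^ 1 := (pow_one 2).symm
          _ ≤ _ := Nat.pow_le_pow_right (by norm_num) (by omega)
      omega
    refine Nat.le_of_mul_le_mul_right (c := 2 ^ a - 1) ?_ (by omega)
    have hwa : 2 ^ a * (w * (2 ^ a - 1)) + (2 ^ a - 1) = 2 ^ (2 * m) - 1 := by
      rw [← mul_assoc, ← hw, ← hv, Nat.sub_mul, one_mul]
      have : 2 ^ a - 1 ≤ v * (2 ^ a - 1) := Nat.le_mul_of_pos_left _ (by omega)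
      omega
    have h7 : 2 ^ a * (w * (2 ^ a - 1) + 1) = 2 ^ a * 2 ^ (2 * m - a) := by
      rw [← pow_add, show a + (2 * m - a) = 2 * m by omega, mul_add, mul_one]
      have : 1 ≤ 2 ^ (2 * m) := Nat.one_le_two_pow
      omega
    have h8 : w * (2 ^ a - 1) + 1 = 2 ^ m * 2 ^ (m - a) := by
      rw [Nat.eq_of_mul_eq_mul_left (show 0 < 2 ^ a by omega) h7, ← pow_add]
      congr 1; omega
    rw [add_mul, hf']
    have h9 : 2 ^ m * (2 ^ a - 1) ≤ 2 ^ m * (2 ^ (m - a) - 1) := Nat.mul_le_mul_left _ hge
    have h10 : 2 ^ m * (2 ^ (m - a) - 1) + 2 ^ m = 2 ^ m * 2 ^ (m - a) := by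
      have h4 : 1 ≤ 2 ^ (m - a) := Nat.one_le_two_pow
      calc 2 ^ m * (2 ^ (m - a) - 1) + 2 ^ m = 2 ^ m * (2 ^ (m - a) - 1 + 1) := by ring
        _ = _ := by rw [Nat.sub_add_cancel h4]
    omega
  have hS1 : 1 ≤ Fintype.card S := Fintype.card_pos
  -- `(1 + w) |S| ≤ v + (|S| - 1) f` contradicts `|S| > w ≥ f + 2 ^ m`
  obtain ⟨d, hd⟩ : ∃ d, w = f + 2 ^ m + d := ⟨w - (f + 2 ^ m), by omega⟩
  obtain ⟨e, he⟩ : ∃ e, Fintype.card S = w + 1 + e :=
    ⟨Fintype.card S - (w + 1), by omega⟩
  have hb2 : (w + 1) * Fintype.card S ≤ v + (Fintype.card S - 1) * f :=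
    le_trans (Nat.mul_le_mul_right _ (by omega)) hburn
  have hv1 : v = 2 ^ a * w + 1 := by omega
  rw [he, show w + 1 + e - 1 = w + e by omega, hv1, hd] at hb2
  have h2m' : 2 ^ a + 1 ≤ 2 ^ m := h2m
  nlinarith

theorem one_involution {X Ω : Type*} [Group X] [Finite X] [MulAction X Ω] [Finite Ω]
    [MulAction.IsPretransitive X Ω] (o : Ω)
    (m : ℕ) (hm : 1 ≤ m) (hv : Nat.card Ω * (2 ^ m - 1) = 2 ^ (2 * m) - 1)
    (hf : ∀ t : X, orderOf t = 2 → Nat.card {w : Ω // t • w = w} * (2 ^ m - 1) = 2 ^ m - 1)
    (hD : ∀ t y : X, orderOf t = 2 → Odd (orderOf y) → t * y * t⁻¹ = y⁻¹ →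
      ∀ w : Ω, y • w = w → y = 1) :
    ∀ t t' : X, orderOf t = 2 → orderOf t' = 2 → t • o = o → t' • o = o → t = t' := by
  haveI := Fintype.ofFinite X
  haveI := Fintype.ofFinite Ω
  intro t t' ht ht' hto ht'o
  set v := Fintype.card Ω with hvdef
  rw [Nat.card_eq_fintype_card, ← hvdef] at hv
  have h2m : 2 ≤ 2 ^ m := by
    calc 2 = 2 ^ 1 := (pow_one 2).symm
      _ ≤ 2 ^ m := Nat.pow_le_pow_right (by norm_num) hm
  have hv' : v = 2 ^ m + 1 := by
    apply Nat.eq_of_mul_eq_mul_right (show 0 < 2 ^ m - 1 by omega)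
    rw [hv, pow_mul', ← Nat.sq_sub_sq, one_pow]
  have huniq : ∀ k : X, orderOf k = 2 → ∀ x y : Ω, k • x = x → k • y = y → x = y := by
    intro k hk x y hx hy
    have e1 := hf k hk
    rw [Nat.card_eq_fintype_card] at e1
    have h1 : Fintype.card {w : Ω // k • w = w} = 1 :=
      Nat.eq_of_mul_eq_mul_right (show 0 < 2 ^ m - 1 by omega) (by rw [e1, one_mul])
    exact congrArg Subtype.val
      ((Fintype.card_le_one_iff_subsingleton.1 h1.le).elim (⟨x, hx⟩ : {w : Ω // k • w = w}) ⟨y, hy⟩)
  set K := (univ : Finset X).filter (fun k => orderOf k = 2) with hKdef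
  have hK2 : ∀ k ∈ K, orderOf k = 2 := fun k hk => (mem_filter.1 hk).2
  have hmem : ∀ k : X, orderOf k = 2 → k ∈ K := fun k hk => mem_filter.2 ⟨mem_univ _, hk⟩
  have hmm : ∀ k : X, orderOf k = 2 → k * k = 1 := fun k hk => by
    rw [← sq, ← hk]; exact pow_orderOf_eq_one k
  have hconj : ∀ (g k : X), orderOf k = 2 → orderOf (g * k * g⁻¹) = 2 := by
    intro g k hk
    rw [← MulAut.conj_apply, MulEquiv.orderOf_eq]; exact hk
  -- every point is fixed by some involution
  have hpt : ∀ x : Ω, ∃ k : X, orderOf k = 2 ∧ k • x = x := by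
    intro x
    obtain ⟨g, hg⟩ := MulAction.exists_smul_eq X o x
    exact ⟨g * t * g⁻¹, hconj g t ht, by rw [← hg, mul_smul, mul_smul, inv_smul_smul, hto]⟩
  -- two distinct points are swapped by exactly one involution
  have hσ : ∀ x y : Ω, x ≠ y → (K.filter fun k => k • x = y).card = 1 := by
    intro x y hxy
    refine le_antisymm ?_ ?_
    · rw [Finset.card_le_one]
      intro k hk k' hk'
      simp only [mem_filter] at hk hk'
      have i1 := inv_eq_of_mul_eq_one_right (hmm k (hK2 k hk.1))
      have hky : k • y = x := by rw [← hk.2, ← mul_smul, hmm k (hK2 k hk.1), one_smul]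
      have hky' : k' • y = x := by rw [← hk'.2, ← mul_smul, hmm k' (hK2 k' hk'.1), one_smul]
      have fx : (k * k') • x = x := by rw [mul_smul, hk'.2, hky]
      have fy : (k * k') • y = y := by rw [mul_smul, hky', hk.2]
      rcases Nat.even_or_odd (orderOf (k * k')) with hev | hodd
      · exact absurd (huniq _ (involution_pow hev) x y (smul_pow_fix fx _) (smul_pow_fix fy _)) hxy
      · have h1 := hD k (k * k') (hK2 k hk.1) hodd
          (by rw [mul_inv_rev, i1, inv_eq_of_mul_eq_one_right (hmm k' (hK2 k' hk'.1)),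
            ← mul_assoc, hmm k (hK2 k hk.1), one_mul]) x fx
        have := mul_eq_one_iff_inv_eq.1 h1
        rw [i1] at this
        exact this
    · obtain ⟨a, ha, hax⟩ := hpt x
      obtain ⟨b, hb, hby⟩ := hpt y
      have ia : a⁻¹ = a := inv_eq_of_mul_eq_one_right (hmm a ha)
      have ib : b⁻¹ = b := inv_eq_of_mul_eq_one_right (hmm b hb)
      have hinv : a * (a * b) * a⁻¹ = (a * b)⁻¹ := by
        rw [mul_inv_rev, ib, ia, ← mul_assoc, hmm a ha, one_mul]
      have hinvp : ∀ n : ℕ, a * (a * b) ^ n = ((a * b) ^ n)⁻¹ * a := by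
        intro n
        rw [← inv_pow, ← hinv, conj_pow, mul_assoc _ a⁻¹, inv_mul_cancel, mul_one]
      rcases Nat.even_or_odd (orderOf (a * b)) with hev | hodd
      · exfalso
        have hu := involution_pow hev
        set u := (a * b) ^ (orderOf (a * b) / 2) with hudef
        have iu : u⁻¹ = u := inv_eq_of_mul_eq_one_right (hmm u hu)
        have hau : a * u = u * a := by rw [hudef, hinvp, ← hudef, iu]
        have hbu : b * u = u * b := by
          have h3 : (a * b) * u = u * (a * b) := (Commute.pow_right (Commute.refl _) _).eq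
          have hb' : b = a * (a * b) := by rw [← mul_assoc, hmm a ha, one_mul]
          calc b * u = a * ((a * b) * u) := by rw [← mul_assoc, ← hb']
            _ = a * u * (a * b) := by rw [h3, mul_assoc]
            _ = u * (a * (a * b)) := by rw [hau]; simp [mul_assoc]
            _ = u * b := by rw [← hb']
        have fux : u • x = x := (huniq a ha x (u • x) hax
          (by rw [← mul_smul, hau, mul_smul, hax])).symm
        have fuy : u • y = y := (huniq b hb y (u • y) hby
          (by rw [← mul_smul, hbu, mul_smul, hby])).symm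
        exact hxy (huniq u hu x y fux fuy)
      · obtain ⟨j, hj⟩ := hodd
        set c := a * b with hcdef
        have hc : c ^ (2 * j + 1) = 1 := by rw [← hj]; exact pow_orderOf_eq_one c
        have hw2 : (c ^ j * a) * (c ^ j * a) = 1 := by
          rw [mul_assoc, ← mul_assoc a, hinvp, mul_assoc, hmm a ha, mul_one, mul_inv_cancel]
        have hwne : c ^ j * a ≠ 1 := by
          intro h
          have haj : a = (c ^ j)⁻¹ := eq_inv_of_mul_eq_one_right h
          have h2d : 2 ∣ orderOf c := by
            rw [← ha, haj, orderOf_inv]; exact orderOf_pow_dvd j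
          omega
        have hwo : orderOf (c ^ j * a) = 2 :=
          orderOf_eq_prime (by rw [sq]; exact hw2) hwne
        have hbw : b * (c ^ j * a) = (c ^ j * a) * a := by
          have hb' : b = a * c := by rw [hcdef, ← mul_assoc, hmm a ha, one_mul]
          rw [mul_assoc _ a a, hmm a ha, mul_one, hb', mul_assoc, ← mul_assoc c, ← pow_succ',
            ← mul_assoc, hinvp, mul_assoc, hmm a ha, mul_one, inv_eq_iff_mul_eq_one, ← pow_add,
            show j + 1 + j = 2 * j + 1 by ring, hc]
        have hwx : (c ^ j * a) • x = y := huniq b hb ((c ^ j * a) • x) y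
          (by rw [← mul_smul, hbw, mul_smul, hax]) hby
        exact Finset.card_pos.2 ⟨c ^ j * a, mem_filter.2 ⟨hmem _ hwo, hwx⟩⟩
  -- double counting
  have hκ : ∀ x : Ω, (K.filter fun k => k • x = x).card = (K.filter fun k => k • o = o).card := by
    intro x
    obtain ⟨g, hg⟩ := MulAction.exists_smul_eq X o x
    symm
    refine Finset.card_bij' (fun k _ => g * k * g⁻¹) (fun k _ => g⁻¹ * k * g) ?_ ?_ ?_ ?_
    · intro k hk
      simp only [mem_filter] at hk ⊢
      exact ⟨hmem _ (hconj g k (hK2 k hk.1)),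
        by rw [← hg, mul_smul, mul_smul, inv_smul_smul, hk.2]⟩
    · intro k hk
      simp only [mem_filter] at hk ⊢
      refine ⟨hmem _ ?_, by rw [mul_smul, mul_smul, hg, hk.2, ← hg, inv_smul_smul]⟩
      have := hconj g⁻¹ k (hK2 k hk.1)
      rwa [inv_inv] at this
    · intro k _; group
    · intro k _; group
  have h1 : ∀ k ∈ K, (univ.filter fun w : Ω => k • w = w).card = 1 := by
    intro k hk
    have e1 := hf k (hK2 k hk)
    rw [Nat.card_eq_fintype_card, Fintype.card_subtype] at e1
    exact Nat.eq_of_mul_eq_mul_right (show 0 < 2 ^ m - 1 by omega) (by rw [e1, one_mul])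
  have e1 : K.card = v * (K.filter fun k => k • o = o).card := by
    calc K.card = ∑ k ∈ K, (univ.filter fun w : Ω => k • w = w).card := by
          rw [Finset.sum_congr rfl h1, Finset.sum_const, smul_eq_mul, mul_one]
      _ = ∑ w : Ω, (K.filter fun k => k • w = w).card := by
          simp only [Finset.card_filter]
          exact Finset.sum_comm
      _ = _ := by
          rw [Finset.sum_congr rfl (fun x _ => hκ x), Finset.sum_const, smul_eq_mul, Finset.card_univ]
  -- each pair has one swapper, so every point has `v - 1` swappers, each involution moving `v - 1` points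
  have e2 : K.card * (v - 1) = v * (v - 1) := by
    have hmv : ∀ k ∈ K, (univ.filter fun w : Ω => ¬ k • w = w).card = v - 1 := by
      intro k hk
      have := Finset.card_filter_add_card_filter_not
        (s := (univ : Finset Ω)) (fun w : Ω => k • w = w)
      rw [h1 k hk, Finset.card_univ] at this
      omega
    calc K.card * (v - 1)
        = ∑ k ∈ K, (univ.filter fun w : Ω => ¬ k • w = w).card := by
          rw [Finset.sum_congr rfl hmv, Finset.sum_const, smul_eq_mul]
      _ = ∑ x : Ω, (K.filter fun k => ¬ k • x = x).card := by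
          simp only [Finset.card_filter]
          exact Finset.sum_comm
      _ = ∑ x : Ω, ∑ y ∈ univ.erase x, (K.filter fun k => k • x = y).card := by
          refine Finset.sum_congr rfl fun x _ => ?_
          rw [Finset.card_eq_sum_card_fiberwise (t := univ.erase x) (f := fun k : X => k • x)]
          · refine Finset.sum_congr rfl fun y hy => ?_
            congr 1
            ext k
            simp only [mem_filter]
            constructor
            · exact fun h => ⟨h.1.1, h.2⟩
            · intro h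
              exact ⟨⟨h.1, by rw [h.2]; exact Finset.ne_of_mem_erase hy⟩, h.2⟩
          · intro k hk
            simp only [Finset.mem_coe, mem_filter] at hk
            simp [hk.2]
      _ = v * (v - 1) := by
          have hin : ∀ x : Ω, (∑ y ∈ univ.erase x, (K.filter fun k => k • x = y).card) = v - 1 := by
            intro x
            rw [Finset.sum_congr rfl (fun y hy => hσ x y (Finset.ne_of_mem_erase hy).symm),
              Finset.sum_const, smul_eq_mul, mul_one, Finset.card_erase_of_mem (mem_univ x),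
              Finset.card_univ]
          rw [Finset.sum_congr rfl (fun x _ => hin x), Finset.sum_const, smul_eq_mul,
            Finset.card_univ]
  have hKv : K.card = v := Nat.eq_of_mul_eq_mul_right (show 0 < v - 1 by omega) e2
  have hle : (K.filter fun k => k • o = o).card ≤ 1 := by
    have h := e1.symm.trans (hKv.trans (mul_one v).symm)
    exact (Nat.eq_of_mul_eq_mul_left (show 0 < v by omega) h).le
  exact Finset.card_le_one.1 hle t (mem_filter.2 ⟨hmem t ht, hto⟩) t'
    (mem_filter.2 ⟨hmem t' ht', ht'o⟩)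

end Cfsg.Agent.RealGraph
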