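import Mathlib
import Cfsg.Agent.RealGraph.Basic

/-!
# A group acting on an elementary abelian 2-group whose orbits have `π'`-lengths
-/

set_option autoImplicit false
set_option linter.unusedSectionVars false

namespace Cfsg.Agent.RealGraph

open Subgroup MulAction

universe u v

variable {Y : Type u} [Group Y] [Finite Y] {W : Type v} [CommGroup W] [Finite W]
  [MulDistribMulAction Y W]

/-- The configuration which is to be refuted. -/
structure Conf (π : Set ℕ) (Y : Type u) (W : Type v) [Group Y] [CommGroup W]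
    [MulDistribMulAction Y W] : Prop where
  two : 2 ∈ π
  sq : ∀ w : W, w * w = 1
  faith : ∀ a : Y, (∀ w : W, a • w = w) → a = 1
  irred : ∀ U : Subgroup W, (∀ a : Y, ∀ u ∈ U, a • u ∈ U) → U = ⊥ ∨ U = ⊤
  nontriv : ∃ w : W, w ≠ 1
  orb : ∀ v : W, v ≠ 1 → PiNum πᶜ (stabilizer Y v).index
  fpf : ∀ y : Y, Nice y → ∀ v : W, v ≠ 1 → y • v ≠ v
  clspi : ∀ y : Y, Nice y → PiNum π (cls y)
  insol : ¬ Group.IsSolvable Y
  perfect : commutator Y = ⊤
  proper : ∀ L : Subgroup Y, L.Normal → L ≠ ⊤ → Group.IsSolvable L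

/-- The fixed points of a subgroup. -/
def fixSub (H : Subgroup Y) : Subgroup W where
  carrier := {w | ∀ a ∈ H, a • w = w}
  one_mem' _ _ := smul_one _
  mul_mem' {x y} hx hy a ha := by rw [smul_mul', hx a ha, hy a ha]
  inv_mem' {x} hx a ha := by rw [smul_inv', hx a ha]

/-- The fixed points of an element. -/
def fix1 (u : Y) : Subgroup W where
  carrier := {w | u • w = w}
  one_mem' := smul_one _
  mul_mem' {x y} hx hy := by
    show u • (x * y) = x * y
    rw [smul_mul', show u • x = x from hx, show u • y = y from hy]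
  inv_mem' {x} hx := by
    show u • x⁻¹ = x⁻¹
    rw [smul_inv', show u • x = x from hx]

theorem mem_fix1 {u : Y} {w : W} : w ∈ fix1 u ↔ u • w = w := Iff.rfl

theorem mem_fixSub {H : Subgroup Y} {w : W} : w ∈ fixSub H ↔ ∀ a ∈ H, a • w = w := Iff.rfl

/-- No proper invariant subgroup. -/
def Irr (W : Type v) [Group W] [MulDistribMulAction Y W] (g : Y) : Prop :=
  ∀ U : Subgroup W, (∀ u ∈ U, g • u ∈ U) → U = ⊥ ∨ U = ⊤

theorem card_ne_one {α : Type*} [Finite α] [One α] :
    Nat.card {a : α // a ≠ 1} = Nat.card α - 1 := by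
  classical
  have := Fintype.ofFinite α
  rw [Nat.card_eq_fintype_card, Nat.card_eq_fintype_card, Fintype.card_subtype_compl,
    Fintype.card_subtype_eq]

theorem exists_sylow_le_of {p : ℕ} [Fact p.Prime] {H : Subgroup Y} (h : ¬ p ∣ H.index) :
    ∃ P : Sylow p Y, (P : Subgroup Y) ≤ H := by
  obtain ⟨Q⟩ : Nonempty (Sylow p H) := inferInstance
  obtain ⟨P, hP⟩ := IsPGroup.exists_le_sylow (Q.isPGroup'.map H.subtype)
  refine ⟨P, ?_⟩
  have e : (Q : Subgroup H).map H.subtype = (P : Subgroup Y) :=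
    Subgroup.eq_of_le_of_card_ge hP (le_of_eq (by
      rw [Subgroup.card_subtype, Q.card_eq_multiplicity, P.card_eq_multiplicity,
        ← H.card_mul_index, Nat.factorization_mul Nat.card_pos.ne'
          Subgroup.index_ne_zero_of_finite, Finsupp.add_apply,
        Nat.factorization_eq_zero_of_not_dvd h, add_zero]))
  rw [← e]
  exact Subgroup.map_subtype_le _

theorem normal_le_sylow {p : ℕ} [Fact p.Prime] {N : Subgroup Y} (hN : N.Normal)
    (hN2 : IsPGroup p N) (P : Sylow p Y) : N ≤ P := by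
  obtain ⟨Q, hQ⟩ := IsPGroup.exists_le_sylow hN2
  obtain ⟨g, rfl⟩ := MulAction.exists_smul_eq Y Q P
  intro a ha
  exact ⟨g⁻¹ * a * g, hQ (by simpa using hN.conj_mem a ha g⁻¹),
    by show g * (g⁻¹ * a * g) * g⁻¹ = a; group⟩

/-- A set on which all non-trivial powers of `g` act without fixed points has size divisible by
the order of `g`. -/
theorem dvd_ncard {g : Y} (s : Set W) (hs : ∀ w ∈ s, g • w ∈ s)
    (hfree : ∀ n : ℕ, ∀ w ∈ s, g ^ n • w = w → g ^ n = 1) : orderOf g ∣ s.ncard := by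
  have hpow : ∀ n : ℕ, ∀ w ∈ s, g ^ n • w ∈ s := by
    intro n
    induction n with
    | zero => intro w hw; simpa using hw
    | succ n ih => intro w hw; rw [pow_succ', mul_smul]; exact hs _ (ih w hw)
  have hz : ∀ a : Y, a ∈ zpowers g → ∃ n : ℕ, g ^ n = a := fun a ha =>
    Submonoid.mem_powers_iff _ _ |>.1 ((isOfFinOrder_of_finite g).mem_powers_iff_mem_zpowers.2 ha)
  let T : SubMulAction (zpowers g) W :=
    { carrier := s
      smul_mem' := fun a w hw => by
        obtain ⟨n, hn⟩ := hz _ a.2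
        show (a : Y) • w ∈ s
        rw [← hn]
        exact hpow n w hw }
  have hst : ∀ b : T, stabilizer (zpowers g) b = ⊥ := by
    intro b
    rw [eq_bot_iff]
    intro a ha
    obtain ⟨n, hn⟩ := hz _ a.2
    have h1 : (a : Y) • (b : W) = b := congrArg Subtype.val (mem_stabilizer_iff.1 ha)
    rw [← hn] at h1
    exact Subgroup.mem_bot.2 (Subtype.ext (by rw [← hn, hfree n _ b.2 h1]; rfl))
  have h2 := Nat.card_congr (selfEquivOrbitsQuotientProd hst)
  rw [Nat.card_prod, Nat.card_zpowers] at h2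
  have h3 : Nat.card T = s.ncard := Nat.card_coe_set_eq s
  rw [← h3, h2]
  exact dvd_mul_left _ _

/-- A two-element normalised structure: Frattini's argument. -/
theorem exists_normalising {p : ℕ} [Fact p.Prime] {K : Subgroup Y} {w : Y}
    (hw : ∀ x ∈ K, w * x * w⁻¹ ∈ K) (Q : Sylow p K) :
    ∃ c ∈ K, ∀ g ∈ (Q : Subgroup K).map K.subtype,
      (c * w) * g * (c * w)⁻¹ ∈ (Q : Subgroup K).map K.subtype := by
  set Q' := (Q : Subgroup K).map K.subtype with hQ'
  set Q'' := Q'.map (MulAut.conj w).toMonoidHom with hQ''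
  have hle : Q'' ≤ K := by
    rintro _ ⟨g, ⟨g', -, rfl⟩, rfl⟩
    exact hw _ g'.2
  obtain ⟨Q₂, hQ₂⟩ := IsPGroup.exists_le_sylow
    (((Q.isPGroup'.map K.subtype).map (MulAut.conj w).toMonoidHom).comap_of_injective
      K.subtype K.subtype_injective)
  have hQ₂eq : (Q₂ : Subgroup K) = Q''.comap K.subtype :=
    (Subgroup.eq_of_le_of_card_ge hQ₂ (by
      show Nat.card (Q₂ : Subgroup K) ≤ Nat.card (Q''.comap K.subtype)
      rw [show Q''.comap K.subtype = Q''.subgroupOf K from rfl,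
        Nat.card_congr (Subgroup.subgroupOfEquivOfLe hle).toEquiv, hQ'',
        Subgroup.card_map_of_injective (MulAut.conj w).injective, hQ', Subgroup.card_subtype,
        Q.card_eq_multiplicity, Q₂.card_eq_multiplicity])).symm
  obtain ⟨c, hc⟩ := MulAction.exists_smul_eq K Q₂ Q
  refine ⟨c, c.2, fun g hg => ?_⟩
  have h1 : w * g * w⁻¹ ∈ Q'' := ⟨g, hg, rfl⟩
  have h2 : (⟨_, hle h1⟩ : K) ∈ (Q₂ : Subgroup K) := by rw [hQ₂eq]; exact h1
  refine ⟨c * ⟨_, hle h1⟩ * c⁻¹, ?_, by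
    show (c : Y) * (w * g * w⁻¹) * (c : Y)⁻¹ = _
    group⟩
  rw [SetLike.mem_coe, ← hc]
  exact ⟨_, h2, rfl⟩

namespace Conf

variable {π : Set ℕ} (hc : Conf π Y W)

include hc

theorem isPGroup_W : IsPGroup 2 W := IsPGroup.iff_orderOf.2 fun w => by
  obtain ⟨j, -, hj⟩ := (Nat.dvd_prime_pow Nat.prime_two).1
    (show orderOf w ∣ 2 ^ 1 from orderOf_dvd_of_pow_eq_one (by rw [pow_one, pow_two, hc.sq]))
  exact ⟨j, hj⟩

theorem inv_eq (w : W) : w⁻¹ = w := inv_eq_of_mul_eq_one_right (hc.sq w)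

theorem card_subgroup (U : Subgroup W) : ∃ k : ℕ, Nat.card U = 2 ^ k := by
  have : Fact (Nat.Prime 2) := ⟨Nat.prime_two⟩
  exact IsPGroup.iff_card.1 (hc.isPGroup_W.to_subgroup U)

theorem one_lt_card : 1 < Nat.card W := by
  obtain ⟨w, hw⟩ := hc.nontriv
  have : Nontrivial W := ⟨⟨w, 1, hw⟩⟩
  exact Finite.one_lt_card

theorem two_dvd_card : 2 ∣ Nat.card W := by
  have : Fact (Nat.Prime 2) := ⟨Nat.prime_two⟩
  obtain ⟨k, hk⟩ := IsPGroup.iff_card.1 hc.isPGroup_W
  have := hc.one_lt_card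
  rw [hk] at this ⊢
  exact dvd_pow_self 2 (fun h => by rw [h] at this; simp at this)

theorem exists_fix_sylow (S : Sylow 2 Y) : ∃ v : W, v ≠ 1 ∧ v ∈ fixSub (S : Subgroup Y) := by
  have : Fact (Nat.Prime 2) := ⟨Nat.prime_two⟩
  obtain ⟨v, hv, hne⟩ := S.isPGroup'.exists_fixed_point_of_prime_dvd_card_of_fixed_point W
    hc.two_dvd_card (a := 1) (fun a => smul_one a)
  exact ⟨v, Ne.symm hne, fun a ha => hv ⟨a, ha⟩⟩

theorem top_of_orbit_le {v : W} (hv : v ≠ 1) (U : Subgroup W) (h : ∀ a : Y, a • v ∈ U) :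
    U = ⊤ := by
  let V : Subgroup W := Subgroup.closure (orbit Y v)
  have hV : V ≤ U := (Subgroup.closure_le U).2 (by rintro _ ⟨a, rfl⟩; exact h a)
  rcases hc.irred V (fun a u hu => by
      induction hu using Subgroup.closure_induction with
      | mem x hx => exact Subgroup.subset_closure (smul_mem_orbit_of_mem_orbit a hx)
      | one => rw [smul_one]; exact V.one_mem
      | mul x y _ _ hx hy => rw [smul_mul']; exact V.mul_mem hx hy
      | inv x _ hx => rw [smul_inv']; exact V.inv_mem hx) with h1 | h1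
  · exact absurd (Subgroup.mem_bot.1 (h1 ▸ Subgroup.subset_closure (mem_orbit_self v))) hv
  · exact top_le_iff.1 (h1 ▸ hV)
where
  smul_mem_orbit_of_mem_orbit (a : Y) {x v : W} (hx : x ∈ orbit Y v) : a • x ∈ orbit Y v := by
    obtain ⟨b, rfl⟩ := hx
    exact ⟨a * b, mul_smul a b v⟩

theorem not_two_dvd_orb {v : W} (hv : v ≠ 1) : ¬ 2 ∣ (stabilizer Y v).index :=
  not_two_dvd_of_piNum_compl hc.two (hc.orb v hv)

theorem stab_no_nice {v : W} (hv : v ≠ 1) : ∀ x ∈ stabilizer Y v, ¬ Nice x :=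
  fun x hx hn => hc.fpf x hn v hv (mem_stabilizer_iff.1 hx)

theorem sylow_stab_unique {v : W} (hv : v ≠ 1) {S T : Sylow 2 Y}
    (hS : v ∈ fixSub (S : Subgroup Y)) (hT : v ∈ fixSub (T : Subgroup Y)) : S = T := by
  have : Fact (Nat.Prime 2) := ⟨Nat.prime_two⟩
  have hS' : (S : Subgroup Y) ≤ stabilizer Y v := fun a ha => mem_stabilizer_iff.2 (hS a ha)
  have hT' : (T : Subgroup Y) ≤ stabilizer Y v := fun a ha => mem_stabilizer_iff.2 (hT a ha)
  obtain ⟨g, hg⟩ := MulAction.exists_smul_eq (stabilizer Y v) (S.subtype hS') (T.subtype hT')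
  have := (structure_of_no_nice _ (hc.stab_no_nice hv)).1 (S.subtype hS')
  rw [Sylow.smul_eq_of_normal] at hg
  exact Sylow.subtype_injective hg

theorem exists_sylow_stab {v : W} (hv : v ≠ 1) : ∃ S : Sylow 2 Y, v ∈ fixSub (S : Subgroup Y) := by
  obtain ⟨S, hS⟩ := exists_sylow_le (hc.not_two_dvd_orb hv)
  exact ⟨S, fun a ha => mem_stabilizer_iff.1 (hS ha)⟩

/-- A two-element fixing a vector lies in the Sylow subgroup of the vector. -/
theorem mem_of_fix {v : W} (hv : v ≠ 1) {S : Sylow 2 Y} (hS : v ∈ fixSub (S : Subgroup Y))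
    {u : Y} (hu : ∃ k : ℕ, orderOf u = 2 ^ k) (hfix : u • v = v) : u ∈ (S : Subgroup Y) := by
  have : Fact (Nat.Prime 2) := ⟨Nat.prime_two⟩
  have hS' : (S : Subgroup Y) ≤ stabilizer Y v := fun a ha => mem_stabilizer_iff.2 (hS a ha)
  have hn := (structure_of_no_nice _ (hc.stab_no_nice hv)).1 (S.subtype hS')
  obtain ⟨k, hk⟩ := hu
  obtain ⟨Q, hQ⟩ := IsPGroup.exists_le_sylow (p := 2)
    (P := zpowers (⟨u, mem_stabilizer_iff.2 hfix⟩ : stabilizer Y v))
    (IsPGroup.of_card (n := k) (by rw [Nat.card_zpowers, Subgroup.orderOf_mk, hk]))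
  obtain ⟨g, hg⟩ := MulAction.exists_smul_eq (stabilizer Y v) (S.subtype hS') Q
  rw [Sylow.smul_eq_of_normal] at hg
  exact (hg ▸ hQ (mem_zpowers _) : _)

theorem smul_fixSub {S T : Sylow 2 Y} {a : Y} (h : a • S = T) {v : W}
    (hv : v ∈ fixSub (S : Subgroup Y)) : a • v ∈ fixSub (T : Subgroup Y) := by
  intro x hx
  rw [← h] at hx
  obtain ⟨q, hq, rfl⟩ := hx
  show (a * q * a⁻¹) • a • v = a • v
  rw [← mul_smul, inv_mul_cancel_right, mul_smul, hv q hq]

theorem card_fixSub_eq (S T : Sylow 2 Y) :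
    Nat.card (fixSub (S : Subgroup Y) : Subgroup W) = Nat.card (fixSub (T : Subgroup Y) : Subgroup W) := by
  have : Fact (Nat.Prime 2) := ⟨Nat.prime_two⟩
  have key : ∀ S T : Sylow 2 Y, Nat.card (fixSub (S : Subgroup Y) : Subgroup W)
      ≤ Nat.card (fixSub (T : Subgroup Y) : Subgroup W) := fun S T => by
    obtain ⟨a, ha⟩ := MulAction.exists_smul_eq Y S T
    exact Nat.card_le_card_of_injective (fun v => ⟨a • (v : W), hc.smul_fixSub ha v.2⟩)
      fun v w h => Subtype.ext (MulAction.injective a (congrArg Subtype.val h))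
  exact le_antisymm (key S T) (key T S)

theorem card_cells (S : Sylow 2 Y) :
    Nat.card W - 1 =
      Nat.card (Sylow 2 Y) * (Nat.card (fixSub (S : Subgroup Y) : Subgroup W) - 1) := by
  classical
  have := Fintype.ofFinite (Sylow 2 Y)
  let σ : {v : W // v ≠ 1} → Sylow 2 Y := fun v => (hc.exists_sylow_stab v.2).choose
  have hσ : ∀ v, (v : W) ∈ fixSub (σ v : Subgroup Y) := fun v => (hc.exists_sylow_stab v.2).choose_spec
  have hfib : ∀ T : Sylow 2 Y, Nat.card {v : {v : W // v ≠ 1} // σ v = T}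
      = Nat.card (fixSub (S : Subgroup Y) : Subgroup W) - 1 := fun T => by
    rw [hc.card_fixSub_eq S T, ← card_ne_one]
    refine Nat.card_congr
      { toFun := fun v => ⟨⟨v.1.1, by have := hσ v.1; rwa [v.2] at this⟩,
          fun e => v.1.2 (congrArg Subtype.val e)⟩
        invFun := fun v => ⟨⟨v.1.1, fun e => v.2 (Subtype.ext e)⟩,
          hc.sylow_stab_unique (fun e => v.2 (Subtype.ext e)) (hσ _) v.1.2⟩
        left_inv := fun v => rfl
        right_inv := fun v => rfl }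
  rw [← card_ne_one, ← Nat.card_congr (Equiv.sigmaFiberEquiv σ), Nat.card_sigma,
    Finset.sum_congr rfl (fun T _ => hfib T), Finset.sum_const, Finset.card_univ, smul_eq_mul,
    Nat.card_eq_fintype_card (α := Sylow 2 Y)]

theorem stab_le_normalizer {v : W} (hv : v ≠ 1) {S : Sylow 2 Y}
    (hS : v ∈ fixSub (S : Subgroup Y)) :
    stabilizer Y v ≤ normalizer ((S : Subgroup Y) : Set Y) := by
  intro a ha
  refine Sylow.smul_eq_iff_mem_normalizer.1 (hc.sylow_stab_unique hv ?_ hS)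
  have := hc.smul_fixSub (T := a • S) rfl hS
  rwa [mem_stabilizer_iff.1 ha] at this

theorem normalizer_piNum (S : Sylow 2 Y) :
    PiNum πᶜ (normalizer ((S : Subgroup Y) : Set Y)).index := by
  obtain ⟨v, hv, hS⟩ := hc.exists_fix_sylow S
  exact (hc.orb v hv).of_dvd (index_dvd_of_le (hc.stab_le_normalizer hv hS))

theorem trans_orbit {y : Y} (hy : Nice y) {v : W} (hv : v ≠ 1) (a : Y) :
    ∃ c : Y, Commute c y ∧ a • v = c • v := by
  obtain ⟨c, hcm, b, hb, rfl⟩ := exists_mul_of_coprime (stabilizer Y v)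
    (centralizer ({y} : Set Y)) ((hc.clspi y hy).coprime (hc.orb v hv)).symm a
  exact ⟨c, mem_centralizer_singleton_iff.1 hcm, by rw [mul_smul, mem_stabilizer_iff.1 hb]⟩

theorem trans_sylow {y : Y} (hy : Nice y) (S T : Sylow 2 Y) :
    ∃ c : Y, Commute c y ∧ c • S = T := by
  have : Fact (Nat.Prime 2) := ⟨Nat.prime_two⟩
  obtain ⟨a, rfl⟩ := MulAction.exists_smul_eq Y S T
  obtain ⟨c, hcm, b, hb, rfl⟩ := exists_mul_of_coprime (normalizer ((S : Subgroup Y) : Set Y))
    (centralizer ({y} : Set Y)) ((hc.clspi y hy).coprime (hc.normalizer_piNum S)).symm a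
  exact ⟨c, mem_centralizer_singleton_iff.1 hcm,
    by rw [mul_smul, Sylow.smul_eq_iff_mem_normalizer.2 hb]⟩

/-- No nice element normalises a Sylow 2-subgroup. -/
theorem not_nice_normalizer {y : Y} (hy : Nice y) (S : Sylow 2 Y) :
    y ∉ normalizer ((S : Subgroup Y) : Set Y) := by
  have : Fact (Nat.Prime 2) := ⟨Nat.prime_two⟩
  intro hn
  obtain ⟨w, ⟨k, hk⟩, hw⟩ := exists_inverter hy.1
  obtain ⟨T, hT⟩ := IsPGroup.exists_le_sylow (p := 2) (P := zpowers w)
    (IsPGroup.of_card (n := k) (by rw [Nat.card_zpowers, hk]))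
  obtain ⟨c, hcy, rfl⟩ := hc.trans_sylow hy S T
  have hyT : y • (c • S) = c • S := by
    rw [← mul_smul, ← hcy.eq, mul_smul, Sylow.smul_eq_iff_mem_normalizer.2 hn]
  have h1 : w ∈ ((c • S : Sylow 2 Y) : Subgroup Y) := hT (mem_zpowers w)
  have h2 : y * w⁻¹ * y⁻¹ ∈ ((c • S : Sylow 2 Y) : Subgroup Y) :=
    (Subgroup.mem_normalizer_iff.1 (Sylow.smul_eq_iff_mem_normalizer.1 hyT) _).1 (inv_mem h1)
  have h3 : (y⁻¹) * y⁻¹ ∈ ((c • S : Sylow 2 Y) : Subgroup Y) := by
    have := mul_mem h1 h2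
    rwa [show w * (y * w⁻¹ * y⁻¹) = w * y * w⁻¹ * y⁻¹ by group, hw] at this
  obtain ⟨j, hj⟩ := IsPGroup.iff_orderOf.1 (c • S).isPGroup' ⟨_, h3⟩
  rw [← Subgroup.orderOf_coe] at hj
  have h4 : orderOf (y⁻¹ * y⁻¹) ∣ orderOf y := by
    rw [← pow_two, ← orderOf_inv y]
    exact orderOf_pow_dvd 2
  have hj' : orderOf (y⁻¹ * y⁻¹) = 2 ^ j := hj
  rcases Nat.eq_zero_or_pos j with h0 | h0
  · rw [h0, pow_zero, orderOf_eq_one_iff, ← mul_inv_rev, inv_eq_one] at hj'
    exact hy.sq_ne_one hj'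
  · exact Nat.not_even_iff_odd.2 hy.odd (even_iff_two_dvd.2
      ((dvd_pow_self 2 h0.ne').trans (hj' ▸ h4)))

theorem twoCore_trivial {N : Subgroup Y} (hN : N.Normal) (h2 : IsPGroup 2 N) : N = ⊥ := by
  have : Fact (Nat.Prime 2) := ⟨Nat.prime_two⟩
  obtain ⟨v, hv, hne⟩ := h2.exists_fixed_point_of_prime_dvd_card_of_fixed_point W
    hc.two_dvd_card (a := 1) (fun a => smul_one a)
  have htop : fixSub N = (⊤ : Subgroup W) := hc.top_of_orbit_le (Ne.symm hne) _ fun a b hb => by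
    have h1 : (a⁻¹ * b * a) • v = v := hv ⟨_, by simpa using hN.conj_mem b hb a⁻¹⟩
    rw [mul_smul, mul_smul] at h1
    exact inv_smul_eq_iff.1 h1
  rw [eq_bot_iff]
  intro a ha
  exact Subgroup.mem_bot.2 (hc.faith a fun w => (htop ▸ Subgroup.mem_top w : w ∈ fixSub N) a ha)

theorem exists_nice_inverted {u : Y} (hu : orderOf u = 2) :
    ∃ y : Y, Nice y ∧ u * y * u⁻¹ = y⁻¹ := by
  have : Fact (Nat.Prime 2) := ⟨Nat.prime_two⟩
  by_contra hno
  push Not at hno
  have hu2 : u * u = 1 := by rw [← pow_two, ← hu, pow_orderOf_eq_one]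
  have hui : u⁻¹ = u := inv_eq_of_mul_eq_one_right hu2
  obtain ⟨N, hN, hN2, huN⟩ := Invol.baer_suzuki (p := 2) (zpowers u)
    (IsPGroup.of_card (n := 1) (by rw [Nat.card_zpowers, hu, pow_one])) (fun g => by
      set s' := g * u * g⁻¹ with hs'
      have hs'2 : s' * s' = 1 := by
        rw [hs', show g * u * g⁻¹ * (g * u * g⁻¹) = g * (u * u) * g⁻¹ by group, hu2]; group
      have hs'i : s'⁻¹ = s' := inv_eq_of_mul_eq_one_right hs'2
      set x := u * s' with hxdef
      have hxi : u * x * u⁻¹ = x⁻¹ := by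
        rw [hxdef, mul_inv_rev, hui, hs'i, ← mul_assoc, hu2, one_mul]
      have hx2 : IsPGroup 2 (zpowers x) := by
        obtain ⟨k, m, hm, he⟩ := Nat.exists_eq_two_pow_mul_odd (orderOf_pos x).ne'
        rcases Nat.eq_or_lt_of_le hm.pos with hm1 | hm1
        · exact IsPGroup.of_card (n := k) (by rw [Nat.card_zpowers, he, ← hm1]; simp)
        · exfalso
          have ho : orderOf (x ^ 2 ^ k) = m := by
            rw [orderOf_pow_of_dvd (by positivity) ⟨m, he⟩, he,
              Nat.mul_div_cancel_left _ (by positivity)]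
          obtain ⟨i, hi⟩ := exists_nice_pow (isConj_inv_of_conj (conj_pow_inv hxi (2 ^ k)))
            (ho ▸ hm) (fun e => by rw [e, orderOf_one] at ho; omega)
          exact hno _ hi (conj_pow_inv (conj_pow_inv hxi (2 ^ k)) i)
      have hle : zpowers u ≤ normalizer (zpowers x : Set Y) := by
        rw [zpowers_le]
        refine Subgroup.mem_normalizer_iff.2 fun z => ?_
        have hfwd : ∀ z ∈ zpowers x, u * z * u⁻¹ ∈ zpowers x := by
          rintro _ ⟨i, rfl⟩
          show u * x ^ i * u⁻¹ ∈ _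
          rw [← conj_zpow, hxi]
          exact zpow_mem (inv_mem (mem_zpowers x)) _
        refine ⟨hfwd z, fun hz => ?_⟩
        have := hfwd _ hz
        rwa [hui, show u * (u * z * u) * u = (u * u) * z * (u * u) by group, hu2, one_mul,
          mul_one] at this
      have hsup := IsPGroup.to_sup_of_normal_right'
        (IsPGroup.of_card (p := 2) (n := 1) (G := zpowers u)
          (by rw [Nat.card_zpowers, hu, pow_one])) hx2 hle
      refine hsup.to_le (sup_le le_sup_left ?_)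
      rintro _ ⟨z, ⟨i, rfl⟩, rfl⟩
      show g * u ^ i * g⁻¹ ∈ _
      rw [← conj_zpow, ← hs', show s' = u * x by rw [hxdef, ← mul_assoc, hu2, one_mul]]
      exact zpow_mem (mul_mem (mem_sup_left (mem_zpowers u)) (mem_sup_right (mem_zpowers x))) _)
  have : u ∈ (⊥ : Subgroup Y) := hc.twoCore_trivial hN hN2 ▸ huN (mem_zpowers u)
  rw [Subgroup.mem_bot] at this
  rw [this, orderOf_one] at hu
  exact absurd hu (by decide)

/-- An involution fixes exactly half of the dimension. -/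
theorem half {u : Y} (hu : orderOf u = 2) :
    Nat.card W = Nat.card (fix1 u : Subgroup W) * Nat.card (fix1 u : Subgroup W) := by
  have hu2 : u * u = 1 := by rw [← pow_two, ← hu, pow_orderOf_eq_one]
  obtain ⟨y, hy, hyu⟩ := hc.exists_nice_inverted hu
  let δ : W →* W :=
    { toFun := fun w => w * u • w
      map_one' := by simp
      map_mul' := fun a b => by rw [smul_mul']; exact mul_mul_mul_comm _ _ _ _ }
  refine le_antisymm ?_ ?_
  · have h1 := δ.ker.card_mul_index
    rw [Subgroup.index_ker] at h1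
    rw [← h1]
    refine Nat.mul_le_mul (Subgroup.card_le_of_le (fun w hw => ?_))
      (Subgroup.card_le_of_le (fun w hw => ?_))
    · have e : w * u • w = 1 := hw
      show u • w = w
      rw [← hc.inv_eq w]
      rw [hc.inv_eq w]
      exact (eq_inv_of_mul_eq_one_right e).trans (hc.inv_eq w)
    · obtain ⟨x, rfl⟩ := hw
      show u • (x * u • x) = x * u • x
      rw [smul_mul', ← mul_smul, hu2, one_smul, mul_comm]
  · obtain ⟨j, hj⟩ := hy.odd
    set k := y ^ (j + 1) with hk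
    have hky : y = k * k := by
      rw [hk, ← pow_add, show j + 1 + (j + 1) = 2 * j + 1 + 1 by ring, ← hj, pow_succ,
        pow_orderOf_eq_one, one_mul]
    have hconj : u * y = k⁻¹ * u * k := by
      have h1 : u * k * u⁻¹ = k⁻¹ := conj_pow_inv hyu _
      have h2 : k⁻¹ * u = u * k := by rw [← h1, inv_mul_cancel_right]
      rw [h2, hky, mul_assoc]
    let f : ↥(fix1 u : Subgroup W) × ↥(fix1 u : Subgroup W) → W :=
      fun p => (p.1 : W) * k⁻¹ • (p.2 : W)
    rw [← Nat.card_prod]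
    refine Nat.card_le_card_of_injective f ?_
    intro p q h
    have h' : (q.1 : W)⁻¹ * p.1 = k⁻¹ • ((q.2 : W) * (p.2 : W)⁻¹) := by
      have e : (p.1 : W) * k⁻¹ • (p.2 : W) = q.1 * k⁻¹ • (q.2 : W) := h
      rw [smul_mul', smul_inv', eq_mul_inv_iff_mul_eq, mul_assoc, e, inv_mul_cancel_left]
    set z := (q.1 : W)⁻¹ * p.1 with hz
    have hz1 : u • z = z := ((fix1 u).mul_mem ((fix1 u).inv_mem q.1.2) p.1.2 : z ∈ fix1 u)
    have hz2 : (u * y) • z = z := by
      rw [hconj, h', mul_smul, smul_inv_smul, mul_smul,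
        show u • ((q.2 : W) * (p.2 : W)⁻¹) = (q.2 : W) * (p.2 : W)⁻¹ from
          (fix1 u).mul_mem q.2.2 ((fix1 u).inv_mem p.2.2)]
    have hzy : y • z = z := by
      rw [mul_smul] at hz2
      exact MulAction.injective u (hz2.trans hz1.symm)
    have hz0 : z = 1 := by_contra fun hne => hc.fpf y hy z hne hzy
    refine Prod.ext (Subtype.ext (inv_mul_eq_one.1 hz0).symm) (Subtype.ext ?_)
    rw [hz0] at h'
    exact (mul_inv_eq_one.1 ((smul_eq_iff_eq_inv_smul k⁻¹).1 h'.symm |>.trans (smul_one _))).symm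

theorem exists_involution : ∃ u : Y, orderOf u = 2 := by
  have : Fact (Nat.Prime 2) := ⟨Nat.prime_two⟩
  refine exists_prime_orderOf_dvd_card' 2 ?_
  by_contra h
  exact hc.insol (S0205.result (Nat.not_even_iff_odd.1 fun e => h e.two_dvd))

theorem exists_involution_mem (S : Sylow 2 Y) : ∃ u ∈ (S : Subgroup Y), orderOf u = 2 := by
  have : Fact (Nat.Prime 2) := ⟨Nat.prime_two⟩
  obtain ⟨u, hu⟩ := hc.exists_involution
  obtain ⟨T, hT⟩ := IsPGroup.exists_le_sylow (p := 2) (P := zpowers u)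
    (IsPGroup.of_card (n := 1) (by rw [Nat.card_zpowers, hu, pow_one]))
  obtain ⟨g, rfl⟩ := MulAction.exists_smul_eq Y S T
  obtain ⟨q, hq, hqu⟩ := hT (mem_zpowers u)
  refine ⟨q, hq, ?_⟩
  rw [← hu, ← hqu]
  exact (orderOf_injective (MulAut.conj g).toMonoidHom (MulAut.conj g).injective q).symm

theorem exists_nice : ∃ y : Y, Nice y := by
  obtain ⟨u, hu⟩ := hc.exists_involution
  exact ⟨_, (hc.exists_nice_inverted hu).choose_spec.1⟩

theorem fixSub_le_fix1 {S : Sylow 2 Y} {u : Y} (hu : u ∈ (S : Subgroup Y)) :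
    (fixSub (S : Subgroup Y) : Subgroup W) ≤ fix1 u := fun _ hw => hw u hu

/-- The numerical data. -/
theorem numbers (S : Sylow 2 Y) : ∃ h f : ℕ, Nat.card W = 2 ^ (2 * h) ∧ 1 ≤ f ∧ f ≤ h ∧
    Nat.card (fixSub (S : Subgroup Y) : Subgroup W) = 2 ^ f ∧
    Nat.card (Sylow 2 Y) * (2 ^ f - 1) = 2 ^ (2 * h) - 1 ∧
    ∀ u : Y, orderOf u = 2 → Nat.card (fix1 u : Subgroup W) = 2 ^ h := by
  obtain ⟨u, huS, hu⟩ := hc.exists_involution_mem S
  obtain ⟨h, hh⟩ := hc.card_subgroup (fix1 u)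
  obtain ⟨f, hf⟩ := hc.card_subgroup (fixSub (S : Subgroup Y))
  have hW : Nat.card W = 2 ^ (2 * h) := by rw [hc.half hu, hh, ← pow_add, two_mul]
  refine ⟨h, f, hW, ?_, ?_, hf, ?_, fun v hv => ?_⟩
  · rcases Nat.eq_zero_or_pos f with rfl | h0
    · obtain ⟨v, hv, hvS⟩ := hc.exists_fix_sylow S
      rw [pow_zero] at hf
      rw [Subgroup.card_eq_one] at hf
      exact absurd (Subgroup.mem_bot.1 (hf ▸ hvS)) hv
    · exact h0
  · have := Subgroup.card_le_of_le (hc.fixSub_le_fix1 huS)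
    rw [hf, hh] at this
    exact (Nat.pow_le_pow_iff_right (by norm_num)).1 this
  · rw [← hf, ← hW, hc.card_cells S]
  · obtain ⟨h', hh'⟩ := hc.card_subgroup (fix1 v)
    have := hc.half hv
    rw [hW, hh', ← pow_add] at this
    rw [hh', show h' = h by have := Nat.pow_right_injective le_rfl this; omega]

theorem irr_of_semireg {g : Y} {n : ℕ} (hn : Nat.card W = 2 ^ n)
    (hfree : ∀ (m : ℕ), ∀ w : W, w ≠ 1 → g ^ m • w = w → g ^ m = 1)
    (hd : ∀ k < n, orderOf g ∣ 2 ^ k - 1 → k = 0) : Irr W g := by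
  intro U hU
  obtain ⟨k, hk⟩ := hc.card_subgroup U
  have hle : k ≤ n := (Nat.pow_le_pow_iff_right (by norm_num)).1
    (hk ▸ hn ▸ Subgroup.card_le_card_group U)
  rcases hle.eq_or_lt with rfl | hlt
  · exact Or.inr (Subgroup.eq_top_of_card_eq U (hk.trans hn.symm))
  refine Or.inl (Subgroup.card_eq_one.1 ?_)
  have h1 := dvd_ncard (g := g) ((U : Set W) \ {1}) (fun w hw => ⟨hU w hw.1, fun e => hw.2 (by
      have e' : g • w = g • (1 : W) := by rw [smul_one]; exact e
      exact MulAction.injective g e')⟩) (fun m w hw h => hfree m w hw.2 h)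
  rw [Set.ncard_sdiff_singleton_of_mem U.one_mem, ← Nat.card_coe_set_eq,
    show Nat.card (U : Set W) = 2 ^ k from hk] at h1
  rw [hk, hd k hlt h1, pow_zero]

end Conf

end Cfsg.Agent.RealGraph
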