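import Mathlib
import Cfsg.Agent.RealGraph.Linear
import Cfsg.Agent.Arith.Zsigmondy

/-!
# A real element of odd order without invariant subgroup
-/

set_option autoImplicit false
set_option linter.unusedSectionVars false

namespace Cfsg.Agent.RealGraph

open Subgroup MulAction

universe u v

variable {Y : Type u} [Group Y] [Finite Y] {W : Type v} [CommGroup W] [Finite W]
  [MulDistribMulAction Y W]

/-- The endomorphism given by an element. -/
def endo (a : Y) : AddMonoid.End (Additive W) where
  toFun w := Additive.ofMul (a • Additive.toMul w)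
  map_zero' := congrArg Additive.ofMul (smul_one a)
  map_add' x y := congrArg Additive.ofMul (smul_mul' a _ _)

theorem endo_mul (a b : Y) : endo (W := W) (a * b) = endo a * endo b := by
  ext w
  exact congrArg Additive.ofMul (mul_smul a b (Additive.toMul w))

theorem endo_one : endo (W := W) (1 : Y) = 1 := by
  ext w
  exact congrArg Additive.ofMul (one_smul Y (Additive.toMul w))

namespace Conf

variable {π : Set ℕ} (hc : Conf π Y W)

include hc

theorem isCyclic_centralizer {g : Y} (hirr : Irr W g) :
    IsCyclic (centralizer ({g} : Set Y)) := by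
  classical
  let K : Subring (AddMonoid.End (Additive W)) := Subring.centralizer {endo g}
  let KK : Subring (AddMonoid.End (Additive W)) := Subring.centralizer (K : Set _)
  have hgKK : endo g ∈ KK := Subring.mem_centralizer_iff.2 fun φ hφ =>
    (Subring.mem_centralizer_iff.1 hφ _ rfl).symm
  have hKKK : KK ≤ K := fun φ hφ => Subring.mem_centralizer_iff.2 fun ψ hψ => by
    rw [Set.mem_singleton_iff.1 hψ]
    exact Subring.mem_centralizer_iff.1 hφ _ (Subring.mem_centralizer_iff.2 fun χ hχ => by
      rw [Set.mem_singleton_iff.1 hχ])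
  have hKg : ∀ φ ∈ K, ∀ w : W, φ (Additive.ofMul (g • w))
      = Additive.ofMul (g • Additive.toMul (φ (Additive.ofMul w))) := fun φ hφ w =>
    (DFunLike.congr_fun (Subring.mem_centralizer_iff.1 hφ _ rfl) (Additive.ofMul w)).symm
  obtain ⟨v, hv⟩ := hc.nontriv
  have hcomm : ∀ ψ ∈ K, ψ ∈ KK := by
    intro ψ hψ
    let U : Subgroup W :=
      { carrier := {w | ∃ φ ∈ KK, φ (Additive.ofMul v) = Additive.ofMul w}
        one_mem' := ⟨0, KK.zero_mem, rfl⟩
        mul_mem' := by
          rintro a b ⟨φ, hφ, hφa⟩ ⟨χ, hχ, hχb⟩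
          exact ⟨φ + χ, KK.add_mem hφ hχ, by
            show φ (Additive.ofMul v) + χ (Additive.ofMul v) = _
            rw [hφa, hχb]; rfl⟩
        inv_mem' := by
          rintro a ⟨φ, hφ, hφa⟩
          exact ⟨φ, hφ, by rw [hc.inv_eq a]; exact hφa⟩ }
    have hU : U = ⊤ := by
      rcases hirr U (fun w ⟨φ, hφ, hw⟩ => ⟨endo g * φ, KK.mul_mem hgKK hφ, by
          show endo g (φ (Additive.ofMul v)) = _
          rw [hw]; rfl⟩) with h | h
      · exact absurd (Subgroup.mem_bot.1 (h ▸ (⟨1, KK.one_mem, rfl⟩ : v ∈ U))) hv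
      · exact h
    obtain ⟨φ, hφ, hφv⟩ : Additive.toMul (ψ (Additive.ofMul v)) ∈ U := hU ▸ Subgroup.mem_top _
    let V : Subgroup W :=
      { carrier := {w | φ (Additive.ofMul w) = ψ (Additive.ofMul w)}
        one_mem' := (map_zero φ).trans (map_zero ψ).symm
        mul_mem' := fun {a b} ha hb => by
          show φ (Additive.ofMul a + Additive.ofMul b) = ψ (Additive.ofMul a + Additive.ofMul b)
          rw [map_add, map_add, ha, hb]
        inv_mem' := fun {a} ha => by
          show φ (Additive.ofMul a⁻¹) = ψ (Additive.ofMul a⁻¹)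
          rw [hc.inv_eq a]; exact ha }
    have hV : V = ⊤ := by
      rcases hirr V (fun w (hw : φ (Additive.ofMul w) = ψ (Additive.ofMul w)) => by
          show φ (Additive.ofMul (g • w)) = ψ (Additive.ofMul (g • w))
          rw [hKg φ (hKKK hφ), hKg ψ hψ, hw]) with h | h
      · exact absurd (Subgroup.mem_bot.1 (h ▸ (show v ∈ V from hφv))) hv
      · exact h
    have : φ = ψ := by
      ext w
      exact (hV ▸ Subgroup.mem_top (Additive.toMul w) : Additive.toMul w ∈ V)
    exact this ▸ hφ
  letI : CommRing K :=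
    { (inferInstance : Ring K) with
      mul_comm := fun a b => Subtype.ext
        (Subring.mem_centralizer_iff.1 (hcomm b b.2) a a.2) }
  have : Nontrivial K := ⟨⟨0, 1, fun e => hv (by
    have := DFunLike.congr_fun (congrArg Subtype.val e) (Additive.ofMul v)
    exact this.symm)⟩⟩
  have : NoZeroDivisors K := ⟨fun {a b} hab => by
    by_contra hne
    push Not at hne
    obtain ⟨ha, hb⟩ := hne
    let V : Subgroup W :=
      { carrier := {w | (a : AddMonoid.End (Additive W)) (Additive.ofMul w) = 0}
        one_mem' := map_zero _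
        mul_mem' := fun {x y} hx hy => by
          show (a : AddMonoid.End (Additive W)) (Additive.ofMul x + Additive.ofMul y) = 0
          rw [map_add, hx, hy, add_zero]
        inv_mem' := fun {x} hx => by
          show (a : AddMonoid.End (Additive W)) (Additive.ofMul x⁻¹) = 0
          rw [hc.inv_eq x]; exact hx }
    rcases hirr V (fun w (hw : (a : AddMonoid.End (Additive W)) (Additive.ofMul w) = 0) => by
        show (a : AddMonoid.End (Additive W)) (Additive.ofMul (g • w)) = 0
        rw [hKg _ a.2, hw]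
        exact congrArg Additive.ofMul (smul_one g)) with h | h
    · refine hb (Subtype.ext ?_)
      ext w
      have h1 : Additive.toMul ((b : AddMonoid.End (Additive W)) w) ∈ V :=
        DFunLike.congr_fun (congrArg Subtype.val hab) w
      rw [h, Subgroup.mem_bot] at h1
      exact h1
    · refine ha (Subtype.ext ?_)
      ext w
      exact (h ▸ Subgroup.mem_top (Additive.toMul w) : Additive.toMul w ∈ V)⟩
  have : IsDomain K := NoZeroDivisors.to_isDomain K
  let f : centralizer ({g} : Set Y) →* K :=
    { toFun := fun a => ⟨endo (a : Y), Subring.mem_centralizer_iff.2 fun φ hφ => by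
        rw [Set.mem_singleton_iff.1 hφ, ← endo_mul, ← endo_mul,
          mem_centralizer_singleton_iff.1 a.2]⟩
      map_one' := Subtype.ext endo_one
      map_mul' := fun a b => Subtype.ext (endo_mul _ _) }
  refine isCyclic_of_subgroup_isDomain f ((injective_iff_map_eq_one f).2 fun a ha => ?_)
  refine Subtype.ext (hc.faith _ fun w => ?_)
  exact congrArg Additive.toMul (DFunLike.congr_fun (congrArg Subtype.val ha) (Additive.ofMul w))

theorem centralizer_fixed_eq_one {g : Y} (hirr : Irr W g) {a : Y} (ha : Commute a g) {v : W}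
    (hv : v ≠ 1) (h : a • v = v) : a = 1 := by
  rcases hirr (fix1 a) (fun w hw => by
      show a • g • w = g • w
      rw [← mul_smul, ha.eq, mul_smul, mem_fix1.1 hw]) with e | e
  · exact absurd (Subgroup.mem_bot.1 (e ▸ (h : v ∈ fix1 a))) hv
  · exact hc.faith a fun w => (e ▸ Subgroup.mem_top w : w ∈ fix1 a)

theorem orderOf_ne_two_of_commute {g : Y} (hirr : Irr W g) {u : Y} (hu : Commute u g) :
    orderOf u ≠ 2 := by
  intro h2
  obtain ⟨v, hv⟩ : ∃ v : W, v ≠ 1 ∧ u • v = v := by
    by_contra h
    push Not at h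
    have hb : (fix1 u : Subgroup W) = ⊥ := (Subgroup.eq_bot_iff_forall _).2 fun w hw =>
      by_contra fun hne => h w hne hw
    have := hc.half h2
    rw [hb, Subgroup.card_bot, one_mul] at this
    exact hc.one_lt_card.ne' this
  rw [hc.centralizer_fixed_eq_one hirr hu hv.1 hv.2, orderOf_one] at h2
  exact absurd h2 (by decide)

theorem odd_of_commute {g : Y} (hirr : Irr W g) {a : Y} (ha : Commute a g) :
    Odd (orderOf a) := by
  by_contra h
  obtain ⟨m, hm⟩ := (Nat.not_odd_iff_even.1 h).two_dvd
  refine hc.orderOf_ne_two_of_commute hirr (ha.pow_left m) ?_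
  rw [orderOf_pow_of_dvd (by have := orderOf_pos a; omega) ⟨2, by rw [hm, mul_comm]⟩, hm,
    Nat.mul_div_cancel _ (by have := orderOf_pos a; omega)]

/-- A good element for a primitive prime divisor. -/
theorem good_of_prime {n q : ℕ} (hn : Nat.card W = 2 ^ n) (hq : q.Prime)
    (hq2 : q ≠ 2) (hppd : ∀ k < n, q ∣ 2 ^ k - 1 → k = 0) (hqN : q ∣ Nat.card (Sylow 2 Y))
    (hqn : q ∣ 2 ^ n - 1) :
    ∃ g : Y, Nice g ∧ Irr W g := by
  have := Fact.mk hq
  have : Fact (Nat.Prime 2) := ⟨Nat.prime_two⟩
  obtain ⟨y, hy⟩ := hc.exists_nice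
  obtain ⟨S⟩ : Nonempty (Sylow 2 Y) := inferInstance
  set K := centralizer ({y} : Set Y) with hK
  have hqK : q ∣ Nat.card K := by
    rw [S.card_eq_index_normalizer] at hqN
    replace hqN : q ∣ (normalizer ((S : Subgroup Y) : Set Y)).index := hqN
    rw [← relIndex_eq_of_coprime (normalizer ((S : Subgroup Y) : Set Y)) K
      ((hc.clspi y hy).coprime (hc.normalizer_piNum S)).symm] at hqN
    exact hqN.trans (Subgroup.index_dvd_card _)
  obtain ⟨w, hw2, hwy⟩ := exists_inverter hy.1
  have hwK : ∀ x ∈ K, w * x * w⁻¹ ∈ K := fun x hx => by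
    have hxy : Commute x y := mem_centralizer_singleton_iff.1 hx
    have := hxy.map (MulAut.conj w).toMonoidHom
    simp only [MulEquiv.coe_toMonoidHom, MulAut.conj_apply, hwy] at this
    exact mem_centralizer_singleton_iff.2 (Commute.inv_right_iff.1 this).eq
  obtain ⟨Q⟩ : Nonempty (Sylow q K) := inferInstance
  obtain ⟨c, hcK, hn'⟩ := exists_normalising hwK Q
  obtain ⟨m, hm, hm2⟩ := exists_odd_two_pow (c * w)
  set w' := (c * w) ^ m with hw'
  have hcy : Commute c y := mem_centralizer_singleton_iff.1 hcK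
  have hw'y : w' * y * w'⁻¹ = y⁻¹ := conj_odd_pow_inv (by
    rw [show c * w * y * (c * w)⁻¹ = c * (w * y * w⁻¹) * c⁻¹ by group, hwy, hcy.inv_right.eq,
      mul_inv_cancel_right]) hm
  set Q' := (Q : Subgroup K).map K.subtype with hQ'
  have hw'Q : ∀ g ∈ Q', w' * g * w'⁻¹ ∈ Q' := by
    have : ∀ (i : ℕ), ∀ g ∈ Q', (c * w) ^ i * g * ((c * w) ^ i)⁻¹ ∈ Q' := by
      intro i
      induction i with
      | zero => intro g hg; simpa using hg
      | succ i ih =>
        intro g hg
        have := hn' _ (ih g hg)
        rw [pow_succ']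
        generalize (c * w) ^ i = d at this ⊢
        generalize c * w = e at this ⊢
        rwa [show e * d * g * (e * d)⁻¹ = e * (d * g * d⁻¹) * e⁻¹ by group]
    exact this m
  have hQnt : Nontrivial (Q : Subgroup K) := by
    rw [Subgroup.nontrivial_iff_ne_bot]
    exact Q.ne_bot_of_dvd_card hqK
  have := Q.isPGroup'.center_nontrivial
  obtain ⟨z, hz⟩ := exists_prime_orderOf_dvd_card' q (G := center (Q : Subgroup K)) (by
    obtain ⟨j, hj0, hj⟩ := (Q.isPGroup'.to_subgroup (center (Q : Subgroup K))).nontrivial_iff_card.1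
      inferInstance
    rw [hj]; exact dvd_pow_self q hj0.ne')
  set g : Y := (((z : (Q : Subgroup K)) : K) : Y) with hgdef
  have hgord : orderOf g = q := by
    rw [hgdef, Subgroup.orderOf_coe, Subgroup.orderOf_coe, Subgroup.orderOf_coe, hz]
  have hgQ : g ∈ Q' := ⟨_, (z : (Q : Subgroup K)).2, rfl⟩
  have hQg : ∀ x ∈ Q', Commute x g := by
    rintro _ ⟨x, hx, rfl⟩
    exact congrArg (fun a : (Q : Subgroup K) => ((a : K) : Y))
      (Subgroup.mem_center_iff.1 z.2 ⟨x, hx⟩)
  have hpowfree : ∀ (i : ℕ) (w : W), g • w ≠ w → g ^ i • w = w → g ^ i = 1 := by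
    intro i w hne hfix
    by_contra h1
    apply hne
    have : g ∈ zpowers (g ^ i) := by
      have hle : zpowers (g ^ i) ≤ zpowers g := zpowers_le.2 (pow_mem (mem_zpowers g) i)
      have hord : orderOf (g ^ i) = q := by
        rcases (Nat.dvd_prime hq).1 (hgord ▸ orderOf_pow_dvd i) with e | e
        · exact absurd (orderOf_eq_one_iff.1 e) h1
        · exact e
      rw [Subgroup.eq_of_le_of_card_ge hle (le_of_eq (by
        rw [Nat.card_zpowers, Nat.card_zpowers, hord, hgord]))]
      exact mem_zpowers g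
    obtain ⟨j, hj⟩ := this
    have hs : g ^ i ∈ stabilizer Y w := mem_stabilizer_iff.2 hfix
    have := zpow_mem hs j
    rw [show (g ^ i) ^ j = g from hj] at this
    exact mem_stabilizer_iff.1 this
  -- no fixed point
  have hg0 : ∀ w : W, w ≠ 1 → g • w ≠ w := by
    intro w hwne hgw
    have h1 := dvd_ncard (g := g) {x : W | g • x ≠ x} (fun x hx e => hx (MulAction.injective g e))
      (fun i x hx h => hpowfree i x hx h)
    obtain ⟨j, hj⟩ := hc.card_subgroup (fix1 g)
    rw [hgord, show {x : W | g • x ≠ x} = ((fix1 g : Subgroup W) : Set W)ᶜ from rfl,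
      Set.ncard_compl, ← Nat.card_coe_set_eq, show Nat.card ((fix1 g : Subgroup W) : Set W) = 2 ^ j
        from hj, hn] at h1
    have hjn : j ≤ n := (Nat.pow_le_pow_iff_right (by norm_num)).1
      (hj ▸ hn ▸ Subgroup.card_le_card_group _)
    rw [show 2 ^ n - 2 ^ j = 2 ^ j * (2 ^ (n - j) - 1) by
      rw [Nat.mul_sub, ← pow_add, Nat.add_sub_cancel' hjn, mul_one]] at h1
    rcases (Nat.Prime.dvd_mul hq).1 h1 with e | e
    · exact hq2 ((Nat.prime_dvd_prime_iff_eq hq Nat.prime_two).1 (hq.dvd_of_dvd_pow e))
    · rcases Nat.eq_zero_or_pos j with rfl | hj0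
      · rw [pow_zero, Subgroup.card_eq_one] at hj
        exact hwne (Subgroup.mem_bot.1 (hj ▸ (hgw : w ∈ fix1 g)))
      · have := hppd (n - j) (by omega) e
        have hjeq : j = n := by omega
        have : g = 1 := hc.faith g fun x =>
          (Subgroup.eq_top_of_card_eq _ (hj.trans (hjeq ▸ hn.symm)) ▸ Subgroup.mem_top x :
            x ∈ fix1 g)
        rw [this, orderOf_one] at hgord
        exact hq.one_lt.ne hgord
  have hirr : Irr W g := hc.irr_of_semireg hn (fun i x hx h => hpowfree i x (hg0 x hx) h)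
    (fun k hk hd => hppd k hk (hgord ▸ hd))
  have hcyc := hc.isCyclic_centralizer hirr
  have huniq : ∀ x : Y, Commute x g → x ^ q = 1 → x ∈ zpowers g := by
    intro x hx hxq
    classical
    let C := centralizer ({g} : Set Y)
    have := Fintype.ofFinite C
    have hle := IsCyclic.card_pow_eq_one_le (α := C) hq.pos
    let g' : C := ⟨g, mem_centralizer_singleton_iff.2 rfl⟩
    have hg'o : orderOf g' = q := by rw [← hgord]; exact Subgroup.orderOf_mk g _
    have e : ((zpowers g' : Subgroup C) : Set C).toFinset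
        = Finset.univ.filter (fun a : C => a ^ q = 1) := by
      refine Finset.eq_of_subset_of_card_le (fun a ha => ?_) ?_
      · rw [Set.mem_toFinset] at ha
        obtain ⟨i, rfl⟩ := ha
        refine Finset.mem_filter.2 ⟨Finset.mem_univ _, ?_⟩
        show (g' ^ i) ^ q = 1
        rw [← zpow_natCast, ← zpow_mul, mul_comm, zpow_mul, zpow_natCast,
          show g' ^ q = 1 from hg'o ▸ pow_orderOf_eq_one g', one_zpow]
      · refine hle.trans (le_of_eq ?_)
        rw [← hg'o, ← Nat.card_zpowers, ← Set.ncard_eq_toFinset_card', ← Nat.card_coe_set_eq]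
        rfl
    have hx' : (⟨x, mem_centralizer_singleton_iff.2 hx.eq⟩ : C) ∈
        ((zpowers g' : Subgroup C) : Set C).toFinset := by
      rw [e]
      exact Finset.mem_filter.2 ⟨Finset.mem_univ _, Subtype.ext hxq⟩
    rw [Set.mem_toFinset] at hx'
    obtain ⟨i, hi⟩ := hx'
    exact ⟨i, congrArg Subtype.val hi⟩
  have hnorm : ∀ (k : ℕ) (a : Y), a ^ 2 ^ k = 1 → ¬ Commute a g →
      (∀ h ∈ zpowers g, a * h * a⁻¹ ∈ zpowers g) → IsConj g g⁻¹ := by
    intro k
    induction k with
    | zero =>
      intro a ha hna _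
      rw [pow_zero, pow_one] at ha
      exact absurd (ha ▸ Commute.one_left g) hna
    | succ k ih =>
      intro a ha hna hnz
      by_cases h2 : Commute (a * a) g
      · obtain ⟨i, hi⟩ := mem_zpowers_iff.1 (hnz g (mem_zpowers g))
        set h := g ^ i with hh
        have hah : a * h * a⁻¹ = g := by
          rw [hi, show a * (a * g * a⁻¹) * a⁻¹ = (a * a) * g * (a * a)⁻¹ by group, h2.eq,
            mul_inv_cancel_right]
        have hgh : Commute g h := (Commute.refl g).zpow_right i
        have hfix : Commute a (g * h) := by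
          refine (mul_inv_eq_iff_eq_mul.1 ?_)
          rw [show a * (g * h) * a⁻¹ = (a * g * a⁻¹) * (a * h * a⁻¹) by group, ← hi, hah, hgh.eq]
        by_cases h1 : g * h = 1
        · exact isConj_iff.2 ⟨a, by rw [← hi]; exact eq_inv_of_mul_eq_one_right h1⟩
        · exfalso
          apply hna
          have hmem : g * h ∈ zpowers g := mul_mem (mem_zpowers g) (zpow_mem (mem_zpowers g) i)
          have hord : orderOf (g * h) = q := by
            obtain ⟨l, hl⟩ := hmem
            have hl' : g ^ l = g * h := hl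
            rcases (Nat.dvd_prime hq).1 (show orderOf (g * h) ∣ q from
                orderOf_dvd_of_pow_eq_one (by
                  rw [← hl', ← zpow_natCast, ← zpow_mul, mul_comm, zpow_mul, zpow_natCast,
                    ← hgord, pow_orderOf_eq_one, one_zpow])) with e | e
            · exact absurd (orderOf_eq_one_iff.1 e) h1
            · exact e
          obtain ⟨l, hl⟩ : g ∈ zpowers (g * h) := by
            rw [Subgroup.eq_of_le_of_card_ge (zpowers_le.2 hmem) (le_of_eq (by
              rw [Nat.card_zpowers, Nat.card_zpowers, hord, hgord]))]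
            exact mem_zpowers g
          have := hfix.zpow_right l
          rwa [show (g * h) ^ l = g from hl] at this
      · refine ih (a * a) ?_ h2 fun x hx => ?_
        · rw [← pow_two, ← pow_mul, ← pow_succ']; exact ha
        · rw [show a * a * x * (a * a)⁻¹ = a * (a * x * a⁻¹) * a⁻¹ by group]
          exact hnz _ (hnz x hx)
  obtain ⟨k, hk⟩ := hm2
  have hreal : IsConj g g⁻¹ := hnorm k w' (hk ▸ pow_orderOf_eq_one w') (fun hcg => by
      have ho := hc.odd_of_commute hirr hcg
      rw [hk] at ho
      rcases Nat.eq_zero_or_pos k with h0 | h0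
      · rw [h0, pow_zero, orderOf_eq_one_iff] at hk
        rw [hk, one_mul, inv_one, mul_one] at hw'y
        exact hy.sq_ne_one (mul_eq_one_iff_eq_inv.2 hw'y)
      · exact Nat.not_even_iff_odd.2 ho (even_iff_two_dvd.2 (dvd_pow_self 2 h0.ne')))
    (fun h hh => by
      obtain ⟨i, rfl⟩ := hh
      show w' * g ^ i * w'⁻¹ ∈ zpowers g
      rw [← conj_zpow]
      refine zpow_mem (huniq _ (hQg _ (hw'Q g hgQ)) ?_) i
      rw [conj_pow, ← hgord, pow_orderOf_eq_one, mul_one, mul_inv_cancel])
  refine ⟨g, ⟨hreal, fun e => ?_, q, 1, hq, hq2, by rw [hgord, pow_one]⟩, hirr⟩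
  rw [e, orderOf_one] at hgord
  exact hq.one_lt.ne hgord

end Conf

end Cfsg.Agent.RealGraph
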