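import Mathlib
import Cfsg.Agent.RealGraph.Element

/-!
# The exceptional dimension six, and the existence of the element
-/

set_option autoImplicit false
set_option linter.unusedSectionVars false

namespace Cfsg.Agent.RealGraph

open Subgroup MulAction

universe u v

variable {Y : Type u} [Group Y] [Finite Y] {W : Type v} [CommGroup W] [Finite W]
  [MulDistribMulAction Y W]

namespace Conf

variable {π : Set ℕ} (hc : Conf π Y W)

include hc

theorem nice_of_pow {y : Y} (hy : Nice y) (m : ℕ) (h : y ^ m ≠ 1) : Nice (y ^ m) := by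
  obtain ⟨hr, -, p, k, hp, hp2, hk⟩ := hy
  obtain ⟨w, hw⟩ := isConj_iff.1 hr
  obtain ⟨j, -, hj⟩ := (Nat.dvd_prime_pow hp).1 (hk ▸ orderOf_pow_dvd m : orderOf (y ^ m) ∣ p ^ k)
  exact ⟨isConj_inv_of_conj (conj_pow_inv hw m), h, p, j, hp, hp2, hj⟩

theorem orderOf_dvd_card_sub_one {y : Y} (hy : Nice y) : orderOf y ∣ Nat.card W - 1 := by
  have h := dvd_ncard (g := y) ({1}ᶜ : Set W) (fun w hw e => hw (MulAction.injective y (by
      show y • w = y • (1 : W)
      rw [smul_one]; exact e)))
    (fun m w hw h => by_contra fun h1 => hc.fpf _ (hc.nice_of_pow hy m h1) w hw h)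
  rwa [Set.ncard_compl, Set.ncard_singleton] at h

/-- In dimension six no nice element has order seven. -/
theorem not_seven {y : Y} (hy : Nice y) : orderOf y ≠ 7 := by
  intro h7
  have hp7 : y ^ 7 = 1 := h7 ▸ pow_orderOf_eq_one y
  obtain ⟨w₀, -, hw⟩ := exists_inverter hy.1
  let m₁ : W → W := fun z => z * y • z * y ^ 3 • z
  let m₂ : W → W := fun z => z * y ^ 2 • z * y ^ 3 • z
  let K₁ : Subgroup W :=
    { carrier := {z | m₁ z = 1}
      one_mem' := by simp [m₁]
      mul_mem' := fun {a b} ha hb => by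
        show a * b * y • (a * b) * y ^ 3 • (a * b) = 1
        rw [smul_mul', smul_mul']
        calc a * b * (y • a * y • b) * (y ^ 3 • a * y ^ 3 • b)
            = (a * y • a * y ^ 3 • a) * (b * y • b * y ^ 3 • b) := by
              simp only [mul_assoc, mul_left_comm b]
              simp only [mul_comm, mul_left_comm, mul_assoc]
          _ = 1 := by
            show m₁ a * m₁ b = 1
            rw [show m₁ a = 1 from ha, show m₁ b = 1 from hb, one_mul]
      inv_mem' := fun {a} ha => by
        show m₁ a⁻¹ = 1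
        rw [hc.inv_eq a]; exact ha }
  have hy7 : ∀ (n : ℕ) (z : W), y ^ (n + 7) • z = y ^ n • z := fun n z => by
    rw [pow_add, hp7, mul_one]
  have hdich : K₁ = ⊥ ∨ K₁ = ⊤ := by
    by_cases hb : K₁ = ⊥
    · exact Or.inl hb
    obtain ⟨v, hvK, hv⟩ : ∃ v ∈ K₁, v ≠ 1 := by
      by_contra hne
      push Not at hne
      exact hb ((Subgroup.eq_bot_iff_forall _).2 hne)
    refine Or.inr (hc.top_of_orbit_le hv K₁ fun a => ?_)
    obtain ⟨c, hcy, e⟩ := hc.trans_orbit hy hv a
    rw [e]
    show c • v * y • c • v * y ^ 3 • c • v = 1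
    rw [← mul_smul y, ← hcy.eq, mul_smul, ← mul_smul (y ^ 3), ← (hcy.pow_right 3).eq, mul_smul,
      ← smul_mul', ← smul_mul', show v * y • v * y ^ 3 • v = 1 from hvK, smul_one]
  have hconj : ∀ (n : ℕ) (z : W), w₀ • y ^ n • z = (y ^ n)⁻¹ • w₀ • z := fun n z => by
    rw [← conj_pow_inv hw n, ← mul_smul, ← mul_smul, inv_mul_cancel_right]
  have h12 : (∀ z, m₁ z = 1) ↔ (∀ z, m₂ z = 1) := by
    have key : ∀ z, w₀ • m₁ z = (y ^ 3)⁻¹ • m₂ (w₀ • z) := fun z => by
      show w₀ • (z * y • z * y ^ 3 • z) = (y ^ 3)⁻¹ • (w₀ • z * y ^ 2 • w₀ • z * y ^ 3 • w₀ • z)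
      simp only [smul_mul']
      rw [show w₀ • y • z = y⁻¹ • w₀ • z by simpa using hconj 1 z, hconj 3, inv_smul_smul,
        ← mul_smul (y ^ 3)⁻¹ (y ^ 2), show (y ^ 3)⁻¹ * y ^ 2 = y⁻¹ by group]
      simp only [mul_comm, mul_left_comm, mul_assoc]
    constructor
    · intro h z
      have := key (w₀⁻¹ • z)
      rw [smul_inv_smul, h, smul_one] at this
      exact inv_smul_eq_iff.1 this.symm |>.trans (smul_one _)
    · intro h z
      have := key z
      rw [h, smul_one] at this
      exact (smul_eq_iff_eq_inv_smul w₀).1 this |>.trans (smul_one _)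
  rcases hdich with hb | ht
  · have h0 : ∀ z, m₁ (m₂ z) = 1 := fun z => by
      set P := z * y • z * y ^ 2 • z * y ^ 3 • z * y ^ 4 • z * y ^ 5 • z * y ^ 6 • z with hP
      have hPy : y • P = P := by
        rw [hP]
        simp only [smul_mul', ← mul_smul, ← pow_succ']
        rw [show y * y = y ^ 2 from (pow_two y).symm, show (6 : ℕ) + 1 = 0 + 7 from rfl, hy7 0,
          pow_zero, one_smul]
        simp only [mul_comm, mul_left_comm, mul_assoc]
      have hP1 : P = 1 := by_contra fun hne => hc.fpf y hy P hne hPy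
      have hsq3 : y ^ 3 • z * y ^ 3 • z = 1 := hc.sq _
      calc m₁ (m₂ z) = P * (y ^ 3 • z * y ^ 3 • z) := by
            show z * y ^ 2 • z * y ^ 3 • z * y • (z * y ^ 2 • z * y ^ 3 • z)
              * y ^ 3 • (z * y ^ 2 • z * y ^ 3 • z) = _
            simp only [hP, smul_mul', ← mul_smul, ← pow_add, ← pow_succ']
            simp only [mul_comm, mul_left_comm, mul_assoc]
        _ = 1 := by rw [hP1, hsq3, one_mul]
    have h2 : ∀ z, m₂ z = 1 := fun z => by
      have : m₂ z ∈ K₁ := h0 z
      rw [hb, Subgroup.mem_bot] at this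
      exact this
    obtain ⟨v, hv⟩ := hc.nontriv
    exact hv (Subgroup.mem_bot.1 (hb ▸ (h12.2 h2 v : v ∈ K₁)))
  · have h1 : ∀ z, m₁ z = 1 := fun z => (ht ▸ Subgroup.mem_top z : z ∈ K₁)
    obtain ⟨v, hv⟩ := hc.nontriv
    have e : v * y • v * y ^ 3 • v = v * y ^ 2 • v * y ^ 3 • v := (h1 v).trans (h12.1 h1 v).symm
    have e' : y ^ 2 • v = y • v := (mul_left_cancel (mul_right_cancel e)).symm
    rw [pow_two, mul_smul] at e'
    exact hc.fpf y hy v hv (MulAction.injective y e')

/-- The element in dimension six. -/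
theorem good_of_six (h64 : Nat.card W = 2 ^ 6) (h9 : 9 ∣ Nat.card (Sylow 2 Y)) :
    ∃ g : Y, Nice g ∧ Irr W g := by
  classical
  have : Fact (Nat.Prime 2) := ⟨Nat.prime_two⟩
  have : Fact (Nat.Prime 3) := ⟨Nat.prime_three⟩
  by_contra hno
  push Not at hno
  have h3 : ∀ y : Y, Nice y → y ^ 3 = 1 := by
    intro y hy
    obtain ⟨hyr, hy1, p, k, hp, hp2, hk⟩ := hy
    have hk0 : k ≠ 0 := fun e => hy1 (orderOf_eq_one_iff.1 (by rw [hk, e, pow_zero]))
    obtain ⟨k, rfl⟩ := Nat.exists_eq_succ_of_ne_zero hk0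
    have hd := hc.orderOf_dvd_card_sub_one ⟨hyr, hy1, p, _, hp, hp2, hk⟩
    rw [h64, hk, show 2 ^ 6 - 1 = 63 from rfl] at hd
    have hp63 : p ∣ 63 := (dvd_pow_self p hk0).trans hd
    have : p = 3 ∨ p = 7 := by
      have hle : p ≤ 63 := Nat.le_of_dvd (by norm_num) hp63
      rw [show (63 : ℕ) = 3 ^ 2 * 7 from rfl] at hp63
      rcases (Nat.Prime.dvd_mul hp).1 hp63 with e | e
      · exact Or.inl ((Nat.prime_dvd_prime_iff_eq hp Nat.prime_three).1 (hp.dvd_of_dvd_pow e))
      · exact Or.inr ((Nat.prime_dvd_prime_iff_eq hp (by norm_num)).1 e)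
    rcases this with rfl | rfl
    · rcases Nat.eq_zero_or_pos k with rfl | hkpos
      · have e : orderOf y = 3 := by simpa using hk
        exact e ▸ pow_orderOf_eq_one y
      · exfalso
        set g := y ^ (3 ^ (k - 1)) with hg
        have hgo : orderOf g = 9 := by
          rw [hg, orderOf_pow_of_dvd (by positivity) (hk ▸ pow_dvd_pow 3 (by omega)), hk,
            Nat.pow_div (by omega) (by norm_num), show k.succ - (k - 1) = 2 by omega]
          all_goals norm_num
        have hgn : Nice g := hc.nice_of_pow ⟨hyr, hy1, 3, _, hp, hp2, hk⟩ _ (fun e => by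
          rw [hg, e, orderOf_one] at hgo; norm_num at hgo)
        refine hno g hgn (hc.irr_of_semireg h64
          (fun m w hw h => by_contra fun h1 => hc.fpf _ (hc.nice_of_pow hgn m h1) w hw h)
          (fun j hj hd => ?_))
        rw [hgo] at hd
        interval_cases j <;> first | rfl | omega
    · exfalso
      set g := y ^ (7 ^ k) with hg
      have hgo : orderOf g = 7 := by
        rw [hg, orderOf_pow_of_dvd (by positivity) (hk ▸ pow_dvd_pow 7 (by omega)), hk,
          Nat.pow_div (by omega) (by norm_num), show k.succ - k = 1 by omega, pow_one]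
      exact hc.not_seven (hc.nice_of_pow ⟨hyr, hy1, 7, _, hp, hp2, hk⟩ _ (fun e => by
        rw [hg, e, orderOf_one] at hgo; norm_num at hgo)) hgo
  obtain ⟨S₀⟩ : Nonempty (Sylow 2 Y) := inferInstance
  obtain ⟨h, f, hW, -, -, -, -, hfix⟩ := hc.numbers S₀
  have hh : h = 3 := by
    have := Nat.pow_right_injective le_rfl (h64.symm.trans hW)
    omega
  subst hh
  obtain ⟨y, hy⟩ := hc.exists_nice
  have hy3 := h3 y hy
  have hytriple : ∀ a : Y, Nice a → ∀ v : W, v * a • v * (a * a) • v = 1 := fun a ha v => by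
    refine by_contra fun hne => hc.fpf a ha _ hne ?_
    rw [smul_mul', smul_mul', ← mul_smul, ← mul_smul, ← mul_assoc,
      show a * a * a = 1 by rw [← h3 a ha, pow_succ, pow_two], one_smul]
    simp only [mul_comm, mul_left_comm, mul_assoc]
  set C := centralizer ({y} : Set Y) with hC
  have hCodd : ∀ u ∈ C, orderOf u ≠ 2 := by
    intro u hu h2
    have huy : Commute u y := mem_centralizer_singleton_iff.1 hu
    have hd := dvd_ncard (g := y) (((fix1 u : Subgroup W) : Set W) \ {1}) (fun w hw => by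
        refine ⟨?_, fun e => hw.2 (MulAction.injective y (by
          show y • w = y • (1 : W); rw [smul_one]; exact e))⟩
        show u • y • w = y • w
        rw [← mul_smul, huy.eq, mul_smul, show u • w = w from hw.1])
      (fun m w hw h => by_contra fun h1 => hc.fpf _ (hc.nice_of_pow hy m h1) w hw.2 h)
    rw [Set.ncard_sdiff_singleton_of_mem (fix1 u).one_mem, ← Nat.card_coe_set_eq,
      show Nat.card (((fix1 u : Subgroup W) : Set W)) = 2 ^ 3 from hfix u h2] at hd
    have : orderOf y = 3 := orderOf_eq_prime hy3 hy.2.1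
    rw [this] at hd
    norm_num at hd
  have hCodd' : ∀ a ∈ C, Odd (orderOf a) := fun a ha => by
    by_contra hev
    obtain ⟨m, hm⟩ := (Nat.not_odd_iff_even.1 hev).two_dvd
    refine hCodd (a ^ m) (pow_mem ha m) ?_
    have := orderOf_pos a
    rw [orderOf_pow_of_dvd (by omega) ⟨2, by rw [hm, mul_comm]⟩, hm,
      Nat.mul_div_cancel _ (by omega)]
  obtain ⟨n, ⟨k, hk⟩, hny⟩ := exists_inverter hy.1
  have hnn : n * n = 1 := by
    have hmem : n * n ∈ C := mem_centralizer_singleton_iff.2 (by
      refine mul_inv_eq_iff_eq_mul.1 ?_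
      rw [show n * n * y * (n * n)⁻¹ = n * (n * y * n⁻¹) * n⁻¹ by group, hny,
        show n * y⁻¹ * n⁻¹ = (n * y * n⁻¹)⁻¹ by group, hny, inv_inv])
    have ho := hCodd' _ hmem
    obtain ⟨j, -, hj⟩ := (Nat.dvd_prime_pow Nat.prime_two).1
      (show orderOf (n * n) ∣ 2 ^ k by rw [← hk, ← pow_two]; exact orderOf_pow_dvd 2)
    rcases Nat.eq_zero_or_pos j with h0 | h0
    · rwa [h0, pow_zero, orderOf_eq_one_iff] at hj
    · rw [hj] at ho
      exact absurd ho (Nat.not_odd_iff_even.2 (even_iff_two_dvd.2 (dvd_pow_self 2 h0.ne')))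
  have hni : n⁻¹ = n := inv_eq_of_mul_eq_one_right hnn
  have hn2 : orderOf n = 2 := orderOf_eq_prime (by rw [pow_two, hnn]) fun e => by
    rw [e, one_mul, inv_one, mul_one] at hny
    exact hy.sq_ne_one (mul_eq_one_iff_eq_inv.2 hny)
  have hI : ∀ i ∈ C, n * i * n⁻¹ = i⁻¹ → i = 1 ∨ i = y ∨ i = y * y := by
    intro i hiC hin
    by_contra hne
    push Not at hne
    obtain ⟨hi1, hiy, hiy2⟩ := hne
    have hcy : Commute i y := mem_centralizer_singleton_iff.1 hiC
    have hnice : ∀ a ∈ C, n * a * n⁻¹ = a⁻¹ → a ≠ 1 → Nice a := by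
      intro a haC han ha1
      have hall : ∀ p, p.Prime → p ∣ orderOf a → p = 3 := by
        intro p hp hd
        have ho := orderOf_pow_orderOf_div (orderOf_pos a).ne' hd
        have hnp : Nice (a ^ (orderOf a / p)) :=
          ⟨isConj_inv_of_conj (conj_pow_inv han _), fun e => by
            rw [e, orderOf_one] at ho; exact hp.one_lt.ne ho, p, 1, hp, fun e => by
            have := hCodd' a haC
            rw [e] at hd
            exact Nat.not_even_iff_odd.2 this (even_iff_two_dvd.2 hd), by rw [ho, pow_one]⟩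
        have h3' := orderOf_dvd_of_pow_eq_one (h3 _ hnp)
        rw [ho] at h3'
        exact (Nat.prime_dvd_prime_iff_eq hp Nat.prime_three).1 h3'
      refine ⟨isConj_inv_of_conj han, ha1, 3, (orderOf a).primeFactorsList.length,
        Nat.prime_three, by norm_num, ?_⟩
      exact Nat.eq_prime_pow_of_unique_prime_dvd (orderOf_pos a).ne' fun {r} hr hd => hall r hr hd
    have hny2 : n * (y * y) * n⁻¹ = (y * y)⁻¹ := by
      rw [← pow_two]; exact conj_pow_inv hny 2
    have hprod : ∀ b ∈ C, n * b * n⁻¹ = b⁻¹ → Commute i b → n * (i * b) * n⁻¹ = (i * b)⁻¹ := by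
      intro b _ hb hib
      rw [show n * (i * b) * n⁻¹ = (n * i * n⁻¹) * (n * b * n⁻¹) by group, hin, hb,
        ← mul_inv_rev, hib.eq]
    have hyC : y ∈ C := mem_centralizer_singleton_iff.2 rfl
    have hni' := hnice i hiC hin hi1
    have hyy3 : y * y * y = 1 := by rw [← hy3, pow_succ, pow_two]
    have hn1 := hnice (i * y) (mul_mem hiC hyC) (hprod y hyC hny hcy) (fun e => hiy2 (by
      rw [mul_eq_one_iff_eq_inv] at e
      rw [e]
      exact (eq_inv_of_mul_eq_one_left hyy3).symm))
    have hn2' := hnice (i * (y * y)) (mul_mem hiC (mul_mem hyC hyC))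
      (hprod _ (mul_mem hyC hyC) hny2 (hcy.mul_right hcy)) (fun e => hiy (by
      rw [mul_eq_one_iff_eq_inv] at e
      rw [e]
      exact (eq_inv_of_mul_eq_one_right hyy3).symm))
    obtain ⟨v, hv⟩ := hc.nontriv
    -- all nine translates multiply to one
    have hi3 : i * i * i = 1 := by rw [← h3 i hni', pow_succ, pow_two]
    have hT : ∀ z : W, z * y • z * (y * y) • z = 1 := hytriple y hy
    have e0 := hytriple i hni' v
    have e1 := hytriple _ hn1 v
    have e2 := hytriple _ hn2' v
    have q1 : i * y * (i * y) = i * i * (y * y) := by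
      rw [mul_assoc, ← mul_assoc y i, ← hcy.eq, mul_assoc i y y, ← mul_assoc]
    have q2 : i * (y * y) * (i * (y * y)) = i * i * y := by
      rw [mul_assoc i, ← mul_assoc (y * y) i, ← (hcy.mul_right hcy).eq, mul_assoc i,
        ← mul_assoc (y * y) y y, hyy3, one_mul, ← mul_assoc]
    rw [q1] at e1
    rw [q2] at e2
    have f1 : i • v * (i * y) • v * (i * (y * y)) • v = 1 := by
      simp only [mul_smul i]
      rw [← smul_mul', ← smul_mul', hT, smul_one]
    have f2 : (i * i) • v * (i * i * y) • v * (i * i * (y * y)) • v = 1 := by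
      simp only [mul_smul (i * i)]
      rw [← smul_mul', ← smul_mul', hT, smul_one]
    apply hv
    calc v = v * v * v * ((i • v * (i * y) • v * (i * (y * y)) • v) *
          ((i * i) • v * (i * i * y) • v * (i * i * (y * y)) • v)) := by
          rw [f1, f2, hc.sq, one_mul, one_mul, mul_one]
      _ = (v * i • v * (i * i) • v) * (v * (i * y) • v * (i * i * (y * y)) • v) *
          (v * (i * (y * y)) • v * (i * i * y) • v) := by
          simp only [mul_comm, mul_left_comm, mul_assoc]
      _ = 1 := by rw [e0, e1, e2, one_mul, one_mul]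
  set K := C ⊓ centralizer ({n} : Set Y) with hK
  have hidx : Nat.card C ≤ 3 * Nat.card K ∧ Nat.card K ∣ Nat.card C := by
    refine ⟨?_, Subgroup.card_dvd_of_le inf_le_left⟩
    have hcard : Nat.card C = K.relIndex C * Nat.card K := by
      rw [← (K.subgroupOf C).card_mul_index,
        Nat.card_congr (Subgroup.subgroupOfEquivOfLe (inf_le_left : K ≤ C)).toEquiv, mul_comm]
      rfl
    rw [hcard]
    refine Nat.mul_le_mul_right _ ?_
    have hdef : ∀ c ∈ C, c * n * c⁻¹ * n ∈ ({1, y, y * y} : Finset Y) := by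
      intro c hcC
      have hcy : Commute c y := mem_centralizer_singleton_iff.1 hcC
      have hCn : n * c⁻¹ * n ∈ C := by
        refine mem_centralizer_singleton_iff.2 (mul_inv_eq_iff_eq_mul.1 ?_)
        rw [mul_inv_rev, mul_inv_rev, hni, inv_inv,
          show n * c⁻¹ * n * y * (n * (c * n)) = n * (c⁻¹ * (n * y * n) * c) * n by group]
        have e : n * y * n = y⁻¹ := by rw [← hny, hni]
        rw [e, show c⁻¹ * y⁻¹ * c = y⁻¹ by
          rw [mul_assoc, ← hcy.inv_right.eq, ← mul_assoc, inv_mul_cancel, one_mul]]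
        rw [← e, ← mul_assoc, ← mul_assoc, hnn, one_mul, mul_assoc, hnn, mul_one]
      have := hI (c * n * c⁻¹ * n) (by
          rw [show c * n * c⁻¹ * n = c * (n * c⁻¹ * n) by group]
          exact mul_mem hcC hCn) (by
          rw [mul_inv_rev, mul_inv_rev, mul_inv_rev, inv_inv, hni]
          calc n * (c * n * c⁻¹ * n) * n = n * c * n * c⁻¹ * (n * n) := by group
            _ = n * (c * (n * c⁻¹)) := by rw [hnn, mul_one]; group)
      simpa using this
    let φ : C ⧸ K.subgroupOf C → ({1, y, y * y} : Finset Y) := fun q =>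
      Quotient.liftOn' q (fun c => ⟨_, hdef c c.2⟩) fun a b hab => by
        rw [QuotientGroup.leftRel_apply] at hab
        have hd : Commute ((a : Y)⁻¹ * b) n := mem_centralizer_singleton_iff.1 hab.2
        refine Subtype.ext ?_
        show (a : Y) * n * (a : Y)⁻¹ * n = (b : Y) * n * (b : Y)⁻¹ * n
        rw [show (b : Y) * n * (b : Y)⁻¹
          = (a : Y) * (((a : Y)⁻¹ * b) * n) * ((a : Y)⁻¹ * b)⁻¹ * (a : Y)⁻¹ by group, hd.eq]
        group
    have hinj : Function.Injective φ := by
      intro p q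
      induction p using Quotient.inductionOn' with
      | h a => induction q using Quotient.inductionOn' with
        | h b =>
          intro hab
          refine Quotient.sound' (QuotientGroup.leftRel_apply.2 ?_)
          refine ⟨((a⁻¹ * b : C)).2, mem_centralizer_singleton_iff.2 ?_⟩
          have e : (a : Y) * n * (a : Y)⁻¹ = (b : Y) * n * (b : Y)⁻¹ :=
            mul_right_cancel (congrArg Subtype.val hab)
          show (a : Y)⁻¹ * b * n = n * ((a : Y)⁻¹ * b)
          calc (a : Y)⁻¹ * b * n = (a : Y)⁻¹ * ((b : Y) * n * (b : Y)⁻¹) * b := by group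
            _ = n * ((a : Y)⁻¹ * b) := by rw [← e]; group
    refine (Nat.card_le_card_of_injective φ hinj).trans ?_
    rw [Nat.card_eq_fintype_card, Fintype.card_coe]
    exact Finset.card_le_three
  obtain ⟨E₀⟩ : Nonempty (Sylow 3 K) := inferInstance
  set E := (E₀ : Subgroup K).map K.subtype with hE
  let T : SubMulAction E W :=
    { carrier := ((fix1 n : Subgroup W) : Set W) \ {1}
      smul_mem' := fun a w hw => by
        obtain ⟨a', -, ha'⟩ := a.2
        have han : Commute (a : Y) n := by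
          rw [← ha']; exact mem_centralizer_singleton_iff.1 a'.2.2
        refine ⟨?_, fun e => hw.2 (MulAction.injective (a : Y) (by
          show (a : Y) • w = (a : Y) • (1 : W); rw [smul_one]; exact e))⟩
        show n • (a : Y) • w = (a : Y) • w
        rw [← mul_smul, ← han.eq, mul_smul, show n • w = w from hw.1] }
  obtain ⟨⟨v, hvT⟩, hvfix⟩ := (E₀.isPGroup'.map K.subtype).nonempty_fixed_point_of_prime_not_dvd_card T (by
    rw [show Nat.card T = (((fix1 n : Subgroup W) : Set W) \ {1}).ncard from Nat.card_coe_set_eq _,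
      Set.ncard_sdiff_singleton_of_mem (fix1 n).one_mem, ← Nat.card_coe_set_eq,
      show Nat.card (((fix1 n : Subgroup W) : Set W)) = 2 ^ 3 from hfix n hn2]
    norm_num)
  obtain ⟨S, hS⟩ := hc.exists_sylow_stab (v := v) hvT.2
  have hEle : E ≤ C ⊓ normalizer ((S : Subgroup Y) : Set Y) := by
    intro a ha
    refine ⟨?_, hc.stab_le_normalizer hvT.2 hS
      (mem_stabilizer_iff.2 (congrArg Subtype.val (hvfix ⟨a, ha⟩)))⟩
    obtain ⟨a', -, rfl⟩ := ha
    exact a'.2.1
  have hrel : Nat.card C = Nat.card (Sylow 2 Y) *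
      Nat.card (C ⊓ normalizer ((S : Subgroup Y) : Set Y) : Subgroup Y) := by
    have e : (normalizer ((S : Subgroup Y) : Set Y)).relIndex C = Nat.card (Sylow 2 Y) := by
      rw [relIndex_eq_of_coprime _ C ((hc.clspi y hy).coprime (hc.normalizer_piNum S)).symm,
        S.card_eq_index_normalizer]
      rfl
    rw [← (((normalizer ((S : Subgroup Y) : Set Y))).subgroupOf C).card_mul_index, ← e, mul_comm]
    congr 1
    rw [← inf_subgroupOf_right, inf_comm,
      Nat.card_congr (Subgroup.subgroupOfEquivOfLe (inf_le_left : C ⊓ _ ≤ C)).toEquiv]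
  obtain ⟨i, hi⟩ := hidx.2
  have hi3 : i ≤ 3 := Nat.le_of_mul_le_mul_left
    (by rw [← hi, mul_comm]; exact hidx.1) Nat.card_pos
  have hEd : 9 * Nat.card E ∣ Nat.card C := by
    rw [hrel]
    exact Nat.mul_dvd_mul h9 (Subgroup.card_dvd_of_le hEle)
  have hKE : Nat.card K = Nat.card E * (E₀ : Subgroup K).index := by
    rw [hE, Subgroup.card_subtype, (E₀ : Subgroup K).card_mul_index]
  rw [hi, hKE, mul_comm 9, mul_assoc] at hEd
  have h9' : 9 ∣ i := by
    have := Nat.dvd_of_mul_dvd_mul_left Nat.card_pos hEd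
    refine Nat.Coprime.dvd_of_dvd_mul_left ?_ this
    exact Nat.Coprime.pow_left 2 ((Nat.Prime.coprime_iff_not_dvd Nat.prime_three).2
      E₀.not_dvd_index)
  have hipos : i ≠ 0 := fun e => by rw [e, mul_zero] at hi; exact Nat.card_pos.ne' hi
  have := Nat.le_of_dvd (Nat.pos_of_ne_zero hipos) h9'
  omega

/-- There is a nice element without invariant subgroup. -/
theorem exists_good (S : Sylow 2 Y) : ∃ g : Y, Nice g ∧ Irr W g := by
  have : Fact (Nat.Prime 2) := ⟨Nat.prime_two⟩
  obtain ⟨h, f, hW, hf1, hfh, hf, hN, hfix⟩ := hc.numbers S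
  by_cases h6 : h = 3
  · subst h6
    refine hc.good_of_six (by rw [hW]) ?_
    interval_cases f
    · simp only [pow_one, show (2 : ℕ) - 1 = 1 from rfl, mul_one] at hN
      rw [hN]; norm_num
    · exfalso
      obtain ⟨u, huS, hu⟩ := hc.exists_involution_mem S
      have hlt : ∃ w : W, u • w = w ∧ w ∉ fixSub (S : Subgroup Y) := by
        by_contra hne
        push Not at hne
        have := Subgroup.card_le_of_le (H := (fix1 u : Subgroup W))
          (K := fixSub (S : Subgroup Y)) fun w hw => hne w hw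
        rw [hf, hfix u hu] at this
        norm_num at this
      obtain ⟨w, huw, hwF⟩ := hlt
      have hw1 : w ≠ 1 := fun e => hwF (e ▸ one_mem _)
      obtain ⟨T, hT⟩ := hc.exists_sylow_stab hw1
      have huT := hc.mem_of_fix hw1 hT ⟨1, by rw [hu, pow_one]⟩ huw
      have hST : S ≠ T := fun e => hwF (e ▸ hT)
      let φ : ↥(fixSub (S : Subgroup Y) : Subgroup W) × ↥(fixSub (T : Subgroup Y) : Subgroup W)
          → ↥(fix1 u : Subgroup W) := fun p =>
        ⟨(p.1 : W) * p.2, (fix1 u).mul_mem (p.1.2 u huS) (p.2.2 u huT)⟩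
      have hφ : Function.Injective φ := by
        intro p q e
        have e' : (p.1 : W) * p.2 = q.1 * q.2 := congrArg Subtype.val e
        set z := (q.1 : W)⁻¹ * p.1 with hz
        have hz2 : z = (q.2 : W) * (p.2 : W)⁻¹ := by
          rw [eq_mul_inv_iff_mul_eq, mul_assoc, e', inv_mul_cancel_left]
        have hz0 : z = 1 := by_contra fun hne => hST (hc.sylow_stab_unique hne
          ((fixSub _).mul_mem ((fixSub _).inv_mem q.1.2) p.1.2)
          (hz2 ▸ (fixSub _).mul_mem q.2.2 ((fixSub _).inv_mem p.2.2)))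
        refine Prod.ext (Subtype.ext (inv_mul_eq_one.1 hz0).symm) (Subtype.ext ?_)
        rw [hz0] at hz2
        exact (mul_inv_eq_one.1 hz2.symm).symm
      have := Nat.card_le_card_of_injective φ hφ
      rw [Nat.card_prod, hc.card_fixSub_eq T S, hf, hfix u hu] at this
      norm_num at this
    · norm_num at hN
      omega
  · have hh0 : h ≠ 0 := by omega
    obtain ⟨q, hq, hqd, hqk⟩ := Arith.exists_primitive_prime_divisor (a := 2) (n := 2 * h)
      (by norm_num) (by omega) (fun e => h6 (by omega)) (fun e => by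
        obtain ⟨-, m, hm⟩ := e
        rcases Nat.eq_zero_or_pos m with rfl | hm0
        · norm_num at hm
        · have : 2 ∣ 2 ^ m := dvd_pow_self 2 hm0.ne'
          omega)
    have hppd : ∀ k < 2 * h, q ∣ 2 ^ k - 1 → k = 0 := fun k hk hd => by
      by_contra h0; exact hqk k (Nat.pos_of_ne_zero h0) hk hd
    refine hc.good_of_prime hW hq ?_ hppd ?_ hqd
    · rintro rfl
      have h2 : 2 ∣ 2 ^ (2 * h) := dvd_pow_self 2 (by omega)
      have h3 : 1 ≤ 2 ^ (2 * h) := Nat.one_le_two_pow
      omega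
    · rw [← hN] at hqd
      exact ((Nat.Prime.dvd_mul hq).1 hqd).resolve_right fun e => by
        have := hppd f (by omega) e; omega

end Conf

end Cfsg.Agent.RealGraph
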