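import Mathlib
import Cfsg.Agent.RealGraph.Six
import Cfsg.Agent.S3559
import Cfsg.Agent.S3972
import Cfsg.Agent.S0675

/-!
# The configuration does not exist
-/

set_option autoImplicit false
set_option linter.unusedSectionVars false

namespace Cfsg.Agent.RealGraph

open Subgroup MulAction
open scoped commutatorElement

universe u v

variable {Y : Type u} [Group Y] [Finite Y] {W : Type v} [CommGroup W] [Finite W]
  [MulDistribMulAction Y W]

namespace Conf

variable {π : Set ℕ} (hc : Conf π Y W)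

include hc

theorem orb_eq {g : Y} (hg : Nice g) (hirr : Irr W g) {v : W} (hv : v ≠ 1) :
    (stabilizer Y v).index = Nat.card (centralizer ({g} : Set Y)) := by
  rw [← relIndex_eq_of_coprime _ (centralizer ({g} : Set Y))
    ((hc.clspi g hg).coprime (hc.orb v hv)).symm, relIndex,
    show (stabilizer Y v).subgroupOf (centralizer ({g} : Set Y)) = ⊥ from
      (Subgroup.eq_bot_iff_forall _).2 fun a ha => Subtype.ext
        (hc.centralizer_fixed_eq_one hirr (mem_centralizer_singleton_iff.1 a.2) hv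
          (mem_stabilizer_iff.1 ha)), index_bot]

theorem commute_centralizer {g : Y} (hirr : Irr W g) {a b : Y}
    (ha : a ∈ centralizer ({g} : Set Y)) (hb : b ∈ centralizer ({g} : Set Y)) : a * b = b * a := by
  have := hc.isCyclic_centralizer hirr
  exact congrArg Subtype.val
    ((IsCyclic.commGroup (α := centralizer ({g} : Set Y))).mul_comm ⟨a, ha⟩ ⟨b, hb⟩)

theorem no_normal_pgroup {g : Y} (hg : Nice g) (hirr : Irr W g) {p : ℕ} [Fact p.Prime]
    {P : Subgroup Y} (hP : P.Normal) (hPp : IsPGroup p P) : P = ⊥ := by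
  have hp : p.Prime := Fact.out
  obtain ⟨v₀, hv₀⟩ := hc.nontriv
  have hcyc := hc.isCyclic_centralizer hirr
  set C := centralizer ({g} : Set Y) with hC
  by_cases hpc : p ∣ Nat.card C
  · have hcp : PiNum πᶜ (Nat.card C) := hc.orb_eq hg hirr hv₀ ▸ hc.orb v₀ hv₀
    have hnd : ¬ p ∣ C.index := fun h => hcp p hp hpc (hc.clspi g hg p hp h)
    obtain ⟨T, hT⟩ := exists_sylow_le_of hnd
    have hPT : P ≤ (T : Subgroup Y) := normal_le_sylow hP hPp T
    have hPC : P ≤ C := hPT.trans hT
    have hPcyc : IsCyclic P :=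
      isCyclic_of_injective (Subgroup.inclusion hPC) (Subgroup.inclusion_injective hPC)
    obtain ⟨p₀, hp₀⟩ := IsCyclic.exists_generator (α := P)
    have hform : ∀ a : Y, ∃ i : ℤ, ∀ x ∈ P, a * x * a⁻¹ = x ^ i := by
      intro a
      obtain ⟨i, hi⟩ := mem_zpowers_iff.1 (hp₀ ⟨_, hP.conj_mem _ p₀.2 a⟩)
      have hi' : ((p₀ : Y)) ^ i = a * (p₀ : Y) * a⁻¹ := by
        have := congrArg Subtype.val hi
        rwa [Subgroup.coe_zpow] at this
      refine ⟨i, fun x hx => ?_⟩
      obtain ⟨j, hj⟩ := mem_zpowers_iff.1 (hp₀ ⟨x, hx⟩)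
      have hj' : ((p₀ : Y)) ^ j = x := by
        have := congrArg Subtype.val hj
        rwa [Subgroup.coe_zpow] at this
      rw [← hj', ← conj_zpow, ← hi', ← zpow_mul, ← zpow_mul, mul_comm i j]
    have hcen : ∀ x ∈ P, ∀ a : Y, a * x = x * a := by
      intro x hx a
      have hmem : commutator Y ≤ centralizer (P : Set Y) := by
        rw [_root_.commutator_def, Subgroup.commutator_le]
        intro a _ b _
        rw [Subgroup.mem_centralizer_iff]
        intro z hz
        obtain ⟨i, hi⟩ := hform a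
        obtain ⟨j, hj⟩ := hform b
        have hab : a * b * z * (a * b)⁻¹ = b * a * z * (b * a)⁻¹ := by
          rw [show a * b * z * (a * b)⁻¹ = a * (b * z * b⁻¹) * a⁻¹ by group,
            show b * a * z * (b * a)⁻¹ = b * (a * z * a⁻¹) * b⁻¹ by group, hj z hz, hi z hz,
            hi _ (P.zpow_mem hz j), hj _ (P.zpow_mem hz i), ← zpow_mul, ← zpow_mul, mul_comm]
        set z' := b * a * z * (b * a)⁻¹ with hz'
        have hzz : z = (b * a)⁻¹ * z' * (b * a) := by rw [hz']; group
        have hcomm : ∀ y ∈ P, (a * b * (b * a)⁻¹) * y = y * (a * b * (b * a)⁻¹) := by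
          intro y hy
          set x' := (b * a)⁻¹ * y * (b * a) with hx'
          have hx'P : x' ∈ P := by
            rw [hx']; simpa using hP.conj_mem y hy (b * a)⁻¹
          have e : a * b * x' * (a * b)⁻¹ = b * a * x' * (b * a)⁻¹ := by
            rw [show a * b * x' * (a * b)⁻¹ = a * (b * x' * b⁻¹) * a⁻¹ by group,
              show b * a * x' * (b * a)⁻¹ = b * (a * x' * a⁻¹) * b⁻¹ by group, hj x' hx'P, hi x' hx'P,
              hi _ (P.zpow_mem hx'P j), hj _ (P.zpow_mem hx'P i), ← zpow_mul, ← zpow_mul, mul_comm]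
          have ey : y = b * a * x' * (b * a)⁻¹ := by rw [hx']; group
          calc a * b * (b * a)⁻¹ * y = (a * b * x' * (a * b)⁻¹) * (a * b * (b * a)⁻¹) := by
                rw [ey]; group
            _ = y * (a * b * (b * a)⁻¹) := by rw [e, ← ey]
        rw [show ⁅a, b⁆ = a * b * (b * a)⁻¹ by rw [commutatorElement_def]; group]
        exact (hcomm z hz).symm
      rw [hc.perfect] at hmem
      exact (Subgroup.mem_centralizer_iff.1 (hmem (Subgroup.mem_top a)) x hx).symm
    letI : CommGroup (T : Subgroup Y) :=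
      { (inferInstance : Group (T : Subgroup Y)) with
        mul_comm := fun a b => Subtype.ext (hc.commute_centralizer hirr (hT a.2) (hT b.2)) }
    let ψ := MonoidHom.transfer (MonoidHom.id (T : Subgroup Y))
    rw [eq_bot_iff]
    intro z hz
    have hkey := MonoidHom.transfer_eq_pow (MonoidHom.id (T : Subgroup Y)) z
      (fun k g₀ _ => by
        rw [mul_assoc, ← (hcen _ (P.pow_mem hz k) g₀), inv_mul_cancel_left])
    have h1 : ψ z = 1 := by
      have hz' : z ∈ commutator Y := hc.perfect ▸ Subgroup.mem_top z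
      exact Abelianization.commutator_subset_ker ψ hz'
    have h2 : z ^ (T : Subgroup Y).index = 1 := by
      have := hkey.symm.trans h1
      exact congrArg Subtype.val this
    obtain ⟨j, hj⟩ := IsPGroup.iff_orderOf.1 hPp ⟨z, hz⟩
    rw [← Subgroup.orderOf_coe] at hj
    have hd := orderOf_dvd_of_pow_eq_one h2
    rw [hj] at hd
    rcases Nat.eq_zero_or_pos j with h0 | h0
    · rw [h0, pow_zero, orderOf_eq_one_iff] at hj
      exact Subgroup.mem_bot.2 hj
    · exact absurd ((dvd_pow_self p h0.ne').trans hd) T.not_dvd_index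
  · rw [eq_bot_iff]
    intro a ha
    refine Subgroup.mem_bot.2 (hc.faith a fun w => ?_)
    by_cases hw : w = 1
    · rw [hw, smul_one]
    obtain ⟨T, hT⟩ := exists_sylow_le_of (H := stabilizer Y w) (p := p)
      (by rw [hc.orb_eq hg hirr hw]; exact hpc)
    exact mem_stabilizer_iff.1 (hT (normal_le_sylow hP hPp T ha))

theorem isSimple {g : Y} (hg : Nice g) (hirr : Irr W g) (L : Subgroup Y) (hL : L.Normal) :
    L = ⊥ ∨ L = ⊤ := by
  classical
  by_cases htop : L = ⊤
  · exact Or.inr htop
  refine Or.inl ?_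
  have hsol := hc.proper L hL htop
  by_contra hne
  -- a minimal non-trivial normal subgroup inside
  obtain ⟨K, ⟨hKn, hK1, hKL⟩, hmin⟩ := Set.Finite.exists_minimal (s := {K : Subgroup Y | K.Normal ∧ K ≠ ⊥ ∧ K ≤ L})
    (Set.toFinite _) ⟨L, hL, hne, le_rfl⟩
  have : Group.IsSolvable K :=
    solvable_of_solvable_injective (Subgroup.inclusion_injective hKL)
  have : Nontrivial K := (Subgroup.nontrivial_iff_ne_bot K).2 hK1
  have hab : ∀ a ∈ K, ∀ b ∈ K, a * b = b * a := by
    have hlt := IsSolvable.commutator_lt_top_of_nontrivial (G := K)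
    have hKK : ⁅K, K⁆ = ⊥ := by
      by_contra hne'
      have hle : ⁅K, K⁆ ≤ K := Subgroup.commutator_le_left K K
      have heq : K ≤ ⁅K, K⁆ := hmin ⟨Subgroup.commutator_normal K K, hne', hle.trans hKL⟩ hle
      apply hlt.ne
      apply Subgroup.map_injective K.subtype_injective
      rw [← MonoidHom.range_eq_map, Subgroup.range_subtype, Subgroup.map_subtype_commutator]
      exact le_antisymm hle heq
    intro a ha b hb
    have := Subgroup.commutator_mem_commutator ha hb
    rw [hKK, Subgroup.mem_bot, commutatorElement_eq_one_iff_mul_comm] at this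
    exact this
  obtain ⟨p, hp, hpd⟩ := Nat.exists_prime_and_dvd ((Subgroup.one_lt_card_iff_ne_bot K).2 hK1).ne'
  have := Fact.mk hp
  obtain ⟨z, hz⟩ := exists_prime_orderOf_dvd_card' p hpd
  let P : Subgroup Y :=
    { carrier := {x | x ∈ K ∧ x ^ p = 1}
      one_mem' := ⟨K.one_mem, one_pow p⟩
      mul_mem' := fun {a b} ha hb => ⟨K.mul_mem ha.1 hb.1, by
        rw [(show Commute a b from hab a ha.1 b hb.1).mul_pow, ha.2, hb.2, one_mul]⟩
      inv_mem' := fun {a} ha => ⟨K.inv_mem ha.1, by rw [inv_pow, ha.2, inv_one]⟩ }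
  have hPn : P.Normal := ⟨fun a ha x => ⟨hKn.conj_mem a ha.1 x, by
    rw [conj_pow, ha.2, mul_one, mul_inv_cancel]⟩⟩
  have hPp : IsPGroup p P := fun a => ⟨1, Subtype.ext (by rw [pow_one]; exact a.2.2)⟩
  have hzP : (z : Y) ∈ P := ⟨z.2, by rw [← hz, ← Subgroup.orderOf_coe, pow_orderOf_eq_one]⟩
  rw [hc.no_normal_pgroup hg hirr hPn hPp, Subgroup.mem_bot, OneMemClass.coe_eq_one] at hzP
  rw [hzP, orderOf_one] at hz
  exact hp.one_lt.ne hz

/-- The configuration does not exist. -/
theorem false : False := by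
  classical
  have : Fact (Nat.Prime 2) := ⟨Nat.prime_two⟩
  obtain ⟨S⟩ : Nonempty (Sylow 2 Y) := inferInstance
  obtain ⟨g, hg, hirr⟩ := hc.exists_good S
  obtain ⟨h, f, hW, hf1, hfh, hf, hN, hfix⟩ := hc.numbers S
  obtain ⟨u₀, hu₀S, hu₀⟩ := hc.exists_involution_mem S
  set M := normalizer ((S : Subgroup Y) : Set Y) with hM
  set C := centralizer ({g} : Set Y) with hC
  have hMtop : M ≠ ⊤ := fun e => by
    have hSn : (S : Subgroup Y).Normal := Subgroup.normalizer_eq_top_iff.1 e
    have hS1 := hc.twoCore_trivial hSn S.isPGroup'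
    rw [hS1, Subgroup.mem_bot] at hu₀S
    rw [hu₀S, orderOf_one] at hu₀
    exact absurd hu₀ (by decide)
  have hcore : M.normalCore = ⊥ := (hc.isSimple hg hirr _ M.normalCore_normal).resolve_right
    fun e => hMtop (top_le_iff.1 (e ▸ M.normalCore_le))
  have hcop : M.index.Coprime C.index :=
    ((hc.clspi g hg).coprime (hc.normalizer_piNum S)).symm
  have hMC : ∀ a ∈ C, a ∈ M → a = 1 := by
    intro a haC haM
    have : a ∈ M.normalCore := by
      intro b
      obtain ⟨c, hcC, m, hm, rfl⟩ := exists_mul_of_coprime M C hcop b⁻¹ |>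
        fun ⟨c, hc1, m, hm, e⟩ => (⟨c, hc1, m, hm, (inv_inv b).symm.trans (congrArg (·⁻¹) e)⟩ :
          ∃ c ∈ C, ∃ m ∈ M, b = (c * m)⁻¹)
      show (c * m)⁻¹ * a * ((c * m)⁻¹)⁻¹ ∈ M
      rw [show (c * m)⁻¹ * a * ((c * m)⁻¹)⁻¹ = m⁻¹ * (c⁻¹ * (a * c)) * m by group,
        hc.commute_centralizer hirr haC hcC, inv_mul_cancel_left]
      exact mul_mem (mul_mem (inv_mem hm) haM) hm
    rwa [hcore, Subgroup.mem_bot] at this
  have hNC : M.index = Nat.card C := by
    rw [← relIndex_eq_of_coprime M C hcop, relIndex,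
      show M.subgroupOf C = ⊥ from (Subgroup.eq_bot_iff_forall _).2 fun a ha =>
        Subtype.ext (hMC a a.2 ha), index_bot]
  have hNcard : M.index = Nat.card (Sylow 2 Y) := S.card_eq_index_normalizer.symm
  -- the stabilisers of the fixed vectors
  have hstab : ∀ (T : Sylow 2 Y) (v : W), v ≠ 1 → v ∈ fixSub (T : Subgroup Y) →
      stabilizer Y v = normalizer ((T : Subgroup Y) : Set Y) := by
    intro T v hv hT
    refine le_antisymm (hc.stab_le_normalizer hv hT) ?_
    have hidx : (stabilizer Y v).index = (normalizer ((T : Subgroup Y) : Set Y)).index := by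
      rw [hc.orb_eq hg hirr hv, ← hC, ← hNC, hNcard, T.card_eq_index_normalizer]
      rfl
    have h1 := relIndex_mul_index (hc.stab_le_normalizer hv hT)
    rw [hidx] at h1
    exact relIndex_eq_one.1 (Nat.eq_of_mul_eq_mul_right
      (Nat.pos_of_ne_zero Subgroup.index_ne_zero_of_finite) (h1.trans (one_mul _).symm))
  -- primitivity
  have hMmax : IsCoatom M := by
    refine ⟨hMtop, fun K hK => ?_⟩
    by_contra hKtop
    have hno : ∀ y ∈ K, ¬ Nice y := by
      intro y hyK hy
      have hnc : normalClosure ({y} : Set Y) ≤ K := by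
        refine (Subgroup.closure_le K).2 fun x hx => ?_
        obtain ⟨y', hy', hyx⟩ := Group.mem_conjugatesOfSet_iff.1 hx
        rw [Set.mem_singleton_iff] at hy'
        subst y'
        obtain ⟨b, rfl⟩ := isConj_iff.1 hyx
        obtain ⟨c, hcm, m, hm, hb⟩ := exists_mul_of_coprime M (centralizer ({y} : Set Y))
          ((hc.clspi y hy).coprime (hc.normalizer_piNum S)).symm b⁻¹
        have hb' : b = m⁻¹ * c⁻¹ := by rw [← inv_inv b, hb, mul_inv_rev]
        have hcy : c * y = y * c := mem_centralizer_singleton_iff.1 hcm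
        rw [SetLike.mem_coe, hb', show m⁻¹ * c⁻¹ * y * (m⁻¹ * c⁻¹)⁻¹ = m⁻¹ * (c⁻¹ * (y * c)) * m
          by group, ← hcy, inv_mul_cancel_left]
        exact mul_mem (mul_mem (inv_mem (hK.le hm)) hyK) (hK.le hm)
      rcases hc.isSimple hg hirr (normalClosure ({y} : Set Y)) Subgroup.normalClosure_normal with e | e
      · exact hy.2.1 (Subgroup.mem_bot.1 (e ▸ Subgroup.subset_normalClosure (Set.mem_singleton y)))
      · exact hKtop (top_le_iff.1 (e ▸ hnc))
    have hSK : (S : Subgroup Y) ≤ K := Subgroup.le_normalizer.trans hK.le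
    have hn := (structure_of_no_nice K hno).1 (S.subtype hSK)
    refine hK.not_ge ?_
    exact (Subgroup.normal_subgroupOf_iff_le_normalizer hSK).1 hn
  -- cosets
  have hfaith : FaithfulSMul Y (Y ⧸ M) := ⟨fun {a b} hab => by
    have hmem : a⁻¹ * b ∈ M.normalCore := by
      intro c
      have := hab (QuotientGroup.mk (c⁻¹) : Y ⧸ M)
      rw [MulAction.Quotient.smul_mk, MulAction.Quotient.smul_mk, QuotientGroup.eq] at this
      show c * (a⁻¹ * b) * c⁻¹ ∈ M
      convert this using 1
      simp only [smul_eq_mul]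
      group
    rw [hcore, Subgroup.mem_bot] at hmem
    exact inv_mul_eq_one.1 hmem⟩
  have hquot : Nat.card (Y ⧸ M) = Nat.card C := by rw [← M.index_eq_card, hNC]
  have hCtrans : ∀ a b : Y ⧸ M, ∃ c ∈ C, c • a = b := by
    rintro ⟨a⟩ ⟨b⟩
    obtain ⟨c, hcC, m, hm, e⟩ := exists_mul_of_coprime M C hcop a
    obtain ⟨c', hcC', m', hm', e'⟩ := exists_mul_of_coprime M C hcop b
    refine ⟨c' * c⁻¹, mul_mem hcC' (inv_mem hcC), QuotientGroup.eq.2 ?_⟩
    show (c' * c⁻¹ * a)⁻¹ * b ∈ M
    rw [e, e', show (c' * c⁻¹ * (c * m))⁻¹ * (c' * m') = m⁻¹ * m' by group]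
    exact mul_mem (inv_mem hm) hm'
  have hN3 : 2 ^ h + 1 ≤ Nat.card (Sylow 2 Y) := by
    have h1 : 2 ^ f - 1 ≤ 2 ^ h - 1 := by
      have := Nat.pow_le_pow_right (show 0 < 2 by norm_num) hfh
      omega
    have h2 : 2 ^ (2 * h) - 1 = (2 ^ h + 1) * (2 ^ h - 1) := by
      rw [two_mul, pow_add]
      have : 1 ≤ 2 ^ h := Nat.one_le_two_pow
      obtain ⟨z, hz⟩ := Nat.exists_eq_add_of_le this
      rw [hz, Nat.add_sub_cancel_left]
      rw [Nat.sub_eq_iff_eq_add (by nlinarith)]
      ring
    have h3 : 1 ≤ 2 ^ f - 1 := by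
      have := Nat.pow_le_pow_right (show 0 < 2 by norm_num) hf1
      omega
    rw [h2] at hN
    by_contra hlt
    push Not at hlt
    have hlt' : Nat.card (Sylow 2 Y) * (2 ^ f - 1) < (2 ^ h + 1) * (2 ^ h - 1) :=
      lt_of_lt_of_le (Nat.mul_lt_mul_of_pos_right hlt h3) (Nat.mul_le_mul_left _ h1)
    exact hlt'.ne hN
  have h2trans : MulAction.IsMultiplyPretransitive Y (Y ⧸ M) 2 := by
    have hcycC := hc.isCyclic_centralizer hirr
    have hne2 : 2 ≤ Nat.card (Y ⧸ M) := by
      rw [← M.index_eq_card, hNcard]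
      have : 1 ≤ 2 ^ h := Nat.one_le_two_pow
      omega
    have : Nontrivial (Y ⧸ M) := Finite.one_lt_card_iff_nontrivial.1 hne2
    have hprim : MulAction.IsPreprimitive Y (Y ⧸ M) :=
      (MulAction.isCoatom_stabilizer_iff_preprimitive Y (QuotientGroup.mk (1 : Y) : Y ⧸ M)).1
        (by rw [MulAction.stabilizer_quotient]; exact hMmax)
    by_cases hpp : IsPrimePow (Nat.card (Y ⧸ M))
    · obtain ⟨p, k, hp, hk, hpk⟩ := hpp
      have hp' : p.Prime := hp.nat_prime
      letI := Fintype.ofFinite (Y ⧸ M)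
      let r : Y →* Equiv.Perm (Y ⧸ M) := MulAction.toPermHom Y (Y ⧸ M)
      have htr : MulAction.IsPretransitive r.range (Y ⧸ M) := ⟨fun a b => by
        obtain ⟨c, hc⟩ := MulAction.exists_smul_eq Y a b
        exact ⟨⟨r c, c, rfl⟩, hc⟩⟩
      have hinj : Function.Injective r := MulAction.toPerm_injective
      have hback : MulAction.IsMultiplyPretransitive r.range (Y ⧸ M) 2 →
          MulAction.IsMultiplyPretransitive Y (Y ⧸ M) 2 := fun h2 => by
        rw [MulAction.is_two_pretransitive_iff] at h2 ⊢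
        intro a b c d hab hcd
        obtain ⟨⟨_, y, rfl⟩, h1, h2'⟩ := h2 hab hcd
        exact ⟨y, h1, h2'⟩
      rcases Nat.lt_or_ge k 2 with hk1 | hk1
      · have : (Fintype.card (Y ⧸ M)).Prime := by
          rw [← Nat.card_eq_fintype_card, ← hpk, show k = 1 by omega, pow_one]; exact hp'
        rcases S0675.result this r.range with hs | h2
        · exact absurd (solvable_of_solvable_injective
            (f := r.rangeRestrict) (fun a b e => hinj (congrArg Subtype.val e))) hc.insol
        · exact hback h2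
      · by_contra hn2
        have : MulAction.IsPreprimitive r.range (Y ⧸ M) := by
          let φ : (Y ⧸ M) →ₑ[r.rangeRestrict] (Y ⧸ M) := ⟨id, fun _ _ => rfl⟩
          exact MulAction.IsPreprimitive.of_surjective (f := φ) Function.surjective_id
        have hord : ∃ c : r.range, orderOf c = p ^ k := by
          obtain ⟨c₀, hc₀⟩ := IsCyclic.exists_ofOrder_eq_natCard (α := C)
          refine ⟨r.rangeRestrict (c₀ : Y), ?_⟩
          rw [orderOf_injective r.rangeRestrict (fun a b e => hinj (congrArg Subtype.val e)),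
            Subgroup.orderOf_coe, hc₀, ← hquot, hpk]
        obtain ⟨c, hc'⟩ := hord
        exact (S3972.result p k hp' hk1 (by rw [← Nat.card_eq_fintype_card, hpk]) r.range htr
          (fun h2 => hn2 (hback h2)) c hc').1 this
    · refine (S3559.result (G := Y) (Ω := Y ⧸ M) inferInstance hne2 hpp C hcycC
        ⟨⟨fun a b => ?_⟩, fun a => ?_⟩).resolve_left (not_not_intro hprim)
      · obtain ⟨c, hcC, e⟩ := hCtrans a b
        exact ⟨⟨c, hcC⟩, e⟩
      · rw [Subgroup.eq_bot_iff_forall]
        intro c hfixc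
        have hfix' : (c : Y) • a = a := hfixc
        have hbase : (c : Y) • (QuotientGroup.mk (1 : Y) : Y ⧸ M) = QuotientGroup.mk (1 : Y) := by
          obtain ⟨d, hd, e⟩ := hCtrans a (QuotientGroup.mk (1 : Y))
          rw [← e, ← mul_smul, hc.commute_centralizer hirr c.2 hd, mul_smul, hfix']
        rw [MulAction.Quotient.smul_mk, QuotientGroup.eq, smul_eq_mul, mul_one, mul_one] at hbase
        exact Subtype.ext (hMC c c.2 (inv_mem_iff.1 hbase))
  -- the subgroup of vectors moved only into the fixed space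
  set F := (fixSub (S : Subgroup Y) : Subgroup W) with hFdef
  have hMF : ∀ m ∈ M, ∀ w ∈ F, m • w = w := by
    intro m hm w hw
    by_cases hw1 : w = 1
    · rw [hw1, smul_one]
    · exact mem_stabilizer_iff.1 ((hstab S w hw1 hw).symm ▸ hm)
  let U : Subgroup W :=
    { carrier := {w | ∀ s ∈ (S : Subgroup Y), w⁻¹ * s • w ∈ F}
      one_mem' := fun s _ => by rw [smul_one, inv_one, one_mul]; exact F.one_mem
      mul_mem' := fun {a b} ha hb s hs => by
        rw [smul_mul', mul_inv_rev, show b⁻¹ * a⁻¹ * (s • a * s • b)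
          = (a⁻¹ * s • a) * (b⁻¹ * s • b) by simp only [mul_comm, mul_left_comm, mul_assoc]]
        exact F.mul_mem (ha s hs) (hb s hs)
      inv_mem' := fun {a} ha s hs => by rw [hc.inv_eq a]; exact ha s hs }
  have hUtop : U = ⊤ := by
    -- a point of U outside F
    obtain ⟨w, hwU, hwF⟩ : ∃ w ∈ U, w ∉ F := by
      have hSF : ∀ a b : W, (QuotientGroup.leftRel F).r a b → ∀ s : (S : Subgroup Y),
          (QuotientGroup.leftRel F).r ((s : Y) • a) ((s : Y) • b) := by
        intro a b hab s
        rw [QuotientGroup.leftRel_apply] at hab ⊢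
        rw [← smul_inv', ← smul_mul', hab s s.2]
        exact hab
      letI : MulAction (S : Subgroup Y) (W ⧸ F) :=
        { smul := fun s => Quotient.map' (fun a : W => (s : Y) • a) (fun a b h => hSF a b h s)
          one_smul := by
            rintro ⟨a⟩
            exact congrArg (Quotient.mk'' : W → W ⧸ F) (one_smul Y a)
          mul_smul := by
            rintro s t ⟨a⟩
            exact congrArg (Quotient.mk'' : W → W ⧸ F) (mul_smul (s : Y) (t : Y) a) }
      have hd : 2 ∣ Nat.card (W ⧸ F) := by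
        rw [← Subgroup.index_eq_card]
        have h1 := F.card_mul_index
        rw [hf, hW] at h1
        obtain ⟨j, -, hj⟩ := (Nat.dvd_prime_pow Nat.prime_two).1 ⟨2 ^ f, by rw [mul_comm, h1]⟩
        rw [hj, ← pow_add] at h1
        have := Nat.pow_right_injective le_rfl h1
        rw [hj]
        exact dvd_pow_self 2 (by omega)
      obtain ⟨q, hq, hne⟩ := S.isPGroup'.exists_fixed_point_of_prime_dvd_card_of_fixed_point
        (W ⧸ F) hd (a := (QuotientGroup.mk (1 : W) : W ⧸ F)) (fun s => congrArg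
          (Quotient.mk'' : W → W ⧸ F) (smul_one (s : Y)))
      induction q using Quotient.inductionOn' with
      | h w =>
        refine ⟨w, fun s hs => ?_, fun hwF => hne (QuotientGroup.eq.2 (by
          rw [inv_one, one_mul]; exact hwF))⟩
        exact QuotientGroup.eq.1 (hq ⟨s, hs⟩).symm
    have hw1 : w ≠ 1 := fun e => hwF (e ▸ F.one_mem)
    obtain ⟨T, hT⟩ := hc.exists_sylow_stab hw1
    obtain ⟨b, hb⟩ := MulAction.exists_smul_eq Y T S
    set v₀ := b • w with hv₀
    have hv₀1 : v₀ ≠ 1 := fun e => hw1 (MulAction.injective b (by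
      show b • w = b • (1 : W); rw [smul_one]; exact e))
    have hv₀F : v₀ ∈ F := hc.smul_fixSub hb hT
    have hstab0 : stabilizer Y v₀ = M := hstab S v₀ hv₀1 hv₀F
    refine hc.top_of_orbit_le hv₀1 U fun a => ?_
    have hwa : w = b⁻¹ • v₀ := (inv_smul_smul b w).symm
    by_cases haM : a ∈ M
    · intro s hs
      rw [hMF a haM v₀ hv₀F, hv₀F s hs, inv_mul_cancel]
      exact F.one_mem
    have hbM : b⁻¹ ∉ M := fun hm => hwF (by rw [hwa, hMF _ hm v₀ hv₀F]; exact hv₀F)
    have h2' : ∀ a b c d : Y ⧸ M, a ≠ b → c ≠ d → ∃ g : Y, g • a = c ∧ g • b = d :=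
      fun a b c d h h' => MulAction.is_two_pretransitive_iff.1 h2trans h h'
    obtain ⟨m, hm1, hm2⟩ := h2' (QuotientGroup.mk (1 : Y) : Y ⧸ M) (QuotientGroup.mk b⁻¹)
      (QuotientGroup.mk (1 : Y)) (QuotientGroup.mk a)
      (fun e => hbM (by have := QuotientGroup.eq.1 e; rwa [inv_one, one_mul] at this))
      (fun e => haM (by have := QuotientGroup.eq.1 e; rwa [inv_one, one_mul] at this))
    rw [MulAction.Quotient.smul_mk, QuotientGroup.eq, smul_eq_mul, mul_one, mul_one, inv_mem_iff]
      at hm1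
    rw [MulAction.Quotient.smul_mk, QuotientGroup.eq, smul_eq_mul] at hm2
    have hmw : a • v₀ = m • w := by
      have h1 : ((m * b⁻¹)⁻¹ * a) • v₀ = v₀ := hMF _ hm2 v₀ hv₀F
      rw [mul_smul, inv_smul_eq_iff, mul_smul, ← hwa] at h1
      exact h1
    rw [hmw]
    intro s hs
    have hs' : m⁻¹ * s * m ∈ (S : Subgroup Y) := by
      have := (Subgroup.mem_normalizer_iff.1 (inv_mem hm1) s).1 hs
      simpa using this
    have h1 := hwU _ hs'
    have h2 : m • (w⁻¹ * (m⁻¹ * s * m) • w) = (m • w)⁻¹ * s • m • w := by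
      rw [smul_mul', smul_inv', ← mul_smul, ← mul_smul,
        show m * (m⁻¹ * s * m) = s * m by group]
    rw [← h2, hMF m hm1 _ h1]
    exact h1
  -- all commutators lie in F
  have hUall : ∀ (w : W), ∀ s ∈ (S : Subgroup Y), w⁻¹ * s • w ∈ F := fun w s hs =>
    (hUtop ▸ Subgroup.mem_top w : w ∈ U) s hs
  have hexp : ∀ s ∈ (S : Subgroup Y), s * s = 1 := by
    intro s hs
    refine hc.faith _ fun w => ?_
    have h1 := hUall w s hs
    set d := w⁻¹ * s • w with hd
    have hsw : s • w = w * d := by rw [hd, mul_inv_cancel_left]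
    rw [mul_smul, hsw, smul_mul', hsw, h1 s hs, mul_assoc, hc.sq, mul_one]
  have hfh' : h ≤ f := by
    let δ : W →* W :=
      { toFun := fun w => w * u₀ • w
        map_one' := by simp
        map_mul' := fun a b => by rw [smul_mul']; exact mul_mul_mul_comm _ _ _ _ }
    have h1 := δ.ker.card_mul_index
    rw [Subgroup.index_ker] at h1
    have hk : Nat.card δ.ker ≤ 2 ^ h := by
      rw [← hfix u₀ hu₀]
      refine Subgroup.card_le_of_le fun w hw => ?_
      have e : w * u₀ • w = 1 := hw
      exact (eq_inv_of_mul_eq_one_right e).trans (hc.inv_eq w)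
    have hr : Nat.card δ.range ≤ 2 ^ f := by
      rw [← hf]
      refine Subgroup.card_le_of_le ?_
      rintro _ ⟨w, rfl⟩
      show w * u₀ • w ∈ F
      nth_rewrite 1 [← hc.inv_eq w]
      exact hUall w u₀ hu₀S
    have : 2 ^ (2 * h) ≤ 2 ^ (h + f) := by
      rw [← hW, ← h1, pow_add]
      exact Nat.mul_le_mul hk hr
    have := (Nat.pow_le_pow_iff_right (by norm_num)).1 this
    omega
  have hfeq : f = h := le_antisymm hfh hfh'
  subst hfeq
  have hN' : Nat.card (Sylow 2 Y) = 2 ^ f + 1 := by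
    have h2 : 2 ^ (2 * f) - 1 = (2 ^ f + 1) * (2 ^ f - 1) := by
      rw [two_mul, pow_add]
      have : 1 ≤ 2 ^ f := Nat.one_le_two_pow
      obtain ⟨z, hz⟩ := Nat.exists_eq_add_of_le this
      rw [hz, Nat.add_sub_cancel_left]
      rw [Nat.sub_eq_iff_eq_add (by nlinarith)]
      ring
    rw [h2] at hN
    have : 0 < 2 ^ f - 1 := by
      have := Nat.pow_le_pow_right (show 0 < 2 by norm_num) hf1
      omega
    exact Nat.eq_of_mul_eq_mul_right this hN
  -- each involution lies in one Sylow subgroup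
  have hTI : ∀ u : Y, orderOf u = 2 → ∀ T T' : Sylow 2 Y, u ∈ (T : Subgroup Y) →
      u ∈ (T' : Subgroup Y) → T = T' := by
    intro u hu T T' hT hT'
    have e : ∀ T : Sylow 2 Y, u ∈ (T : Subgroup Y) →
        (fixSub (T : Subgroup Y) : Subgroup W) = fix1 u := fun T hT =>
      Subgroup.eq_of_le_of_card_ge (hc.fixSub_le_fix1 hT)
        (by rw [hfix u hu, hc.card_fixSub_eq T S, hf])
    obtain ⟨v, hv, hvT⟩ := hc.exists_fix_sylow T
    exact hc.sylow_stab_unique hv hvT (by rw [e T' hT', ← e T hT]; exact hvT)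
  -- the Sylow subgroup is large
  have hSbig : 2 ^ f ≤ Nat.card (S : Subgroup Y) := by
    have htr : ∀ a b : Y ⧸ M, a ≠ QuotientGroup.mk (1 : Y) → b ≠ QuotientGroup.mk (1 : Y) →
        ∃ m : M, (m : Y) • a = b := by
      intro a b ha hb
      have h2' : ∀ a b c d : Y ⧸ M, a ≠ b → c ≠ d → ∃ g : Y, g • a = c ∧ g • b = d :=
      fun a b c d h h' => MulAction.is_two_pretransitive_iff.1 h2trans h h'
      obtain ⟨m, hm1, hm2⟩ := h2' (QuotientGroup.mk (1 : Y) : Y ⧸ M) a
        (QuotientGroup.mk (1 : Y)) b (Ne.symm ha) (Ne.symm hb)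
      rw [MulAction.Quotient.smul_mk, QuotientGroup.eq, smul_eq_mul, mul_one, mul_one,
        inv_mem_iff] at hm1
      exact ⟨⟨m, hm1⟩, hm2⟩
    obtain ⟨a, ha⟩ : ∃ a : Y ⧸ M, a ≠ QuotientGroup.mk (1 : Y) := by
      have : Nontrivial (Y ⧸ M) := Finite.one_lt_card_iff_nontrivial.1 (by
        rw [← M.index_eq_card, hNcard, hN']
        have := Nat.one_le_two_pow (n := f)
        omega)
      exact exists_ne _
    have hset : MulAction.orbit M a = {b : Y ⧸ M | b ≠ QuotientGroup.mk (1 : Y)} := by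
      ext b
      constructor
      · rintro ⟨m, rfl⟩ e
        apply ha
        have hm0 : (m : Y) • (QuotientGroup.mk (1 : Y) : Y ⧸ M) = QuotientGroup.mk (1 : Y) := by
          rw [MulAction.Quotient.smul_mk, QuotientGroup.eq, smul_eq_mul, mul_one, mul_one]
          exact inv_mem m.2
        exact MulAction.injective (m : Y) ((show (m : Y) • a = _ from e).trans hm0.symm)
      · intro hb
        obtain ⟨m, hm⟩ := htr a b ha hb
        exact ⟨m, hm⟩
    have hd : 2 ^ f ∣ Nat.card M := by
      have h1 := MulAction.index_stabilizer (G := M) a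
      rw [hset, show {b : Y ⧸ M | b ≠ QuotientGroup.mk (1 : Y)} = {QuotientGroup.mk (1 : Y)}ᶜ
        from rfl, Set.ncard_compl, Set.ncard_singleton, ← M.index_eq_card, hNcard, hN',
        Nat.add_sub_cancel] at h1
      exact h1 ▸ Subgroup.index_dvd_card _
    rw [S.card_eq_multiplicity]
    refine Nat.le_of_dvd (by positivity) (Nat.pow_dvd_pow 2 ?_)
    exact (Nat.Prime.pow_dvd_iff_le_factorization Nat.prime_two Nat.card_pos.ne').1
      (hd.trans (Subgroup.card_subgroup_dvd_card M))
  have hf2 : 2 ≤ f := by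
    by_contra hlt
    have hf0 : f = 1 := by omega
    subst hf0
    -- three cosets: Y is solvable
    have hdvd : Nat.card Y ∣ 6 := by
      have h4 : Nat.card (Equiv.Perm (Y ⧸ M)) = 6 := by
        rw [Nat.card_perm, ← M.index_eq_card, hNcard, hN']; rfl
      exact h4 ▸ Subgroup.card_dvd_of_injective (MulAction.toPermHom Y (Y ⧸ M))
        MulAction.toPerm_injective
    have h1 := hc.orderOf_dvd_card_sub_one hg
    rw [hW] at h1
    norm_num at h1
    have hgo : orderOf g = 3 := by
      rcases (Nat.dvd_prime Nat.prime_three).1 h1 with e | e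
      · exact absurd (orderOf_eq_one_iff.1 e) hg.2.1
      · exact e
    have hidx : (zpowers g).index ≤ 2 := by
      have := (zpowers g).card_mul_index
      rw [Nat.card_zpowers, hgo] at this
      have := Nat.le_of_dvd (by norm_num) hdvd
      omega
    have hn : (zpowers g).Normal := by
      rcases Nat.lt_or_ge (zpowers g).index 2 with h | h
      · have : (zpowers g).index = 1 := by
          have := Subgroup.index_ne_zero_of_finite (H := zpowers g)
          omega
        rw [Subgroup.index_eq_one.1 this]; infer_instance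
      · exact Subgroup.normal_of_index_eq_two (by omega)
    rcases hc.isSimple hg hirr _ hn with e | e
    · rw [← Subgroup.card_eq_one, Nat.card_zpowers, hgo] at e; omega
    · refine hc.insol (S0205.result ?_)
      rw [← Subgroup.card_top, ← e, Nat.card_zpowers, hgo]
      decide
  -- counting involutions which move a point
  set a₀ : Y ⧸ M := QuotientGroup.mk (1 : Y) with ha₀
  let I := {u : Y // orderOf u = 2 ∧ u • a₀ ≠ a₀}
  let φ : I → {b : Y ⧸ M // b ≠ a₀} := fun u => ⟨(u : Y) • a₀, u.2.2⟩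
  have hφ : Function.Injective φ := by
    rintro ⟨u, hu, hua⟩ ⟨u', hu', hua'⟩ e
    have e' : u • a₀ = u' • a₀ := congrArg Subtype.val e
    have hu2 : u * u = 1 := by rw [← pow_two, ← hu, pow_orderOf_eq_one]
    have hu2' : u' * u' = 1 := by rw [← pow_two, ← hu', pow_orderOf_eq_one]
    refine Subtype.ext ?_
    show u = u'
    by_contra hne
    set z := u' * u with hz
    have hza : z • a₀ = a₀ := by rw [hz, mul_smul, e', ← mul_smul, hu2', one_smul]
    have hzb : z • (u • a₀) = u • a₀ := by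
      rw [hz, mul_smul, ← mul_smul u u, hu2, one_smul, e']
    have hui : u⁻¹ = u := inv_eq_of_mul_eq_one_right hu2
    have hzi : u * z * u⁻¹ = z⁻¹ := by
      rw [hz, mul_inv_rev, hui, inv_eq_of_mul_eq_one_right hu2', mul_assoc, mul_assoc, hu2, mul_one]
    have hzM : z ∈ M := by
      rw [ha₀, MulAction.Quotient.smul_mk, QuotientGroup.eq, smul_eq_mul, mul_one, mul_one,
        inv_mem_iff] at hza
      exact hza
    obtain ⟨k, m, hm, hkm⟩ := Nat.exists_eq_two_pow_mul_odd (orderOf_pos z).ne'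
    have hm1 : m = 1 := by
      by_contra hm1
      have ho : orderOf (z ^ 2 ^ k) = m := by
        rw [orderOf_pow_of_dvd (by positivity) ⟨m, hkm⟩, hkm,
          Nat.mul_div_cancel_left _ (by positivity)]
      obtain ⟨i, hi⟩ := exists_nice_pow (isConj_inv_of_conj (conj_pow_inv hzi (2 ^ k)))
        (ho ▸ hm) (fun e => by rw [e, orderOf_one] at ho; exact hm1 ho.symm)
      exact hc.not_nice_normalizer hi S (pow_mem (pow_mem hzM _) _)
    rw [hm1, mul_one] at hkm
    -- a two-element in the stabiliser of a₀ lies in S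
    have hzS : z ∈ (S : Subgroup Y) := by
      obtain ⟨v, hv, hvS⟩ := hc.exists_fix_sylow S
      exact hc.mem_of_fix hv hvS ⟨k, hkm⟩ (hMF z hzM v hvS)
    have hzT : z ∈ ((u • S : Sylow 2 Y) : Subgroup Y) := by
      refine ⟨u⁻¹ * z * u, ?_, by show u * (u⁻¹ * z * u) * u⁻¹ = z; group⟩
      have hmem : u⁻¹ * z * u ∈ M := by
        rw [ha₀, MulAction.Quotient.smul_mk, smul_eq_mul, mul_one, MulAction.Quotient.smul_mk,
          QuotientGroup.eq, smul_eq_mul] at hzb
        have := inv_mem hzb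
        convert this using 1
        group
      obtain ⟨v, hv, hvS⟩ := hc.exists_fix_sylow S
      refine hc.mem_of_fix hv hvS ⟨k, ?_⟩ (hMF _ hmem v hvS)
      rw [← hkm]
      simpa using (orderOf_injective (MulAut.conj u⁻¹).toMonoidHom (MulAut.conj u⁻¹).injective z)
    have hz1 : z ≠ 1 := fun e => hne (by
      rw [hz, mul_eq_one_iff_eq_inv, hui] at e
      exact e.symm)
    have hz2 : orderOf z = 2 := orderOf_eq_prime (by rw [pow_two]; exact hexp z hzS) hz1
    have hTS := hTI z hz2 _ _ hzT hzS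
    have hun : u ∈ M := Sylow.smul_eq_iff_mem_normalizer.1 hTS
    apply hua
    rw [ha₀, MulAction.Quotient.smul_mk, QuotientGroup.eq, smul_eq_mul, mul_one, mul_one]
    exact inv_mem hun
  -- the involutions of all the other Sylow subgroups move a₀
  let ψ : {T : Sylow 2 Y // T ≠ S} × {s : (S : Subgroup Y) // s ≠ 1} → I := fun p =>
    ⟨(MulAction.exists_smul_eq Y S p.1.1).choose * (p.2.1 : Y) *
      ((MulAction.exists_smul_eq Y S p.1.1).choose)⁻¹, by
      set c := (MulAction.exists_smul_eq Y S p.1.1).choose with hcdef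
      have hcT : c • S = p.1.1 := (MulAction.exists_smul_eq Y S p.1.1).choose_spec
      have hmem : c * (p.2.1 : Y) * c⁻¹ ∈ (p.1.1 : Subgroup Y) := by
        rw [← hcT]
        exact ⟨p.2.1, p.2.1.2, rfl⟩
      have ho : orderOf (c * (p.2.1 : Y) * c⁻¹) = 2 := by
        refine orderOf_eq_prime (by rw [conj_pow, pow_two, hexp _ p.2.1.2]; group) fun e => ?_
        exact p.2.2 (Subtype.ext (by
          have := congrArg (fun x => c⁻¹ * x * c) e
          simpa [mul_assoc] using this))
      refine ⟨ho, fun hfixu => p.1.2 ?_⟩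
      rw [ha₀, MulAction.Quotient.smul_mk, QuotientGroup.eq, smul_eq_mul, mul_one, mul_one,
        inv_mem_iff] at hfixu
      obtain ⟨v, hv, hvS⟩ := hc.exists_fix_sylow S
      exact hTI _ ho _ _ hmem (hc.mem_of_fix hv hvS ⟨1, by rw [ho, pow_one]⟩ (hMF _ hfixu v hvS))⟩
  have hψ : Function.Injective ψ := by
    rintro ⟨⟨T, hT⟩, s⟩ ⟨⟨T', hT'⟩, s'⟩ e
    set c := (MulAction.exists_smul_eq Y S T).choose with hcdef
    set c' := (MulAction.exists_smul_eq Y S T').choose with hcdef'
    have hcT : c • S = T := (MulAction.exists_smul_eq Y S T).choose_spec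
    have hcT' : c' • S = T' := (MulAction.exists_smul_eq Y S T').choose_spec
    have e' : c * (s.1 : Y) * c⁻¹ = c' * (s'.1 : Y) * c'⁻¹ := congrArg Subtype.val e
    have hTT : T = T' := by
      have h1 : c * (s.1 : Y) * c⁻¹ ∈ (T : Subgroup Y) := by rw [← hcT]; exact ⟨s.1, s.1.2, rfl⟩
      have h2 : c * (s.1 : Y) * c⁻¹ ∈ (T' : Subgroup Y) := by
        rw [e', ← hcT']; exact ⟨s'.1, s'.1.2, rfl⟩
      exact hTI _ (ψ (⟨T, hT⟩, s)).2.1 T T' h1 h2
    subst hTT
    simp only [Prod.mk.injEq, true_and]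
    exact Subtype.ext (Subtype.ext (mul_left_cancel (mul_right_cancel e')))
  have h1 : Nat.card I ≤ 2 ^ f := by
    refine (Nat.card_le_card_of_injective φ hφ).trans (le_of_eq ?_)
    rw [show {b : Y ⧸ M // b ≠ a₀} = (({a₀}ᶜ : Set (Y ⧸ M)) : Type _) from rfl,
      Nat.card_coe_set_eq, Set.ncard_compl, Set.ncard_singleton, ← M.index_eq_card, hNcard, hN',
      Nat.add_sub_cancel]
  have h2 : 2 ^ f * (2 ^ f - 1) ≤ Nat.card I := by
    refine le_trans ?_ (Nat.card_le_card_of_injective ψ hψ)
    rw [Nat.card_prod, show {T : Sylow 2 Y // T ≠ S} = (({S}ᶜ : Set (Sylow 2 Y)) : Type _) from rfl,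
      Nat.card_coe_set_eq, Set.ncard_compl, Set.ncard_singleton, hN', Nat.add_sub_cancel,
      card_ne_one]
    exact Nat.mul_le_mul_left _ (Nat.sub_le_sub_right hSbig 1)
  have h4 : 4 ≤ 2 ^ f := by
    calc 4 = 2 ^ 2 := rfl
      _ ≤ 2 ^ f := Nat.pow_le_pow_right (by norm_num) hf2
  have h5 : 2 ^ f * 3 ≤ 2 ^ f * (2 ^ f - 1) := Nat.mul_le_mul_left _ (by omega)
  omega

end Conf

end Cfsg.Agent.RealGraph
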