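import Mathlib
import Cfsg.Agent.RealGraph.Basic
import Cfsg.Agent.Invol.RankOneQuot

/-!
# Involutions of `π'` class size lie in the soluble radical
-/

set_option autoImplicit false
set_option linter.unusedSectionVars false

namespace Cfsg.Agent.RealGraph

open Subgroup

universe u

variable {G : Type u} [Group G] [Finite G] {π : Set ℕ}

/-- A subgroup which is the largest soluble normal subgroup. -/
structure IsRad (R : Subgroup G) : Prop where
  normal : R.Normal
  solvable : Group.IsSolvable R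
  le : ∀ N : Subgroup G, N.Normal → Group.IsSolvable N → N ≤ R

theorem exists_isRad : ∃ R : Subgroup G, IsRad R := by
  obtain ⟨R, ⟨hn, hs⟩, hmax⟩ := Set.Finite.exists_maximal
    (s := {N : Subgroup G | N.Normal ∧ Group.IsSolvable N}) (Set.toFinite _)
    ⟨⊥, inferInstance, inferInstance⟩
  refine ⟨R, hn, hs, fun N hN hNs => ?_⟩
  have hsup : Group.IsSolvable (N ⊔ R : Subgroup G) := by
    let K : Subgroup G := N ⊔ R
    let f : K →* G ⧸ R := (QuotientGroup.mk' R).comp K.subtype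
    have hrange : f.range = N.map (QuotientGroup.mk' R) := by
      rw [MonoidHom.range_comp, Subgroup.range_subtype, Subgroup.map_sup,
        (Subgroup.map_eq_bot_iff R).2 (by rw [QuotientGroup.ker_mk']), sup_bot_eq]
    have : Group.IsSolvable (N.map (QuotientGroup.mk' R)) :=
      solvable_of_surjective ((QuotientGroup.mk' R).subgroupMap_surjective N)
    have : Group.IsSolvable f.range := hrange ▸ this
    refine solvable_of_ker_le_range (Subgroup.inclusion (le_sup_right : R ≤ K)) f.rangeRestrict ?_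
    intro a ha
    rw [MonoidHom.ker_rangeRestrict, MonoidHom.mem_ker] at ha
    exact ⟨⟨a, (QuotientGroup.eq_one_iff _).1 ha⟩, rfl⟩
  exact le_trans le_sup_left (hmax ⟨Subgroup.sup_normal N R, hsup⟩ le_sup_right)

theorem IsRad.center_le {R : Subgroup G} (hR : IsRad R) : center G ≤ R := by
  refine hR.le _ inferInstance ?_
  exact Group.isSolvable_of_comm fun a b => Subtype.ext (Subgroup.mem_center_iff.1 b.2 a)

/-- A real two-element with a `π`-class lies in the radical, when some non-central involution has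
a `π'`-class. -/
theorem Hyp.mem_rad_of_pi (hyp : Hyp π G) {R : Subgroup G} (hR : IsRad R) {t : G}
    (ht2 : t * t = 1) (ht : PiNum πᶜ (cls t)) (ht1 : cls t ≠ 1) {u : G}
    (hu : ∃ k : ℕ, orderOf u = 2 ^ k) (hpu : PiNum π (cls u)) : u ∈ R := by
  obtain ⟨g, hg⟩ := exists_conj_commute hu (not_two_dvd_of_piNum_compl hyp.two ht)
  have hcop : (cls (g * t * g⁻¹)).Coprime (cls u) := by
    rw [cls_conj]; exact (hpu.coprime ht).symm
  have hsol : Group.IsSolvable (centralizer ({t} : Set G)) :=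
    (structure_of_no_nice _ fun x hx hn =>
      hyp.not_nice_commute ht2 ht ht1 hn (mem_centralizer_singleton_iff.1 hx)).2
  refine hR.le _ (normalCore_normal (centralizer ({t} : Set G)))
    (solvable_of_solvable_injective (Subgroup.inclusion_injective (normalCore_le _))) ?_
  intro b
  refine mem_centralizer_singleton_iff.2 ?_
  have h1 : Commute u (b⁻¹ * t * b) := by
    have := commute_conj_of_commute hcop hg (b⁻¹ * g⁻¹)
    rwa [show b⁻¹ * g⁻¹ * (g * t * g⁻¹) * (b⁻¹ * g⁻¹)⁻¹ = b⁻¹ * t * b by group] at this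
  have := h1.map (MulAut.conj b).toMonoidHom
  simp only [MulEquiv.coe_toMonoidHom, MulAut.conj_apply] at this
  rw [show b * (b⁻¹ * t * b) * b⁻¹ = t by group] at this
  exact this

/-- The product of two conjugates of `t`. -/
theorem Hyp.prod_cases (hyp : Hyp π G) {R : Subgroup G} (hR : IsRad R) {t : G}
    (ht2 : t * t = 1) (ht : PiNum πᶜ (cls t)) (ht1 : cls t ≠ 1) {x w : G}
    (hx : w * x * w⁻¹ = x⁻¹) :
    (∃ m : ℕ, Odd m ∧ x ^ m ∈ R) ∨ (x * x = 1 ∧ PiNum πᶜ (cls x) ∧ cls x ≠ 1) := by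
  obtain ⟨k, m, hm, he⟩ := Nat.exists_eq_two_pow_mul_odd (orderOf_pos x).ne'
  have huo : orderOf (x ^ m) = 2 ^ k := by
    rw [orderOf_pow_of_dvd hm.pos.ne' ⟨2 ^ k, by rw [he, mul_comm]⟩, he,
      Nat.mul_div_cancel _ hm.pos]
  have hur : IsConj (x ^ m) (x ^ m)⁻¹ := isConj_inv_of_conj (conj_pow_inv hx m)
  by_cases hu2 : x ^ m * x ^ m = 1
  · rcases hyp.dich _ hur with hp | hp
    · exact Or.inl ⟨m, hm, hyp.mem_rad_of_pi hR ht2 ht ht1 ⟨k, huo⟩ hp⟩
    by_cases h1 : cls (x ^ m) = 1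
    · exact Or.inl ⟨m, hm, hR.center_le ((cls_eq_one_iff _).1 h1)⟩
    have hyo : orderOf (x ^ 2 ^ k) = m := by
      rw [orderOf_pow_of_dvd (by positivity) ⟨m, he⟩, he,
        Nat.mul_div_cancel_left _ (by positivity)]
    have hy1 : x ^ 2 ^ k = 1 := hyp.key hu2 hp h1 (isConj_inv_of_conj (conj_pow_inv hx _))
      (hyo ▸ hm) ((Commute.refl x).pow_pow _ _)
    rw [hy1, orderOf_one] at hyo
    rw [← hyo, pow_one] at hu2 hp h1
    exact Or.inr ⟨hu2, hp, h1⟩
  · exact Or.inl ⟨m, hm, hyp.mem_rad_of_pi hR ht2 ht ht1 ⟨k, huo⟩ (hyp.piNum_of_sq hur hu2)⟩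

theorem odd_orderOf_of_pow_eq_one {X : Type*} [Monoid X] {z : X} {m : ℕ} (hm : Odd m)
    (h : z ^ m = 1) : Odd (orderOf z) :=
  hm.of_dvd_nat (orderOf_dvd_of_pow_eq_one h)

theorem eq_one_of_sq_of_odd {X : Type*} [Group X] {z : X} (h2 : z * z = 1)
    (ho : Odd (orderOf z)) : z = 1 := by
  obtain ⟨j, hj⟩ := ho
  have h := pow_orderOf_eq_one z
  rw [hj, pow_succ, pow_mul, pow_two, h2, one_pow, one_mul] at h
  exact h

theorem mul_self_of_involution {t : G} (ht2 : t * t = 1) (g : G) :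
    (g * t * g⁻¹) * (g * t * g⁻¹) = 1 := by
  rw [show g * t * g⁻¹ * (g * t * g⁻¹) = g * (t * t) * g⁻¹ by group, ht2]; group

theorem conj_mul_inv_of_sq {a b : G} (ha : a * a = 1) (hb : b * b = 1) :
    a * (a * b) * a⁻¹ = (a * b)⁻¹ := by
  rw [mul_inv_rev, inv_eq_of_mul_eq_one_right ha, inv_eq_of_mul_eq_one_right hb, ← mul_assoc, ha,
    one_mul]

/-- An isolated involution is central when the odd core is trivial. -/
theorem mem_center_of_isolated {X : Type u} [Group X] [Finite X]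
    (hO : Cfsg.pPrimeCore 2 X = ⊥) {τ : X} (hτ : orderOf τ = 2)
    (hiso : ∀ g : X, Commute (g * τ * g⁻¹) τ → g * τ * g⁻¹ = τ) (g : X) : τ * g = g * τ := by
  have h := Invol.zStar_theorem X τ ⟨hτ, hiso⟩ g
  rw [hO, Subgroup.mem_bot] at h
  exact commutatorElement_eq_one_iff_mul_comm.1 h

/-- In a group which is simple modulo its radical, a non-central involution with a `π'`-class lies
in the radical. -/
theorem Hyp.mem_rad_of_simple (hyp : Hyp π G) {R : Subgroup G} (hR : IsRad R)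
    (hns : ¬ Group.IsSolvable G)
    (hsimple : ∀ L : Subgroup G, L.Normal → R ≤ L → L = R ∨ L = ⊤) {t : G}
    (ht2 : t * t = 1) (ht : PiNum πᶜ (cls t)) (ht1 : cls t ≠ 1) : t ∈ R := by
  classical
  by_contra htR
  haveI := hR.normal
  set f := QuotientGroup.mk' R with hf
  have hfs : Function.Surjective f := QuotientGroup.mk'_surjective R
  have hX : ∀ L : Subgroup (G ⧸ R), L.Normal → L = ⊥ ∨ L = ⊤ := by
    intro L hL
    rcases hsimple (L.comap f) (hL.comap f) (fun a ha => by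
        show f a ∈ L
        rw [show f a = 1 from (QuotientGroup.eq_one_iff a).2 ha]; exact L.one_mem) with h | h
    · left
      rw [← Subgroup.map_comap_eq_self_of_surjective hfs L, h, Subgroup.map_eq_bot_iff,
        QuotientGroup.ker_mk']
    · right
      rw [← Subgroup.map_comap_eq_self_of_surjective hfs L, h, ← MonoidHom.range_eq_map,
        MonoidHom.range_eq_top.2 hfs]
  have hXns : ¬ Group.IsSolvable (G ⧸ R) := fun h => hns (by
    haveI := hR.solvable
    exact solvable_of_ker_le_range R.subtype f (by simp [hf]))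
  have hXc : center (G ⧸ R) = ⊥ := (hX _ inferInstance).resolve_right fun e => hXns
    (Group.isSolvable_of_comm fun a b => Subgroup.mem_center_iff.1 (e ▸ Subgroup.mem_top b) a)
  have hXO : Cfsg.pPrimeCore 2 (G ⧸ R) = ⊥ := (hX _ inferInstance).resolve_right fun e => hXns (by
    refine S0205.result ?_
    have : Fact (Nat.Prime 2) := ⟨Nat.prime_two⟩
    have h := Cores.not_dvd_card_pPrimeCore (G := G ⧸ R) (p := 2)
    rw [e, Subgroup.card_top] at h
    exact Nat.not_even_iff_odd.1 fun he => h he.two_dvd)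
  set τ := f t with hτ
  have hτ1 : τ ≠ 1 := fun e => htR ((QuotientGroup.eq_one_iff t).1 e)
  have hτ2 : τ * τ = 1 := by rw [hτ, ← map_mul, ht2, map_one]
  have hτo : orderOf τ = 2 := orderOf_eq_prime (by rw [pow_two, hτ2]) hτ1
  set D : Set (G ⧸ R) := {d | IsConj τ d} with hD
  have hDlift : ∀ d ∈ D, ∃ g : G, f (g * t * g⁻¹) = d := by
    intro d hd
    obtain ⟨c, rfl⟩ := isConj_iff.1 hd
    obtain ⟨g, rfl⟩ := hfs c
    exact ⟨g, by rw [map_mul, map_mul, map_inv]⟩
  have hD2 : ∀ d ∈ D, d * d = 1 := by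
    intro d hd
    obtain ⟨c, rfl⟩ := isConj_iff.1 hd
    rw [show c * τ * c⁻¹ * (c * τ * c⁻¹) = c * (τ * τ) * c⁻¹ by group, hτ2]; group
  have hDinv : ∀ d ∈ D, d⁻¹ = d := fun d hd => inv_eq_of_mul_eq_one_right (hD2 d hd)
  have hDconj : ∀ d ∈ D, ∀ a : G ⧸ R, a * d * a⁻¹ ∈ D := fun d hd a =>
    hd.trans (isConj_iff.2 ⟨a, rfl⟩)
  have hτD : τ ∈ D := IsConj.refl τ
  -- products
  have hprod : ∀ d ∈ D, ∀ e ∈ D, Odd (orderOf (d * e)) ∨
      ∃ x : G, f x = d * e ∧ x * x = 1 ∧ PiNum πᶜ (cls x) ∧ cls x ≠ 1 := by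
    intro d hd e he
    obtain ⟨a, rfl⟩ := hDlift d hd
    obtain ⟨b, rfl⟩ := hDlift e he
    rcases hyp.prod_cases hR ht2 ht ht1 (conj_mul_inv_of_sq (mul_self_of_involution ht2 a)
      (mul_self_of_involution ht2 b)) with ⟨m, hm, hmR⟩ | hx
    · left
      refine odd_orderOf_of_pow_eq_one hm ?_
      rw [← map_mul, ← map_pow]
      exact (QuotientGroup.eq_one_iff _).2 hmR
    · exact Or.inr ⟨_, map_mul f _ _, hx⟩
  have hprod' : ∀ d ∈ D, ∀ e ∈ D, ¬ Commute d e → Odd (orderOf (d * e)) := by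
    intro d hd e he hde
    refine (hprod d hd e he).resolve_right fun ⟨x, hx, hx2, _⟩ => hde ?_
    have h1 : (d * e) * (d * e) = 1 := by rw [← hx, ← map_mul, hx2, map_one]
    have h2 : (d * e)⁻¹ = d * e := inv_eq_of_mul_eq_one_right h1
    rw [mul_inv_rev, hDinv e he, hDinv d hd] at h2
    exact h2.symm
  -- no nice element commutes with a moved involution
  have P1 : ∀ (v : G), v * v = 1 → PiNum πᶜ (cls v) → cls v ≠ 1 → f v ≠ 1 →
      ∀ y : G ⧸ R, IsConj y y⁻¹ → Odd (orderOf y) → Commute y (f v) → y = 1 := by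
    intro v hv2 hv hv1 hfv y hy hyo hyv
    by_contra hy1
    obtain ⟨n, hn⟩ := exists_nice_pow hy hyo hy1
    obtain ⟨x, hx, hxn⟩ := exists_nice_lift f hfs hn
    have hcop := hyp.coprime_cls hv hxn.1 hxn.sq_ne_one
    have hle : normalClosure ({f v} : Set (G ⧸ R)) ≤ centralizer ({y ^ n} : Set (G ⧸ R)) := by
      refine (Subgroup.closure_le _).2 fun a ha => ?_
      obtain ⟨v', hv', hva⟩ := Group.mem_conjugatesOfSet_iff.1 ha
      rw [Set.mem_singleton_iff] at hv'
      subst hv'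
      obtain ⟨c, rfl⟩ := isConj_iff.1 hva
      obtain ⟨g, rfl⟩ := hfs c
      obtain ⟨c, hcx, e⟩ := conj_trans hcop g
      refine mem_centralizer_singleton_iff.2 ?_
      rw [← map_inv, ← map_mul, ← map_mul, e, map_mul, map_mul, map_inv]
      have hc' : Commute (f c) (y ^ n) := hx ▸ hcx.map f
      exact ((hc'.mul_left (hyv.pow_left n).symm).mul_left hc'.inv_left).eq
    rcases hX _ (Subgroup.normalClosure_normal (s := ({f v} : Set (G ⧸ R)))) with e | e
    · exact hfv (Subgroup.mem_bot.1 (e ▸ Subgroup.subset_normalClosure (Set.mem_singleton _)))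
    · have : y ^ n ∈ center (G ⧸ R) := Subgroup.mem_center_iff.2 fun a =>
        (mem_centralizer_singleton_iff.1 (hle (e ▸ Subgroup.mem_top a)))
      rw [hXc, Subgroup.mem_bot] at this
      exact hn.2.1 this
  have P1' : ∀ d ∈ D, ∀ y : G ⧸ R, IsConj y y⁻¹ → Odd (orderOf y) → Commute y d → y = 1 := by
    intro d hd y hy hyo hyd
    obtain ⟨g, rfl⟩ := hDlift d hd
    refine P1 _ (mul_self_of_involution ht2 g) (by rw [cls_conj]; exact ht)
      (by rw [cls_conj]; exact ht1) (fun e => hτ1 ?_) y hy hyo hyd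
    have : f g * τ * (f g)⁻¹ = 1 := by rw [← e, map_mul, map_mul, map_inv]
    calc τ = (f g)⁻¹ * (f g * τ * (f g)⁻¹) * f g := by group
      _ = 1 := by rw [this]; group
  have hrefl : ∀ d ∈ D, ∀ e ∈ D, d * (d * e) * d⁻¹ = (d * e)⁻¹ := fun d hd e he => by
    rw [mul_inv_rev, hDinv d hd, hDinv e he, ← mul_assoc, hD2 d hd, one_mul]
  -- commuting is transitive on D
  have htrans : ∀ a ∈ D, ∀ b ∈ D, ∀ c ∈ D, Commute a b → Commute b c → Commute a c := by
    intro a ha b hb c hc hab hbc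
    by_contra hac
    have h1 : a * c = 1 := P1' b hb _ (isConj_inv_of_conj (hrefl a ha c hc)) (hprod' a ha c hc hac)
      (hab.mul_left hbc.symm)
    apply hac
    rw [mul_eq_one_iff_eq_inv.1 h1]
    exact (Commute.refl c).inv_left
  set A : Set (G ⧸ R) := {e | e ∈ D ∧ Commute τ e} with hA
  set E : Set (G ⧸ R) := {e | e ∈ D ∧ ¬ Commute τ e} with hE
  have hτA : τ ∈ A := ⟨hτD, Commute.refl τ⟩
  have hAE : A.ncard + E.ncard = D.ncard := by
    rw [← Set.ncard_union_eq (Set.disjoint_left.2 fun e h1 h2 => h2.2 h1.2) (Set.toFinite _)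
      (Set.toFinite _)]
    congr 1
    ext e
    constructor
    · rintro (h | h) <;> exact h.1
    · intro h
      by_cases h2 : Commute τ e
      · exact Or.inl ⟨h, h2⟩
      · exact Or.inr ⟨h, h2⟩
  have hDodd : ¬ 2 ∣ D.ncard := by
    have : D = conjugatesOf τ := rfl
    rw [this, ncard_conj]
    refine fun h => not_two_dvd_of_piNum_compl hyp.two ht (h.trans ?_)
    refine (Subgroup.index_dvd_of_le (?_ : (centralizer ({t} : Set G)).map f ≤ _)).trans
      (Subgroup.index_map_dvd _ hfs)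
    rintro _ ⟨c, hc, rfl⟩
    exact mem_centralizer_singleton_iff.2
      ((show Commute c t from mem_centralizer_singleton_iff.1 hc).map f).eq
  have hEeven : 2 ∣ E.ncard := by
    rw [← Nat.card_coe_set_eq]
    refine even_card_of_involution (fun e => ⟨τ * e * τ⁻¹, hDconj e e.2.1 τ, fun h => e.2.2 ?_⟩)
      (fun e => Subtype.ext ?_) (fun e h => e.2.2 ?_)
    · have h' := h.map (MulAut.conj τ).toMonoidHom
      simp only [MulEquiv.coe_toMonoidHom, MulAut.conj_apply, hDinv τ hτD] at h'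
      rwa [show τ * τ * τ = τ by rw [hτ2, one_mul],
        show τ * (τ * (e : G ⧸ R) * τ) * τ = (τ * τ) * e * (τ * τ) by group, hτ2, one_mul,
        mul_one] at h'
    · show τ * (τ * e * τ⁻¹) * τ⁻¹ = e
      rw [hDinv τ hτD, show τ * (τ * (e : G ⧸ R) * τ) * τ = (τ * τ) * e * (τ * τ) by group, hτ2,
        one_mul, mul_one]
    · exact mul_inv_eq_iff_eq_mul.1 (congrArg Subtype.val h)
  have hAodd : ¬ 2 ∣ A.ncard := fun h => hDodd (hAE ▸ dvd_add h hEeven)
  have hA2 : 2 ≤ A.ncard := by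
    by_contra hlt
    have h1 : A.ncard = 1 := by
      have : 0 < A.ncard := (Set.ncard_pos).2 ⟨τ, hτA⟩
      omega
    obtain ⟨a, ha⟩ := Set.ncard_eq_one.1 h1
    have hiso : ∀ g : G ⧸ R, Commute (g * τ * g⁻¹) τ → g * τ * g⁻¹ = τ := fun g hg => by
      have h2 : g * τ * g⁻¹ ∈ A := ⟨hDconj τ hτD g, hg.symm⟩
      have h3 : τ ∈ A := hτA
      rw [ha, Set.mem_singleton_iff] at h2 h3
      exact h2.trans h3.symm
    have : τ ∈ center (G ⧸ R) :=
      Subgroup.mem_center_iff.2 fun g => (mem_center_of_isolated hXO hτo hiso g).symm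
    rw [hXc, Subgroup.mem_bot] at this
    exact hτ1 this
  have hEne : E.Nonempty := by
    by_contra hne
    rw [Set.not_nonempty_iff_eq_empty] at hne
    have hall : ∀ e ∈ D, Commute τ e := fun e he => by
      by_contra h; exact (Set.eq_empty_iff_forall_notMem.1 hne) e ⟨he, h⟩
    have hle : normalClosure ({τ} : Set (G ⧸ R)) ≤ centralizer ({τ} : Set (G ⧸ R)) :=
      (Subgroup.closure_le _).2 fun a ha => by
        obtain ⟨b, hb, hba⟩ := Group.mem_conjugatesOfSet_iff.1 ha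
        rw [Set.mem_singleton_iff] at hb
        subst hb
        exact mem_centralizer_singleton_iff.2 (hall a hba).eq.symm
    rcases hX _ (Subgroup.normalClosure_normal (s := ({τ} : Set (G ⧸ R)))) with e | e
    · exact hτ1 (Subgroup.mem_bot.1 (e ▸ Subgroup.subset_normalClosure (Set.mem_singleton _)))
    · have : τ ∈ center (G ⧸ R) := Subgroup.mem_center_iff.2 fun a =>
        (mem_centralizer_singleton_iff.1 (hle (e ▸ Subgroup.mem_top a)))
      rw [hXc, Subgroup.mem_bot] at this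
      exact hτ1 this
  have hflip : ∀ γ ∈ E, γ * τ * γ⁻¹ ∈ E := by
    intro γ hγ
    refine ⟨hDconj τ hτD γ, fun h => hγ.2 ?_⟩
    have ho := hprod' γ hγ.1 τ hτD (fun h' => hγ.2 h'.symm)
    rw [hDinv γ hγ.1] at h
    have h4 : ((γ * τ) * (γ * τ)) * ((γ * τ) * (γ * τ)) = 1 := by
      have h' : τ * (γ * τ * γ) * τ = γ * τ * γ := by rw [h.eq, mul_assoc, hτ2, mul_one]
      calc ((γ * τ) * (γ * τ)) * ((γ * τ) * (γ * τ))
          = (γ * τ * γ) * (τ * (γ * τ * γ) * τ) := by group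
        _ = (γ * τ * γ) * (γ * τ * γ) := by rw [h']
        _ = γ * τ * (γ * γ) * τ * γ := by group
        _ = γ * (τ * τ) * γ := by rw [hD2 γ hγ.1]; group
        _ = 1 := by rw [hτ2, mul_one, hD2 γ hγ.1]
    have hd : orderOf (γ * τ) ∣ 2 ^ 2 := orderOf_dvd_of_pow_eq_one (by
      rw [pow_two 2, pow_mul, pow_two, pow_two]; exact h4)
    have h1 : γ * τ = 1 := by
      rw [← orderOf_eq_one_iff]
      exact Nat.eq_one_of_dvd_coprimes ((Nat.coprime_two_right.2 ho).pow_right 2) dvd_rfl hd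
    rw [mul_eq_one_iff_eq_inv.1 h1, hDinv τ hτD]
  -- two involutions which move A to the same place
  obtain ⟨γ, hγ, γ', hγ', hne, hcom⟩ : ∃ γ ∈ E, ∃ γ' ∈ E, γ ≠ γ' ∧
      Commute (γ * τ * γ⁻¹) (γ' * τ * γ'⁻¹) := by
    by_contra hnone
    push Not at hnone
    have hsub : ∀ p : E × A, (p.1 : G ⧸ R) * p.2 * (p.1 : G ⧸ R)⁻¹ ∈ E := by
      rintro ⟨⟨γ, hγ⟩, ⟨a, ha⟩⟩
      refine ⟨hDconj a ha.1 γ, fun h => (hflip γ hγ).2 ?_⟩
      exact htrans τ hτD _ (hDconj a ha.1 γ) _ (hDconj τ hτD γ) h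
        (ha.2.map (MulAut.conj γ).toMonoidHom).symm
    have hinj : Function.Injective (fun p : E × A => (⟨_, hsub p⟩ : E)) := by
      rintro ⟨⟨γ, hγ⟩, ⟨a, ha⟩⟩ ⟨⟨γ', hγ'⟩, ⟨a', ha'⟩⟩ e
      have e' : γ * a * γ⁻¹ = γ' * a' * γ'⁻¹ := congrArg Subtype.val e
      have h1 : Commute (γ * τ * γ⁻¹) (γ * a * γ⁻¹) := ha.2.map (MulAut.conj γ).toMonoidHom
      have h2 : Commute (γ' * τ * γ'⁻¹) (γ' * a' * γ'⁻¹) := ha'.2.map (MulAut.conj γ').toMonoidHom
      have hgg : γ = γ' := by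
        by_contra hne
        exact hnone γ hγ γ' hγ' hne (htrans _ (hDconj τ hτD γ) _ (hDconj a ha.1 γ) _
          (hDconj τ hτD γ') h1 (e' ▸ h2.symm))
      subst hgg
      simp only [Prod.mk.injEq, Subtype.mk.injEq, true_and]
      exact mul_left_cancel (mul_right_cancel e')
    have hle := Nat.card_le_card_of_injective _ hinj
    rw [Nat.card_prod, Nat.card_coe_set_eq, Nat.card_coe_set_eq] at hle
    have hEpos : 0 < E.ncard := (Set.ncard_pos).2 hEne
    nlinarith
  set z := γ * γ' with hz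
  have hzA : Commute τ (z * τ * z⁻¹) := by
    have h1 := hcom.map (MulAut.conj γ).toMonoidHom
    simp only [MulEquiv.coe_toMonoidHom, MulAut.conj_apply, hDinv γ hγ.1, hDinv γ' hγ'.1] at h1
    rw [show γ * (γ * τ * γ) * γ = (γ * γ) * τ * (γ * γ) by group, hD2 γ hγ.1, one_mul,
      mul_one] at h1
    rw [hz, mul_inv_rev, hDinv γ hγ.1, hDinv γ' hγ'.1,
      show γ * γ' * τ * (γ' * γ) = γ * (γ' * τ * γ') * γ by group]
    exact h1
  have hz1 : z ≠ 1 := fun e => hne (by
    rw [hz, mul_eq_one_iff_eq_inv, hDinv γ' hγ'.1] at e; exact e)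
  let H : Subgroup (G ⧸ R) :=
    { carrier := {a | Commute τ (a * τ * a⁻¹)}
      one_mem' := by simp
      mul_mem' := fun {a b} ha hb => by
        have h1 : Commute (a * τ * a⁻¹) (a * (b * τ * b⁻¹) * a⁻¹) :=
          hb.map (MulAut.conj a).toMonoidHom
        rw [show a * (b * τ * b⁻¹) * a⁻¹ = (a * b) * τ * (a * b)⁻¹ by group] at h1
        exact htrans τ hτD _ (hDconj τ hτD a) _ (hDconj τ hτD _) ha h1
      inv_mem' := fun {a} ha => by
        have h1 : Commute (a⁻¹ * τ * a⁻¹⁻¹) (a⁻¹ * (a * τ * a⁻¹) * a⁻¹⁻¹) :=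
          ha.map (MulAut.conj a⁻¹).toMonoidHom
        rw [show a⁻¹ * (a * τ * a⁻¹) * a⁻¹⁻¹ = τ by group] at h1
        exact h1.symm }
  have hzH : z ∈ H := hzA
  have hzinv : γ * z * γ⁻¹ = z⁻¹ := hrefl γ hγ.1 γ' hγ'.1
  by_cases hgc : Commute γ γ'
  · -- a second involution fixing a point of A
    have hzz : z * z = 1 := by
      rw [hz, show γ * γ' * (γ * γ') = γ * (γ' * γ) * γ' by group, ← hgc.eq,
        show γ * (γ * γ') * γ' = (γ * γ) * (γ' * γ') by group, hD2 γ hγ.1, hD2 γ' hγ'.1, one_mul]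
    obtain ⟨x, hx, hx2, hxp, hx1⟩ := (hprod γ hγ.1 γ' hγ'.1).resolve_left fun ho =>
      hz1 (eq_one_of_sq_of_odd hzz ho)
    have hzi : z⁻¹ = z := inv_eq_of_mul_eq_one_right hzz
    have hmaps : ∀ a ∈ A, z * a * z⁻¹ ∈ A := fun a ha => ⟨hDconj a ha.1 z,
      htrans τ hτD _ (hDconj τ hτD z) _ (hDconj a ha.1 z) hzA (ha.2.map (MulAut.conj z).toMonoidHom)⟩
    obtain ⟨a, haA, ha⟩ : ∃ a ∈ A, z * a * z⁻¹ = a := by
      by_contra hno
      push Not at hno
      refine hAodd ?_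
      rw [← Nat.card_coe_set_eq]
      refine even_card_of_involution (fun a => ⟨_, hmaps a a.2⟩) (fun a => Subtype.ext ?_)
        (fun a h => hno a a.2 (congrArg Subtype.val h))
      show z * (z * a * z⁻¹) * z⁻¹ = a
      rw [hzi, show z * (z * (a : G ⧸ R) * z) * z = (z * z) * a * (z * z) by group, hzz, one_mul,
        mul_one]
    have hag : ¬ Commute a γ := fun h => hγ.2 (htrans τ hτD a haA.1 γ hγ.1 haA.2 h)
    have hy : a * γ = 1 := P1 x hx2 hxp hx1 (hx ▸ hz1) _ (isConj_inv_of_conj (hrefl a haA.1 γ hγ.1))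
      (hprod' a haA.1 γ hγ.1 hag) (by
        rw [hx]
        have h1 : Commute a z := (mul_inv_eq_iff_eq_mul.1 ha).symm
        have h2 : Commute γ z := (Commute.refl γ).mul_right hgc
        exact h1.mul_left h2)
    apply hag
    rw [mul_eq_one_iff_eq_inv.1 hy]
    exact (Commute.refl γ).inv_left
  · have hzo := hprod' γ hγ.1 γ' hγ'.1 hgc
    obtain ⟨n, hn⟩ := exists_nice_pow (isConj_inv_of_conj hzinv) hzo hz1
    set y := z ^ n with hy
    have hyH : y ∈ H := pow_mem hzH n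
    obtain ⟨x, hx, hxn⟩ := exists_nice_lift f hfs hn
    have hcop := hyp.coprime_cls ht hxn.1 hxn.sq_ne_one
    obtain ⟨j, hj⟩ := hn.odd
    set s := y ^ (j + 1) with hs
    have hsy : s * s = y := by
      rw [hs, ← pow_add, show j + 1 + (j + 1) = 2 * j + 1 + 1 by ring, ← hj, pow_succ,
        pow_orderOf_eq_one, one_mul]
    have hsH : s ∈ H := pow_mem hyH _
    obtain ⟨g, hg⟩ := hDlift γ hγ.1
    obtain ⟨c, hcx, e⟩ := conj_trans hcop g
    have hγc : γ = f c * τ * (f c)⁻¹ := by rw [← hg, e, map_mul, map_mul, map_inv]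
    have hcy : Commute (f c) y := hx ▸ hcx.map f
    have hcs : Commute (f c) s := hcy.pow_right _
    have h1 : Commute γ (s * γ * s⁻¹) := by
      rw [hγc, show s * (f c * τ * (f c)⁻¹) * s⁻¹ = (s * f c) * τ * (s * f c)⁻¹ by group,
        ← hcs.eq, show f c * s * τ * (f c * s)⁻¹ = f c * (s * τ * s⁻¹) * (f c)⁻¹ by group]
      exact (show Commute τ (s * τ * s⁻¹) from hsH).map (MulAut.conj (f c)).toMonoidHom
    have hgi : γ⁻¹ = γ := hDinv γ hγ.1
    have hsinv : γ * s * γ⁻¹ = s⁻¹ := conj_pow_inv (conj_pow_inv hzinv n) _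
    have h2 : s * γ * s⁻¹ = y * γ := by
      rw [← hsinv, ← hsy, hgi,
        show s * γ * (γ * s * γ) = s * (γ * γ) * s * γ by group, hD2 γ hγ.1, mul_one]
    rw [h2] at h1
    have h3 : Commute γ y := by
      have := h1.mul_right (Commute.refl γ)
      rwa [mul_assoc, hD2 γ hγ.1, mul_one] at this
    have h4 : y⁻¹ = y := by rw [← conj_pow_inv hzinv n, ← hy, h3.eq, mul_inv_cancel_right]
    exact hn.sq_ne_one (mul_eq_one_iff_eq_inv.2 h4.symm)

end Cfsg.Agent.RealGraph
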