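import Mathlib
import Cfsg.Agent.RealGraph.Radical
import Cfsg.Agent.RealGraph.Final
import Cfsg.Agent.PSolv.HallHigman

/-!
# The reduction to a module configuration
-/

set_option autoImplicit false
set_option linter.unusedSectionVars false

namespace Cfsg.Agent.RealGraph

open Subgroup
open scoped commutatorElement

universe u

variable {G : Type u} [Group G] [Finite G] {π : Set ℕ}

theorem cls_subgroup_dvd' (L : Subgroup G) (hL : L.Normal) (x : L) : cls x ∣ cls (x : G) := by
  have h : (centralizer ({(x : G)} : Set G)).relIndex L ∣ cls (x : G) := by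
    have h1 := relIndex_mul_index (le_sup_left : centralizer ({(x : G)} : Set G) ≤ _ ⊔ L)
    have h2 : (centralizer ({(x : G)} : Set G)).relIndex L ∣
        (centralizer ({(x : G)} : Set G)).relIndex (centralizer ({(x : G)} : Set G) ⊔ L) := by
      haveI := hL
      exact relIndex_dvd_of_normal_sup _ L
    rw [cls, ← h1]
    exact h2.trans (dvd_mul_right _ _)
  rw [cls, ClassSize.centralizer_subgroupOf]
  exact h
where
  relIndex_dvd_of_normal_sup (C L : Subgroup G) [L.Normal] :
      C.relIndex L ∣ C.relIndex (C ⊔ L) := by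
    have hinf : Nat.card (C ⊔ L : Subgroup G) * Nat.card (C ⊓ L : Subgroup G)
        = Nat.card C * Nat.card L := by
      have e1 := Subgroup.card_mul_index (L.subgroupOf (C ⊔ L))
      rw [Nat.card_congr (Subgroup.subgroupOfEquivOfLe (le_sup_right : L ≤ C ⊔ L)).toEquiv] at e1
      have e2 := Subgroup.card_mul_index (L.subgroupOf C)
      have e3 : (L.subgroupOf (C ⊔ L)).index = (L.subgroupOf C).index :=
        (Subgroup.relIndex_sup_right (H := C) (K := L))
      have e4 : Nat.card (L.subgroupOf C) = Nat.card (C ⊓ L : Subgroup G) := by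
        rw [← inf_subgroupOf_right, inf_comm,
          Nat.card_congr (Subgroup.subgroupOfEquivOfLe (inf_le_left : C ⊓ L ≤ C)).toEquiv]
      rw [← e1, e3, ← e2, e4]
      ring
    have e5 := Subgroup.card_mul_index (C.subgroupOf (C ⊔ L))
    rw [Nat.card_congr (Subgroup.subgroupOfEquivOfLe (le_sup_left : C ≤ C ⊔ L)).toEquiv] at e5
    have e6 := Subgroup.card_mul_index (C.subgroupOf L)
    have e7 : Nat.card (C.subgroupOf L) = Nat.card (C ⊓ L : Subgroup G) := by
      rw [← inf_subgroupOf_right,
        Nat.card_congr (Subgroup.subgroupOfEquivOfLe (inf_le_right : C ⊓ L ≤ L)).toEquiv]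
    rw [e7] at e6
    rw [← e5, ← e6] at hinf
    refine dvd_of_eq (Nat.eq_of_mul_eq_mul_left
      (Nat.mul_pos (Nat.card_pos (α := C)) (Nat.card_pos (α := (C ⊓ L : Subgroup G)))) ?_)
    calc Nat.card C * Nat.card (C ⊓ L : Subgroup G) * C.relIndex L
        = Nat.card C * (Nat.card (C ⊓ L : Subgroup G) * (C.subgroupOf L).index) := by
          rw [mul_assoc]; rfl
      _ = Nat.card C * (C.subgroupOf (C ⊔ L)).index * Nat.card (C ⊓ L : Subgroup G) := hinf.symm
      _ = Nat.card C * Nat.card (C ⊓ L : Subgroup G) * C.relIndex (C ⊔ L) := by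
          rw [show C.relIndex (C ⊔ L) = (C.subgroupOf (C ⊔ L)).index from rfl]; ring

theorem Hyp.of_normal (hyp : Hyp π G) (L : Subgroup G) (hL : L.Normal) : Hyp π L where
  two := hyp.two
  dich x hx := by
    have hd := cls_subgroup_dvd' L hL x
    rcases hyp.dich (x : G) (by simpa using L.subtype.map_isConj hx) with h | h
    · exact Or.inl (h.of_dvd hd)
    · exact Or.inr (h.of_dvd hd)

theorem cls_map_dvd {H : Type*} [Group H] [Finite H] (f : G →* H) (hf : Function.Surjective f)
    (x : G) : cls (f x) ∣ cls x := by
  refine (Subgroup.index_dvd_of_le (?_ : (centralizer ({x} : Set G)).map f ≤ _)).trans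
    (Subgroup.index_map_dvd _ hf)
  rintro _ ⟨c, hc, rfl⟩
  exact mem_centralizer_singleton_iff.2
    ((show Commute c x from mem_centralizer_singleton_iff.1 hc).map f).eq

theorem Hyp.of_odd_kernel (hyp : Hyp π G) {H : Type u} [Group H] [Finite H] (f : G →* H)
    (hf : Function.Surjective f) (hodd : Odd (Nat.card f.ker)) : Hyp π H where
  two := hyp.two
  dich y hy := by
    obtain ⟨x, rfl, hx⟩ := exists_real_lift_odd f hf hodd hy
    rcases hyp.dich x hx with h | h
    · exact Or.inl (h.of_dvd (cls_map_dvd f hf x))
    · exact Or.inr (h.of_dvd (cls_map_dvd f hf x))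

theorem not_solvable_commutator {X : Type*} [Group X] [Finite X] (hns : ¬ Group.IsSolvable X) :
    ¬ Group.IsSolvable (commutator X) := fun h => hns (by
  refine solvable_of_ker_le_range (commutator X).subtype (Abelianization.of (G := X)) ?_
  rw [Subgroup.range_subtype, Abelianization.ker_of])

theorem solvable_of_hyp_aux (n : ℕ) : ∀ (G : Type u) [Group G] [Finite G], Nat.card G = n →
    Hyp π G → ∀ t : G, t * t = 1 → PiNum πᶜ (cls t) → cls t ≠ 1 → Group.IsSolvable G := by
  induction n using Nat.strong_induction_on with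
  | _ n ih =>
    intro G _ _ hn hyp t ht2 ht ht1
    classical
    have : Fact (Nat.Prime 2) := ⟨Nat.prime_two⟩
    by_contra hns
    obtain ⟨R, hR⟩ := exists_isRad (G := G)
    haveI := hR.normal
    -- proper normal subgroups with a moving involution are soluble
    have F1 : ∀ L : Subgroup G, L.Normal → L ≠ ⊤ → ∀ v ∈ L, v * v = 1 → PiNum πᶜ (cls v) →
        cls v ≠ 1 → Group.IsSolvable L := by
      intro L hL hLt v hvL hv2 hv hv1
      by_contra hLs
      obtain ⟨x, hxL, hx⟩ := exists_nice_of_not_solvable L hLs
      have hlt : Nat.card L < n := hn ▸ lt_of_le_of_ne (Subgroup.card_le_card_group L)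
        fun e => hLt (Subgroup.eq_top_of_card_eq L e)
      refine hLs (ih _ hlt L rfl (hyp.of_normal L hL) ⟨v, hvL⟩ (Subtype.ext hv2)
        (hv.of_dvd (cls_subgroup_dvd' L hL _)) fun h1 => ?_)
      have hc : (⟨v, hvL⟩ : L) ∈ center L := (cls_eq_one_iff _).1 h1
      exact hyp.not_nice_commute hv2 hv hv1 hx
        (congrArg Subtype.val (Subgroup.mem_center_iff.1 hc ⟨x, hxL⟩))
    -- the odd core is trivial
    have hO : ∀ K : Subgroup G, K.Normal → Odd (Nat.card K) → K = ⊥ := by
      intro K hK hKodd
      by_contra hKne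
      haveI := hK
      set f := QuotientGroup.mk' K
      have hfs : Function.Surjective f := QuotientGroup.mk'_surjective K
      have hker : Odd (Nat.card f.ker) := by rw [QuotientGroup.ker_mk']; exact hKodd
      have hlt : Nat.card (G ⧸ K) < n := by
        have h1 := K.card_mul_index
        rw [Subgroup.index_eq_card] at h1
        rw [← hn, ← h1]
        exact lt_mul_left Nat.card_pos ((Subgroup.one_lt_card_iff_ne_bot K).2 hKne)
      by_cases hc1 : cls (f t) = 1
      · apply hns
        have hcen := (cls_eq_one_iff _).1 hc1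
        have hsurj : Function.Surjective (f.comp (centralizer ({t} : Set G)).subtype) := by
          intro y
          obtain ⟨g, rfl⟩ := hfs y
          set k := t * (g * t * g⁻¹) with hk
          have hkK : k ∈ K := by
            rw [← QuotientGroup.eq_one_iff k]
            show f k = 1
            rw [hk, map_mul, map_mul, map_mul, map_inv, Subgroup.mem_center_iff.1 hcen (f g),
              mul_inv_cancel_right, ← map_mul, ht2, map_one]
          have hki : t * k * t⁻¹ = k⁻¹ := conj_mul_inv_of_sq ht2 (mul_self_of_involution ht2 g)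
          have hko : Odd (orderOf k) := hKodd.of_dvd_nat (Subgroup.orderOf_dvd_natCard K hkK)
          obtain ⟨j, hj⟩ := hko
          set s := k ^ (j + 1) with hs
          have hsk : s * s = k := by
            rw [hs, ← pow_add, show j + 1 + (j + 1) = 2 * j + 1 + 1 by ring, ← hj, pow_succ,
              pow_orderOf_eq_one, one_mul]
          have hts : t * s * t⁻¹ = s⁻¹ := conj_pow_inv hki _
          have hsg : s * g ∈ centralizer ({t} : Set G) := by
            refine mem_centralizer_singleton_iff.2 (mul_inv_eq_iff_eq_mul.1 ?_)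
            rw [show s * g * t * (s * g)⁻¹ = s * (g * t * g⁻¹) * s⁻¹ by group,
              show g * t * g⁻¹ = t * k by rw [hk, ← mul_assoc, ht2, one_mul], ← hsk,
              show s * (t * (s * s)) * s⁻¹ = s * (t * s * t⁻¹) * t by group, hts, mul_inv_cancel,
              one_mul]
          refine ⟨⟨s * g, hsg⟩, ?_⟩
          show f (s * g) = f g
          rw [map_mul, show f s = 1 from (QuotientGroup.eq_one_iff s).2 (K.pow_mem hkK _), one_mul]
        have hsol : Group.IsSolvable (centralizer ({t} : Set G)) :=
          (structure_of_no_nice _ fun x hx hn' =>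
            hyp.not_nice_commute ht2 ht ht1 hn' (mem_centralizer_singleton_iff.1 hx)).2
        have : Group.IsSolvable (G ⧸ K) := solvable_of_surjective hsurj
        have : Group.IsSolvable K := S0205.result hKodd
        exact solvable_of_ker_le_range K.subtype f (by simp [f])
      · apply hns
        have : Group.IsSolvable (G ⧸ K) := ih _ hlt (G ⧸ K) rfl (hyp.of_odd_kernel f hfs hker) (f t)
          (by rw [← map_mul, ht2, map_one]) (ht.of_dvd (cls_map_dvd f hfs t)) hc1
        have : Group.IsSolvable K := S0205.result hKodd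
        exact solvable_of_ker_le_range K.subtype f (by simp [f])
    -- simple modulo the radical
    have F3 : ∀ L : Subgroup G, L.Normal → R ≤ L → L = R ∨ L = ⊤ := by
      intro L hL hRL
      by_contra hne
      push Not at hne
      obtain ⟨hLR, hLt⟩ := hne
      have hLs : ¬ Group.IsSolvable L := fun h => hLR (le_antisymm (hR.le L hL h) hRL)
      have htL : t ∉ L := fun h => hLs (F1 L hL hLt t h ht2 ht ht1)
      set f := QuotientGroup.mk' R with hfdef
      have hfs : Function.Surjective f := QuotientGroup.mk'_surjective R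
      have hXsol : ∀ N : Subgroup (G ⧸ R), N.Normal → Group.IsSolvable N → N = ⊥ := by
        intro N hN hNs
        haveI := hR.solvable
        haveI := hNs
        have hpre : Group.IsSolvable (N.comap f) := by
          refine solvable_of_ker_le_range
            (Subgroup.inclusion (?_ : R ≤ N.comap f)) ((f.comp (N.comap f).subtype).codRestrict N
              fun a => a.2) ?_
          · intro a ha
            show f a ∈ N
            rw [show f a = 1 from (QuotientGroup.eq_one_iff a).2 ha]
            exact N.one_mem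
          · intro a ha
            exact ⟨⟨a, (QuotientGroup.eq_one_iff _).1 (congrArg Subtype.val ha)⟩, rfl⟩
        rw [← Subgroup.map_comap_eq_self_of_surjective hfs N, Subgroup.map_eq_bot_iff, hfdef,
          QuotientGroup.ker_mk']
        exact hR.le _ (hN.comap f) hpre
      set Lb := L.map f with hLb
      haveI hLbn : Lb.Normal := hL.map f hfs
      set τ := f t with hτdef
      have htR : t ∉ R := fun h => htL (hRL h)
      have hτ1 : τ ≠ 1 := fun e => htR ((QuotientGroup.eq_one_iff t).1 e)
      have hτ2 : τ * τ = 1 := by rw [hτdef, ← map_mul, ht2, map_one]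
      have hprod : ∀ l ∈ Lb, Odd (orderOf (τ * (l * τ * l⁻¹))) := by
        rintro _ ⟨l, hl, rfl⟩
        have hxL : t * (l * t * l⁻¹) ∈ L := by
          rw [show t * (l * t * l⁻¹) = (t * l * t⁻¹) * (t * t) * l⁻¹ by group, ht2, mul_one]
          exact L.mul_mem (hL.conj_mem l hl t) (L.inv_mem hl)
        rcases hyp.prod_cases hR ht2 ht ht1 (conj_mul_inv_of_sq ht2 (mul_self_of_involution ht2 l))
          with ⟨m, hm, hmR⟩ | ⟨h2, hp, h1⟩
        · refine odd_orderOf_of_pow_eq_one hm ?_
          rw [hτdef, ← map_inv, ← map_mul, ← map_mul, ← map_mul, ← map_pow]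
          exact (QuotientGroup.eq_one_iff _).2 hmR
        · exact absurd (F1 L hL hLt _ hxL h2 hp h1) hLs
      set Mb := Lb ⊔ zpowers τ with hMb
      let τ' : Mb := ⟨τ, mem_sup_right (mem_zpowers τ)⟩
      have hτ'o : orderOf τ' = 2 := by
        rw [Subgroup.orderOf_mk]
        exact orderOf_eq_prime (by rw [pow_two, hτ2]) hτ1
      have hiso : ∀ g : Mb, Commute (g * τ' * g⁻¹) τ' → g * τ' * g⁻¹ = τ' := by
        intro g hg
        have hg' : Commute ((g : G ⧸ R) * τ * (g : G ⧸ R)⁻¹) τ := congrArg Subtype.val hg
        obtain ⟨l, hl, z, hz, hlz⟩ := Subgroup.mem_sup_of_normal_left.1 g.2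
        obtain ⟨i, rfl⟩ := hz
        have hlz' : l * τ ^ i = (g : G ⧸ R) := hlz
        have e : (g : G ⧸ R) * τ * (g : G ⧸ R)⁻¹ = l * τ * l⁻¹ := by
          rw [← hlz', show l * τ ^ i * τ * (l * τ ^ i)⁻¹ = l * τ * l⁻¹ by group]
        rw [e] at hg'
        have ho := hprod l hl
        have h2 : (τ * (l * τ * l⁻¹)) * (τ * (l * τ * l⁻¹)) = 1 := by
          rw [show τ * (l * τ * l⁻¹) * (τ * (l * τ * l⁻¹))
            = τ * ((l * τ * l⁻¹) * τ) * (l * τ * l⁻¹) by group, hg'.eq,
            show τ * (τ * (l * τ * l⁻¹)) * (l * τ * l⁻¹) = (τ * τ) * l * (τ * τ) * l⁻¹ by group,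
            hτ2]
          group
        have h3 := eq_one_of_sq_of_odd h2 ho
        refine Subtype.ext ?_
        show (g : G ⧸ R) * τ * (g : G ⧸ R)⁻¹ = τ
        rw [e]
        calc l * τ * l⁻¹ = (τ * τ) * (l * τ * l⁻¹) := by rw [hτ2, one_mul]
          _ = τ * (τ * (l * τ * l⁻¹)) := mul_assoc _ _ _
          _ = τ := by rw [h3, mul_one]
      have hcomm : ∀ l ∈ Lb, τ * l = l * τ := by
        intro l hl
        have hz := Invol.zStar_theorem Mb τ' ⟨hτ'o, hiso⟩ ⟨l, mem_sup_left hl⟩
        set c : Mb := ⁅τ', (⟨l, mem_sup_left hl⟩ : Mb)⁆ with hcdef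
        have hcL : (c : G ⧸ R) ∈ Lb := by
          show τ * l * τ⁻¹ * l⁻¹ ∈ Lb
          exact Lb.mul_mem (hLbn.conj_mem l hl τ) (Lb.inv_mem hl)
        let N : Subgroup Lb := ((Cfsg.pPrimeCore 2 Mb).map Mb.subtype).subgroupOf Lb
        have hNn : N.Normal := by
          refine ⟨fun a ha b => ?_⟩
          obtain ⟨a', ha', e⟩ := (ha : (a : G ⧸ R) ∈ (Cfsg.pPrimeCore 2 Mb).map Mb.subtype)
          have hn0 : (Cfsg.pPrimeCore 2 Mb).Normal := inferInstance
          refine ⟨⟨b, mem_sup_left b.2⟩ * a' * (⟨b, mem_sup_left b.2⟩ : Mb)⁻¹,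
            hn0.conj_mem a' ha' _, ?_⟩
          show (b : G ⧸ R) * (a' : G ⧸ R) * (b : G ⧸ R)⁻¹ = _
          rw [show (a' : G ⧸ R) = a from e]
          rfl
        have hNodd : ¬ 2 ∣ Nat.card N := by
          intro h
          obtain ⟨a, ha⟩ := exists_prime_orderOf_dvd_card' 2 h
          obtain ⟨a', ha', e⟩ :=
            (a.2 : ((a : Lb) : G ⧸ R) ∈ (Cfsg.pPrimeCore 2 Mb).map Mb.subtype)
          have hd : orderOf a' ∣ Nat.card (Cfsg.pPrimeCore 2 Mb) :=
            Subgroup.orderOf_dvd_natCard _ ha'
          have hoa : orderOf a' = 2 := by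
            rw [← ha, ← Subgroup.orderOf_coe a', show ((a' : Mb) : G ⧸ R) = ((a : Lb) : G ⧸ R) from e,
              Subgroup.orderOf_coe, Subgroup.orderOf_coe]
          exact Cores.not_dvd_card_pPrimeCore (G := Mb) (p := 2) (hoa ▸ hd)
        have hOL : (Cfsg.pPrimeCore 2 Lb).map Lb.subtype = ⊥ := by
          refine hXsol _ (Cores.normal_map_subtype_of_characteristic _) ?_
          refine S0205.result (Nat.not_even_iff_odd.1 fun he => ?_)
          rw [Subgroup.card_subtype] at he
          exact Cores.not_dvd_card_pPrimeCore (G := Lb) (p := 2) he.two_dvd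
        have hcN : (⟨c, hcL⟩ : Lb) ∈ Cfsg.pPrimeCore 2 Lb :=
          Cores.le_pPrimeCore_of_not_dvd hNn hNodd
            (show (c : G ⧸ R) ∈ (Cfsg.pPrimeCore 2 Mb).map Mb.subtype from ⟨c, hz, rfl⟩)
        have hc1 : (c : G ⧸ R) ∈ (Cfsg.pPrimeCore 2 Lb).map Lb.subtype := ⟨_, hcN, rfl⟩
        rw [hOL, Subgroup.mem_bot] at hc1
        exact commutatorElement_eq_one_iff_mul_comm.1 (show ⁅τ, l⁆ = 1 from hc1)
      -- the centralizer of L modulo R
      set M2 := (centralizer (Lb : Set (G ⧸ R))).comap f with hM2
      have hM2n : M2.Normal := (Subgroup.normal_centralizer (H := Lb)).comap f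
      have hM2t : M2 ≠ ⊤ := by
        intro e
        have hcen : Lb ≤ center (G ⧸ R) := fun l hl => Subgroup.mem_center_iff.2 fun a => by
          obtain ⟨g, rfl⟩ := hfs a
          exact ((e ▸ Subgroup.mem_top g : g ∈ M2) l hl).symm
        have : center (G ⧸ R) = ⊥ := hXsol _ inferInstance
          (Group.isSolvable_of_comm fun a b => Subtype.ext (Subgroup.mem_center_iff.1 b.2 a))
        rw [this, le_bot_iff, hLb, Subgroup.map_eq_bot_iff, hfdef, QuotientGroup.ker_mk'] at hcen
        exact hLR (le_antisymm hcen hRL)
      have htM2 : t ∈ M2 := fun l hl => (hcomm l hl).symm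
      exact htR (hR.le M2 hM2n (F1 M2 hM2n hM2t t htM2 ht2 ht ht1) htM2)
    have htR : t ∈ R := hyp.mem_rad_of_simple hR hns F3 ht2 ht ht1
    -- into the two-core
    set P := (Cfsg.pCore 2 R).map R.subtype with hPdef
    have hPn : P.Normal := Cores.normal_map_subtype_of_characteristic _
    have hP2 : IsPGroup 2 P := (Cores.pCore_isPGroup (G := R) (p := 2)).map _
    have hOR : Cfsg.pPrimeCore 2 R = ⊥ := by
      have h := hO _ (Cores.normal_map_subtype_of_characteristic (Cfsg.pPrimeCore 2 R)) (by
        rw [Subgroup.card_subtype]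
        exact Nat.not_even_iff_odd.1 fun he =>
          Cores.not_dvd_card_pPrimeCore (G := R) (p := 2) he.two_dvd)
      exact (Subgroup.map_eq_bot_iff_of_injective _ R.subtype_injective).1 h
    obtain ⟨S, hS⟩ := exists_sylow_le (not_two_dvd_of_piNum_compl hyp.two ht)
    have hPt : ∀ a ∈ P, Commute a t := by
      intro a ha
      obtain ⟨Q, hQ⟩ := IsPGroup.exists_le_sylow hP2
      obtain ⟨g, rfl⟩ := MulAction.exists_smul_eq G Q S
      refine mem_centralizer_singleton_iff.1 (hS ⟨g⁻¹ * a * g, hQ ?_, ?_⟩)
      · simpa using hPn.conj_mem a ha g⁻¹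
      · show g * (g⁻¹ * a * g) * g⁻¹ = a
        group
    have htP : t ∈ P := by
      refine ⟨⟨t, htR⟩, ?_, rfl⟩
      haveI := hR.solvable
      refine PSolv.centralizer_pCore_le (PSolv.isPSolvable_of_isSolvable hR.solvable) hOR ?_
      intro a ha
      exact Subtype.ext (hPt a ⟨a, ha, rfl⟩).eq
    have hΩP : ∀ g : G, g * t * g⁻¹ ∈ P := fun g => hPn.conj_mem t htP g
    have hcommP : ∀ a ∈ P, ∀ g : G, Commute a (g * t * g⁻¹) := by
      intro a ha g
      have h := (hPt (g⁻¹ * a * g) (by simpa using hPn.conj_mem a ha g⁻¹)).map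
        (MulAut.conj g).toMonoidHom
      simp only [MulEquiv.coe_toMonoidHom, MulAut.conj_apply] at h
      rwa [show g * (g⁻¹ * a * g) * g⁻¹ = a by group] at h
    set A₀ := normalClosure ({t} : Set G) with hA₀
    have hA₀n : A₀.Normal := Subgroup.normalClosure_normal
    have hA₀P : A₀ ≤ P := haveI := hPn; Subgroup.normalClosure_le_normal (by simpa using htP)
    have hA₀comm : ∀ a ∈ A₀, ∀ b ∈ A₀, a * b = b * a := by
      intro a ha b hb
      induction hb using Subgroup.closure_induction with
      | mem x hx =>
        obtain ⟨y, hy, hyx⟩ := Group.mem_conjugatesOfSet_iff.1 hx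
        rw [Set.mem_singleton_iff] at hy
        subst hy
        obtain ⟨c, rfl⟩ := isConj_iff.1 hyx
        exact (hcommP a (hA₀P ha) c).eq
      | one => rw [mul_one, one_mul]
      | mul x y _ _ hx hy => exact (show Commute a x from hx).mul_right hy
      | inv x _ hx => exact (show Commute a x from hx).inv_right
    have hA₀sq : ∀ a ∈ A₀, a * a = 1 := by
      intro a ha
      induction ha using Subgroup.closure_induction with
      | mem x hx =>
        obtain ⟨y, hy, hyx⟩ := Group.mem_conjugatesOfSet_iff.1 hx
        rw [Set.mem_singleton_iff] at hy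
        subst hy
        obtain ⟨c, rfl⟩ := isConj_iff.1 hyx
        exact mul_self_of_involution ht2 c
      | one => rw [mul_one]
      | mul x y hx' hy' hx hy =>
        rw [show x * y * (x * y) = x * (y * x) * y by group, hA₀comm y hy' x hx',
          show x * (x * y) * y = (x * x) * (y * y) by group, hx, hy, one_mul]
      | inv x _ hx => rw [← mul_inv_rev, hx, inv_one]
    have htA₀ : ∀ g : G, g * t * g⁻¹ ∈ A₀ := fun g =>
      hA₀n.conj_mem t (Subgroup.subset_normalClosure (Set.mem_singleton t)) g
    set V₀ := Subgroup.closure (Set.range fun g : G => t * (g * t * g⁻¹)) with hV₀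
    have hV₀A : V₀ ≤ A₀ := (Subgroup.closure_le _).2 (by
      rintro _ ⟨g, rfl⟩
      exact A₀.mul_mem (Subgroup.subset_normalClosure (Set.mem_singleton t)) (htA₀ g))
    have hV₀n : V₀.Normal := ⟨fun v hv a => by
      induction hv using Subgroup.closure_induction with
      | mem x hx =>
        obtain ⟨g, rfl⟩ := hx
        have e : a * (t * (g * t * g⁻¹)) * a⁻¹
            = (t * (a * t * a⁻¹)) * (t * ((a * g) * t * (a * g)⁻¹)) := by
          rw [show t * (a * t * a⁻¹) * (t * (a * g * t * (a * g)⁻¹))
            = t * ((a * t * a⁻¹) * t) * (a * g * t * (a * g)⁻¹) by group,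
            ← hA₀comm t (Subgroup.subset_normalClosure (Set.mem_singleton t)) _ (htA₀ a),
            ← mul_assoc t t, ht2]
          group
        rw [e]
        exact V₀.mul_mem (Subgroup.subset_closure ⟨a, rfl⟩) (Subgroup.subset_closure ⟨a * g, rfl⟩)
      | one => simp
      | mul x y _ _ hx hy =>
        rw [show a * (x * y) * a⁻¹ = (a * x * a⁻¹) * (a * y * a⁻¹) by group]
        exact V₀.mul_mem hx hy
      | inv x _ hx =>
        rw [show a * x⁻¹ * a⁻¹ = (a * x * a⁻¹)⁻¹ by group]
        exact V₀.inv_mem hx⟩
    -- the classes inside V₀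
    have hclass : ∀ z ∈ V₀, z ∉ center G → PiNum πᶜ (cls z) ∧ cls z ≠ 1 := by
      intro z hz hzc
      have hz2 : z * z = 1 := hA₀sq z (hV₀A hz)
      have hz1 : cls z ≠ 1 := fun e => hzc ((cls_eq_one_iff z).1 e)
      refine ⟨(hyp.dich z (by rw [inv_eq_of_mul_eq_one_right hz2])).resolve_left fun hp => ?_, hz1⟩
      have hcop : (cls t).Coprime (cls z) := (hp.coprime ht).symm
      set K := conjugatesOf (t * z) with hK
      have hpair : ∀ a b : G, (a * t * a⁻¹) * (b * z * b⁻¹) ∈ K := by
        intro a b
        obtain ⟨c, hcb, e⟩ := conj_trans (v := b * t * b⁻¹) (x := b * z * b⁻¹)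
          (by rw [cls_conj, cls_conj]; exact hcop) (a * b⁻¹)
        rw [show a * b⁻¹ * (b * t * b⁻¹) * (a * b⁻¹)⁻¹ = a * t * a⁻¹ by group] at e
        refine isConj_iff.2 ⟨c * b, ?_⟩
        calc c * b * (t * z) * (c * b)⁻¹
            = (c * (b * t * b⁻¹) * c⁻¹) * (c * (b * z * b⁻¹) * c⁻¹) := by group
          _ = (a * t * a⁻¹) * (b * z * b⁻¹) := by rw [← e, hcb.eq, mul_inv_cancel_right]
      have hdvd : cls (t * z) ∣ cls t * cls z := by
        have h1 : (centralizer ({t} : Set G)) ⊓ centralizer ({z} : Set G)
            ≤ centralizer ({t * z} : Set G) := by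
          intro a ha
          exact mem_centralizer_singleton_iff.2
            ((show Commute a t from mem_centralizer_singleton_iff.1 ha.1).mul_right
              (show Commute a z from mem_centralizer_singleton_iff.1 ha.2)).eq
        have h2 := Subgroup.index_dvd_of_le h1
        rwa [index_inf_eq_of_coprime _ _ hcop] at h2
      have htz : (t * z) * (t * z) = 1 := hA₀sq _ (A₀.mul_mem
        (Subgroup.subset_normalClosure (Set.mem_singleton t)) (hV₀A hz))
      have hKcard : K.ncard = cls (t * z) := ncard_conj _
      have hBA : ∀ b : G, b * z * b⁻¹ ∈ A₀ := fun b => hA₀n.conj_mem z (hV₀A hz) b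
      rcases hyp.dich (t * z) (by rw [inv_eq_of_mul_eq_one_right htz]) with hq | hq
      · have hle : K.ncard ≤ cls z := hKcard ▸ Nat.le_of_dvd (cls_pos z)
          ((hq.coprime ht).dvd_of_dvd_mul_left hdvd)
        have heq : ∀ a : G, (fun b => (a * t * a⁻¹) * b) '' conjugatesOf z = K := by
          intro a
          refine Set.eq_of_subset_of_ncard_le ?_ ?_ (Set.toFinite _)
          · rintro _ ⟨b, hb, rfl⟩
            obtain ⟨c, rfl⟩ := isConj_iff.1 hb
            exact hpair a c
          · rw [Set.ncard_image_of_injective _ (mul_right_injective _)]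
            exact hle.trans (ncard_conj z).ge
        have hstab : ∀ v ∈ V₀, ∀ b ∈ conjugatesOf z, v * b ∈ conjugatesOf z := by
          intro v hv
          induction hv using Subgroup.closure_induction with
          | mem x hx =>
            obtain ⟨g, rfl⟩ := hx
            intro b hb
            have : g * t * g⁻¹ * b ∈ (fun b => (1 * t * 1⁻¹) * b) '' conjugatesOf z := by
              rw [heq 1, ← heq g]; exact ⟨b, hb, rfl⟩
            obtain ⟨b', hb', e⟩ := this
            have e' : t * b' = g * t * g⁻¹ * b := by simpa using e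
            show t * (g * t * g⁻¹) * b ∈ conjugatesOf z
            rw [mul_assoc, ← e', ← mul_assoc, ht2, one_mul]
            exact hb'
          | one => intro b hb; rwa [one_mul]
          | mul x y _ _ hx hy => intro b hb; rw [mul_assoc]; exact hx _ (hy b hb)
          | inv x hx' hx =>
            intro b hb
            rw [inv_eq_of_mul_eq_one_right (hA₀sq x (hV₀A hx'))]
            exact hx b hb
        have h1 := hstab z hz z (IsConj.refl z)
        rw [hz2] at h1
        exact hzc (by
          rw [show z = 1 from isConj_one_left.1 h1]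
          exact Subgroup.one_mem _)
      · have hle : K.ncard ≤ cls t := hKcard ▸ Nat.le_of_dvd (cls_pos t)
          ((hp.coprime hq).symm.dvd_of_dvd_mul_right hdvd)
        have hKeq : (fun a => a * z) '' conjugatesOf t = K := by
          refine Set.eq_of_subset_of_ncard_le ?_ ?_ (Set.toFinite _)
          · rintro _ ⟨a, ha, rfl⟩
            obtain ⟨c, rfl⟩ := isConj_iff.1 ha
            simpa using hpair c 1
          · rw [Set.ncard_image_of_injective _ (mul_left_injective z)]
            exact hle.trans (ncard_conj t).ge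
        refine hzc (Subgroup.mem_center_iff.2 fun b => ?_)
        have hw : b * z * b⁻¹ = z := by
          by_contra hne
          set w := b * z * b⁻¹ * z with hw
          have hwA : w ∈ A₀ := A₀.mul_mem (hBA b) (hV₀A hz)
          have hmaps : ∀ a ∈ conjugatesOf t, a * w ∈ conjugatesOf t := by
            intro a ha
            obtain ⟨c, rfl⟩ := isConj_iff.1 ha
            obtain ⟨a', ha', e⟩ : c * t * c⁻¹ * (b * z * b⁻¹) ∈ (fun a => a * z) '' conjugatesOf t :=
              hKeq ▸ hpair c b
            have e' : a' * z = c * t * c⁻¹ * (b * z * b⁻¹) := e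
            rw [hw, ← mul_assoc, ← e', mul_assoc, hz2, mul_one]
            exact ha'
          refine not_two_dvd_of_piNum_compl hyp.two ht ?_
          rw [← ncard_conj, ← Nat.card_coe_set_eq]
          refine even_card_of_involution (fun a => ⟨_, hmaps a a.2⟩)
            (fun a => Subtype.ext (by show (a : G) * w * w = a; rw [mul_assoc, hA₀sq w hwA, mul_one]))
            (fun a h => hne ?_)
          have h' : (a : G) * w = a := congrArg Subtype.val h
          have hw1 : w = 1 := mul_eq_left.1 h'
          rw [hw, mul_eq_one_iff_eq_inv, inv_eq_of_mul_eq_one_right hz2] at hw1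
          exact hw1
        exact mul_inv_eq_iff_eq_mul.1 hw
    -- no nice element fixes a coset
    have hnofix : ∀ x : G, Nice x → ∀ z ∈ A₀, x * z * x⁻¹ * z⁻¹ ∈ center G → Commute x z := by
      intro x hx z hz hc
      set c := x * z * x⁻¹ * z⁻¹ with hcdef
      have hc2 : c * c = 1 := hA₀sq c (A₀.mul_mem (hA₀n.conj_mem z hz x) (A₀.inv_mem hz))
      have hpow : ∀ i : ℕ, x ^ i * z * (x ^ i)⁻¹ = c ^ i * z := by
        intro i
        induction i with
        | zero => simp
        | succ i ih =>
          rw [pow_succ', show x * x ^ i * z * (x * x ^ i)⁻¹ = x * (x ^ i * z * (x ^ i)⁻¹) * x⁻¹ by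
            group, ih, ← mul_assoc, Subgroup.mem_center_iff.1 (Subgroup.pow_mem _ hc i) x,
            show c ^ i * x * z * x⁻¹ = c ^ i * ((x * z * x⁻¹ * z⁻¹) * z) by group, ← hcdef,
            ← mul_assoc, ← pow_succ]
      obtain ⟨j, hj⟩ := hx.odd
      have h := hpow (orderOf x)
      rw [pow_orderOf_eq_one, one_mul, inv_one, mul_one, hj, pow_succ, pow_mul, pow_two, hc2,
        one_pow, one_mul] at h
      exact mul_inv_eq_iff_eq_mul.1 (mul_inv_eq_one.1 (hcdef ▸ (right_eq_mul.1 h) :
        x * z * x⁻¹ * z⁻¹ = 1))
    obtain ⟨x₀, -, hx₀⟩ := exists_nice_of_not_solvable (⊤ : Subgroup G) fun h => hns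
      (haveI := h; solvable_of_surjective (f := (⊤ : Subgroup G).subtype)
        fun g => ⟨⟨g, Subgroup.mem_top g⟩, rfl⟩)
    have hV₀c : ¬ V₀ ≤ center G := by
      intro hle
      have htm : t ∈ A₀ := Subgroup.subset_normalClosure (Set.mem_singleton t)
      refine hyp.not_nice_commute ht2 ht ht1 hx₀ (hnofix x₀ hx₀ t htm ?_)
      rw [inv_eq_of_mul_eq_one_right ht2, ← hA₀comm t htm _ (htA₀ x₀)]
      exact hle (Subgroup.subset_closure ⟨x₀, rfl⟩)
    set Z₀ := V₀ ⊓ center G with hZ₀
    obtain ⟨A, ⟨hAn, hZA, hAV, hAZ⟩, hmin⟩ := Set.Finite.exists_minimal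
      (s := {A : Subgroup G | A.Normal ∧ Z₀ ≤ A ∧ A ≤ V₀ ∧ ¬ A ≤ Z₀}) (Set.toFinite _)
      ⟨V₀, hV₀n, inf_le_left, le_rfl, fun h => hV₀c (h.trans inf_le_right)⟩
    haveI := hAn
    have hAA₀ : A ≤ A₀ := hAV.trans hV₀A
    letI instA : CommGroup A := { (inferInstance : Group A) with
      mul_comm := fun a b => Subtype.ext (hA₀comm a (hAA₀ a.2) b (hAA₀ b.2)) }
    set Z := Z₀.subgroupOf A with hZ
    haveI hZn : Z.Normal := ⟨fun a ha b => by rwa [mul_comm b a, mul_inv_cancel_right]⟩
    let ρ : G →* MulAut (A ⧸ Z) :=
      { toFun := fun g => QuotientGroup.congr Z Z (MulAut.conjNormal g) (by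
          ext a
          constructor
          · rintro ⟨b, hb, rfl⟩
            show ((MulAut.conjNormal g b : A) : G) ∈ Z₀
            rw [MulAut.conjNormal_apply, Subgroup.mem_center_iff.1 (show (b : G) ∈ Z₀ from hb).2 g,
              mul_inv_cancel_right]
            exact hb
          · intro ha
            refine ⟨a, ha, Subtype.ext ?_⟩
            show ((MulAut.conjNormal g a : A) : G) = a
            rw [MulAut.conjNormal_apply, Subgroup.mem_center_iff.1 (show (a : G) ∈ Z₀ from ha).2 g,
              mul_inv_cancel_right])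
        map_one' := MulEquiv.ext fun w => by
          induction w using QuotientGroup.induction_on with
          | H a => exact congrArg (QuotientGroup.mk (s := Z)) (Subtype.ext (by simp))
        map_mul' := fun g h => MulEquiv.ext fun w => by
          induction w using QuotientGroup.induction_on with
          | H a => exact congrArg (QuotientGroup.mk (s := Z)) (Subtype.ext (by simp [mul_assoc])) }
    have hρ : ∀ (g : G) (a : A), ρ g (QuotientGroup.mk a : A ⧸ Z)
        = QuotientGroup.mk (⟨g * a * g⁻¹, hAn.conj_mem a a.2 g⟩ : A) := fun g a =>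
      congrArg (QuotientGroup.mk (s := Z)) (Subtype.ext (MulAut.conjNormal_apply g a))
    set f := ρ.rangeRestrict with hf
    have hfs : Function.Surjective f := ρ.rangeRestrict_surjective
    have hfix : ∀ (g : G) (a : A), ρ g (QuotientGroup.mk a : A ⧸ Z) = QuotientGroup.mk a →
        g * (a : G) * g⁻¹ * (a : G)⁻¹ ∈ Z₀ := by
      intro g a h
      rw [hρ, QuotientGroup.eq] at h
      have h' : (g * (a : G) * g⁻¹)⁻¹ * (a : G) ∈ Z₀ := h
      have := Z₀.inv_mem h'
      rw [mul_inv_rev, inv_inv, hA₀comm _ (A₀.inv_mem (hAA₀ a.2)) _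
        (hAA₀ (hAn.conj_mem _ a.2 g))] at this
      exact this
    have hnt : ∀ a : A, (QuotientGroup.mk a : A ⧸ Z) ≠ 1 → (a : G) ∉ center G := fun a ha hc =>
      ha ((QuotientGroup.eq_one_iff a).2 ⟨hAV a.2, hc⟩)
    have hnice_move : ∀ x : G, Nice x → ∀ w : A ⧸ Z, w ≠ 1 → ρ x w ≠ w := by
      intro x hx w hw h
      induction w using QuotientGroup.induction_on with
      | H a =>
        obtain ⟨hp, h1⟩ := hclass a (hAV a.2) (hnt a hw)
        exact hyp.not_nice_commute (hA₀sq a (hAA₀ a.2)) hp h1 hx
          (hnofix x hx a (hAA₀ a.2) (hfix x a h).2)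
    obtain ⟨w₀, hw₀⟩ : ∃ w : A ⧸ Z, w ≠ 1 := by
      by_contra hall
      push Not at hall
      exact hAZ fun a ha => (QuotientGroup.eq_one_iff (⟨a, ha⟩ : A)).1 (hall _)
    have hfns : ¬ Group.IsSolvable ρ.range := by
      intro hs
      apply hns
      have hk : Group.IsSolvable f.ker := (structure_of_no_nice _ fun x hx hn' =>
        hnice_move x hn' w₀ hw₀ (by
          have : ρ x = 1 := congrArg Subtype.val (MonoidHom.mem_ker.1 hx)
          rw [this]; rfl)).2
      exact solvable_of_ker_le_range f.ker.subtype f (by rw [Subgroup.range_subtype])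
    have hperf : commutator ρ.range = ⊤ := by
      have htop : commutator G ⊔ A₀ = ⊤ := by
        by_contra hne
        haveI := hA₀n
        have hs := F1 _ (Subgroup.sup_normal _ _) hne t
          (mem_sup_right (Subgroup.subset_normalClosure (Set.mem_singleton t))) ht2 ht ht1
        exact not_solvable_commutator hns
          (solvable_of_solvable_injective
            (Subgroup.inclusion_injective (le_sup_left : commutator G ≤ commutator G ⊔ A₀)))
      have hker : A₀ ≤ f.ker := fun a ha => MonoidHom.mem_ker.2 (Subtype.ext (MulEquiv.ext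
        fun w => by
          induction w using QuotientGroup.induction_on with
          | H b =>
            show ρ a (QuotientGroup.mk b : A ⧸ Z) = QuotientGroup.mk b
            rw [hρ]
            refine congrArg (QuotientGroup.mk (s := Z)) (Subtype.ext ?_)
            show a * (b : G) * a⁻¹ = b
            rw [hA₀comm a ha b (hAA₀ b.2), mul_inv_cancel_right]))
      have h := congrArg (Subgroup.map f) htop
      rw [Subgroup.map_sup, (Subgroup.map_eq_bot_iff _).2 hker, sup_bot_eq,
        Subgroup.map_top_of_surjective f hfs] at h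
      rw [← top_le_iff, ← h, _root_.commutator_def, _root_.commutator_def,
        Subgroup.map_commutator]
      exact Subgroup.commutator_mono le_top le_top
    have hconf : Conf π ρ.range (A ⧸ Z) :=
      { two := hyp.two
        sq := fun w => by
          induction w using QuotientGroup.induction_on with
          | H a =>
            exact congrArg (QuotientGroup.mk (s := Z))
              (Subtype.ext (hA₀sq a (hAA₀ a.2)) : a * a = 1)
        faith := fun a h => Subtype.ext (MulEquiv.ext h)
        irred := fun U hU => by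
          let A' : Subgroup G := (U.comap (QuotientGroup.mk' Z)).map A.subtype
          have hA'n : A'.Normal := ⟨fun a ha g => by
            obtain ⟨a, ha, rfl⟩ := ha
            refine ⟨⟨g * a * g⁻¹, hAn.conj_mem a a.2 g⟩, ?_, rfl⟩
            have := hU (f g) _ ha
            show (QuotientGroup.mk _ : A ⧸ Z) ∈ U
            rw [← hρ]
            exact this⟩
          by_cases hle : A' ≤ Z₀
          · refine Or.inl ((Subgroup.eq_bot_iff_forall _).2 fun w hw => ?_)
            induction w using QuotientGroup.induction_on with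
            | H a => exact (QuotientGroup.eq_one_iff a).2 (hle ⟨a, hw, rfl⟩)
          · refine Or.inr ((Subgroup.eq_top_iff' _).2 fun w => ?_)
            have hZA' : Z₀ ≤ A' := fun z hz => ⟨⟨z, hZA hz⟩, by
              show (QuotientGroup.mk _ : A ⧸ Z) ∈ U
              rw [(QuotientGroup.eq_one_iff (⟨z, hZA hz⟩ : A)).2 hz]
              exact U.one_mem, rfl⟩
            have hA'A : A' ≤ A := Subgroup.map_subtype_le _
            have hAA' : A ≤ A' := hmin ⟨hA'n, hZA', hA'A.trans hAV, hle⟩ hA'A
            induction w using QuotientGroup.induction_on with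
            | H a =>
              obtain ⟨b, hb, e⟩ := hAA' a.2
              rw [show a = b from Subtype.ext e.symm]
              exact hb
        nontriv := ⟨w₀, hw₀⟩
        orb := fun v hv => by
          induction v using QuotientGroup.induction_on with
          | H a =>
            refine (hclass a (hAV a.2) (hnt a hv)).1.of_dvd ?_
            rw [← Subgroup.index_comap_of_surjective _ hfs]
            refine Subgroup.index_dvd_of_le fun g hg => MulAction.mem_stabilizer_iff.2 ?_
            show ρ g (QuotientGroup.mk a : A ⧸ Z) = QuotientGroup.mk a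
            rw [hρ]
            refine congrArg (QuotientGroup.mk (s := Z)) (Subtype.ext ?_)
            show g * (a : G) * g⁻¹ = a
            rw [mem_centralizer_singleton_iff.1 hg, mul_inv_cancel_right]
        fpf := fun y hy v hv h => by
          obtain ⟨x, rfl, hx⟩ := exists_nice_lift f hfs hy
          exact hnice_move x hx v hv h
        clspi := fun y hy => by
          obtain ⟨x, rfl, hx⟩ := exists_nice_lift f hfs hy
          exact (hx.piNum hyp).of_dvd (cls_map_dvd f hfs x)
        insol := hfns
        perfect := hperf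
        proper := fun L hL hLt => by
          haveI := hL
          haveI := hR.solvable
          have hLn : (L.comap f).Normal := hL.comap f
          haveI := hLn
          rcases F3 (L.comap f ⊔ R) (Subgroup.sup_normal _ _) le_sup_right with e | e
          · have : Group.IsSolvable (L.comap f) := solvable_of_solvable_injective
              (Subgroup.inclusion_injective (e ▸ le_sup_left : L.comap f ≤ R))
            exact solvable_of_surjective (f.subgroupComap_surjective_of_surjective L hfs)
          · exfalso
            apply hLt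
            have hsurj : Function.Surjective (((QuotientGroup.mk' L).comp f).comp R.subtype) := by
              intro q
              obtain ⟨y, rfl⟩ := QuotientGroup.mk'_surjective L q
              obtain ⟨g, rfl⟩ := hfs y
              have hg : g ∈ L.comap f ⊔ R := e ▸ Subgroup.mem_top g
              rw [Subgroup.mem_sup_of_normal_left] at hg
              obtain ⟨l, hl, r, hr, rfl⟩ := hg
              refine ⟨⟨r, hr⟩, ?_⟩
              show QuotientGroup.mk' L (f r) = QuotientGroup.mk' L (f (l * r))
              rw [map_mul f, map_mul (QuotientGroup.mk' L),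
                show QuotientGroup.mk' L (f l) = 1 from (QuotientGroup.eq_one_iff _).2 hl, one_mul]
            have hqs : Group.IsSolvable (ρ.range ⧸ L) := solvable_of_surjective hsurj
            by_contra hLne
            have : Nontrivial (ρ.range ⧸ L) := QuotientGroup.nontrivial_iff.2 hLne
            apply (IsSolvable.commutator_lt_top_of_nontrivial (G := ρ.range ⧸ L)).ne
            rw [← top_le_iff, ← Subgroup.map_top_of_surjective (QuotientGroup.mk' L)
              (QuotientGroup.mk'_surjective L), ← hperf, _root_.commutator_def,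
              _root_.commutator_def, Subgroup.map_commutator]
            exact Subgroup.commutator_mono le_top le_top }
    exact hconf.false

/-- A group in which every real class size is a `π`- or `π'`-number and some involution has a
non-trivial `π'`-class is soluble. -/
theorem solvable_of_hyp (hyp : Hyp π G) {t : G} (ht2 : t * t = 1) (ht : PiNum πᶜ (cls t))
    (ht1 : cls t ≠ 1) : Group.IsSolvable G :=
  solvable_of_hyp_aux (Nat.card G) G rfl hyp t ht2 ht ht1

end Cfsg.Agent.RealGraph
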